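import Cfsg.Agent.M24.Util

set_option autoImplicit false
set_option maxRecDepth 100000

namespace CA.M24

local notation "L" => Tr.leaf
local notation "N" => Tr.node

noncomputable def dodT : Tr :=(N (N (N (N (N (N (N (N (N 
(N (N (N L (nat_lit 28637) (nat_lit 1) L) (nat_lit 57274) (nat_lit 2) L) (nat_lit 89455) (nat_lit 3) (N (N L (nat_lit 109547) (nat_lit 4) L) (nat_lit 114548) (nat_lit 5) L)) (nat_lit 129431) (nat_lit 6) 
(N (N (N L (nat_lit 160251) (nat_lit 7) L) (nat_lit 165759) (nat_lit 8) L) (nat_lit 178910) (nat_lit 9) (N L (nat_lit 195645) (nat_lit 10) L))) (nat_lit 219094) (nat_lit 11) (N 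
(N (N (N L (nat_lit 223863) (nat_lit 12) L) (nat_lit 229096) (nat_lit 13) L) (nat_lit 236787) (nat_lit 14) (N L (nat_lit 243149) (nat_lit 15) L)) (nat_lit 249487) (nat_lit 16) 
(N (N (N L (nat_lit 255921) (nat_lit 17) L) (nat_lit 258862) (nat_lit 18) L) (nat_lit 293551) (nat_lit 19) (N L (nat_lit 319063) (nat_lit 20) L)))) (nat_lit 320502) (nat_lit 21) (N (N 
(N (N (N L (nat_lit 325481) (nat_lit 22) L) (nat_lit 331518) (nat_lit 23) L) (nat_lit 340831) (nat_lit 24) (N L (nat_lit 357820) (nat_lit 25) L)) (nat_lit 366503) (nat_lit 26) 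
(N (N (N L (nat_lit 376473) (nat_lit 27) L) (nat_lit 378331) (nat_lit 28) L) (nat_lit 388325) (nat_lit 29) (N L (nat_lit 391290) (nat_lit 30) L))) (nat_lit 401355) (nat_lit 31) (N 
(N (N (N L (nat_lit 407285) (nat_lit 32) L) (nat_lit 413111) (nat_lit 33) L) (nat_lit 438188) (nat_lit 34) (N L (nat_lit 441139) (nat_lit 35) L)) (nat_lit 447726) (nat_lit 36) 
(N (N (N L (nat_lit 452943) (nat_lit 37) L) (nat_lit 458192) (nat_lit 38) L) (nat_lit 470393) (nat_lit 39) (N L (nat_lit 473574) (nat_lit 40) L))))) (nat_lit 480827) (nat_lit 41) (N (N (N 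
(N (N (N L (nat_lit 486298) (nat_lit 42) L) (nat_lit 491269) (nat_lit 43) L) (nat_lit 498974) (nat_lit 44) (N L (nat_lit 499903) (nat_lit 45) L)) (nat_lit 511842) (nat_lit 46) 
(N (N (N L (nat_lit 517724) (nat_lit 47) L) (nat_lit 520899) (nat_lit 48) L) (nat_lit 540283) (nat_lit 49) (N L (nat_lit 570301) (nat_lit 50) L))) (nat_lit 575743) (nat_lit 51) (N 
(N (N (N L (nat_lit 587102) (nat_lit 52) L) (nat_lit 599543) (nat_lit 53) L) (nat_lit 614069) (nat_lit 54) (N L (nat_lit 620427) (nat_lit 55) L)) (nat_lit 638126) (nat_lit 56) 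
(N (N (N L (nat_lit 641004) (nat_lit 57) L) (nat_lit 643955) (nat_lit 58) L) (nat_lit 650962) (nat_lit 59) (N L (nat_lit 653901) (nat_lit 60) L)))) (nat_lit 663036) (nat_lit 61) (N (N 
(N (N (N L (nat_lit 678687) (nat_lit 62) L) (nat_lit 681662) (nat_lit 63) L) (nat_lit 699803) (nat_lit 64) (N L (nat_lit 710361) (nat_lit 65) L)) (nat_lit 715640) (nat_lit 66) 
(N (N (N L (nat_lit 725743) (nat_lit 67) L) (nat_lit 733006) (nat_lit 68) L) (nat_lit 736209) (nat_lit 69) (N L (nat_lit 747949) (nat_lit 70) L))) (nat_lit 752946) (nat_lit 71) (N 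
(N (N (N L (nat_lit 756662) (nat_lit 72) L) (nat_lit 761641) (nat_lit 73) L) (nat_lit 767511) (nat_lit 74) (N L (nat_lit 773461) (nat_lit 75) L)) (nat_lit 776650) (nat_lit 76) 
(N (N (N L (nat_lit 779371) (nat_lit 77) L) (nat_lit 782580) (nat_lit 78) L) (nat_lit 802710) (nat_lit 79) (N L (nat_lit 814570) (nat_lit 80) L)))))) (nat_lit 817525) (nat_lit 81) (N (N (N (N 
(N (N (N L (nat_lit 823281) (nat_lit 82) L) (nat_lit 826222) (nat_lit 83) L) (nat_lit 829135) (nat_lit 84) (N (N L (nat_lit 843149) (nat_lit 85) L) (nat_lit 849075) (nat_lit 86) L)) (nat_lit 858555) (nat_lit 87) 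
(N (N (N L (nat_lit 871367) (nat_lit 88) L) (nat_lit 876376) (nat_lit 89) L) (nat_lit 877305) (nat_lit 90) (N L (nat_lit 882278) (nat_lit 91) L))) (nat_lit 889981) (nat_lit 92) (N 
(N (N (N L (nat_lit 895452) (nat_lit 93) L) (nat_lit 900419) (nat_lit 94) L) (nat_lit 905886) (nat_lit 95) (N L (nat_lit 916384) (nat_lit 96) L)) (nat_lit 931119) (nat_lit 97) 
(N (N (N L (nat_lit 937581) (nat_lit 98) L) (nat_lit 940786) (nat_lit 99) L) (nat_lit 943955) (nat_lit 100) (N L (nat_lit 947148) (nat_lit 101) L)))) (nat_lit 954839) (nat_lit 102) (N (N 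
(N (N (N L (nat_lit 961654) (nat_lit 103) L) (nat_lit 964841) (nat_lit 104) L) (nat_lit 967595) (nat_lit 105) (N L (nat_lit 972596) (nat_lit 106) L)) (nat_lit 977557) (nat_lit 107) 
(N (N (N L (nat_lit 982538) (nat_lit 108) L) (nat_lit 984989) (nat_lit 109) L) (nat_lit 994979) (nat_lit 110) (N L (nat_lit 997948) (nat_lit 111) L))) (nat_lit 999806) (nat_lit 112) (N 
(N (N (N L (nat_lit 1005025) (nat_lit 113) L) (nat_lit 1018459) (nat_lit 114) L) (nat_lit 1023684) (nat_lit 115) (N L (nat_lit 1024869) (nat_lit 116) L)) (nat_lit 1035448) (nat_lit 117) 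
(N (N (N L (nat_lit 1038375) (nat_lit 118) L) (nat_lit 1041798) (nat_lit 119) L) (nat_lit 1044761) (nat_lit 120) (N L (nat_lit 1080566) (nat_lit 121) L))))) (nat_lit 1089261) (nat_lit 122) (N (N (N 
(N (N (N L (nat_lit 1095635) (nat_lit 123) L) (nat_lit 1107375) (nat_lit 124) L) (nat_lit 1137371) (nat_lit 125) (N L (nat_lit 1140602) (nat_lit 126) L)) (nat_lit 1143781) (nat_lit 127) 
(N (N (N L (nat_lit 1151486) (nat_lit 128) L) (nat_lit 1158239) (nat_lit 129) L) (nat_lit 1169181) (nat_lit 130) (N L (nat_lit 1174204) (nat_lit 131) L))) (nat_lit 1179171) (nat_lit 132) (N 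
(N (N (N L (nat_lit 1199086) (nat_lit 133) L) (nat_lit 1204081) (nat_lit 134) L) (nat_lit 1209935) (nat_lit 135) (N L (nat_lit 1223157) (nat_lit 136) L)) (nat_lit 1228138) (nat_lit 137) 
(N (N (N L (nat_lit 1233591) (nat_lit 138) L) (nat_lit 1240854) (nat_lit 139) L) (nat_lit 1244041) (nat_lit 140) (N L (nat_lit 1262845) (nat_lit 141) L)))) (nat_lit 1273283) (nat_lit 142) (N (N 
(N (N (N L (nat_lit 1276252) (nat_lit 143) L) (nat_lit 1282008) (nat_lit 144) L) (nat_lit 1284935) (nat_lit 145) (N L (nat_lit 1287910) (nat_lit 146) L)) (nat_lit 1290873) (nat_lit 147) 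
(N (N (N L (nat_lit 1296699) (nat_lit 148) L) (nat_lit 1301924) (nat_lit 149) L) (nat_lit 1307802) (nat_lit 150) (N L (nat_lit 1322855) (nat_lit 151) L))) (nat_lit 1326072) (nat_lit 152) (N 
(N (N (N L (nat_lit 1342747) (nat_lit 153) L) (nat_lit 1346463) (nat_lit 154) L) (nat_lit 1357374) (nat_lit 155) (N L (nat_lit 1363324) (nat_lit 156) L)) (nat_lit 1366499) (nat_lit 157) 
(N (N (N L (nat_lit 1372381) (nat_lit 158) L) (nat_lit 1383893) (nat_lit 159) L) (nat_lit 1389803) (nat_lit 160) (N L (nat_lit 1396649) (nat_lit 161) L))))))) (nat_lit 1399606) (nat_lit 162) (N (N (N (N (N 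
(N (N (N L (nat_lit 1402519) (nat_lit 163) L) (nat_lit 1420722) (nat_lit 164) L) (nat_lit 1423661) (nat_lit 165) (N (N L (nat_lit 1426031) (nat_lit 166) L) (nat_lit 1431280) (nat_lit 167) L)) (nat_lit 1436497) (nat_lit 168) 
(N (N (N L (nat_lit 1448063) (nat_lit 169) L) (nat_lit 1451486) (nat_lit 170) L) (nat_lit 1466012) (nat_lit 171) (N L (nat_lit 1467197) (nat_lit 172) L))) (nat_lit 1472418) (nat_lit 173) (N 
(N (N (N L (nat_lit 1480121) (nat_lit 174) L) (nat_lit 1490055) (nat_lit 175) L) (nat_lit 1492933) (nat_lit 176) (N L (nat_lit 1495898) (nat_lit 177) L)) (nat_lit 1505892) (nat_lit 178) 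
(N (N (N L (nat_lit 1508339) (nat_lit 179) L) (nat_lit 1513324) (nat_lit 180) L) (nat_lit 1518285) (nat_lit 181) (N L (nat_lit 1523282) (nat_lit 182) L)))) (nat_lit 1528207) (nat_lit 183) (N (N 
(N (N (N L (nat_lit 1535022) (nat_lit 184) L) (nat_lit 1538225) (nat_lit 185) L) (nat_lit 1543733) (nat_lit 186) (N L (nat_lit 1546922) (nat_lit 187) L)) (nat_lit 1550091) (nat_lit 188) 
(N (N (N L (nat_lit 1553300) (nat_lit 189) L) (nat_lit 1558742) (nat_lit 190) L) (nat_lit 1563721) (nat_lit 191) (N L (nat_lit 1565160) (nat_lit 192) L))) (nat_lit 1587663) (nat_lit 193) (N 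
(N (N (N L (nat_lit 1600435) (nat_lit 194) L) (nat_lit 1605420) (nat_lit 195) L) (nat_lit 1613111) (nat_lit 196) (N L (nat_lit 1625931) (nat_lit 197) L)) (nat_lit 1629140) (nat_lit 198) 
(N (N (N L (nat_lit 1631861) (nat_lit 199) L) (nat_lit 1635050) (nat_lit 200) L) (nat_lit 1641341) (nat_lit 201) (N L (nat_lit 1646562) (nat_lit 202) L))))) (nat_lit 1652444) (nat_lit 203) (N (N (N 
(N (N (N L (nat_lit 1658270) (nat_lit 204) L) (nat_lit 1667135) (nat_lit 205) L) (nat_lit 1672891) (nat_lit 206) (N L (nat_lit 1683333) (nat_lit 207) L)) (nat_lit 1686298) (nat_lit 208) 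
(N (N (N L (nat_lit 1692871) (nat_lit 209) L) (nat_lit 1698150) (nat_lit 210) L) (nat_lit 1707735) (nat_lit 211) (N L (nat_lit 1714153) (nat_lit 212) L))) (nat_lit 1717110) (nat_lit 213) (N 
(N (N (N L (nat_lit 1727659) (nat_lit 214) L) (nat_lit 1734037) (nat_lit 215) L) (nat_lit 1742734) (nat_lit 216) (N L (nat_lit 1747503) (nat_lit 217) L)) (nat_lit 1752752) (nat_lit 218) 
(N (N (N L (nat_lit 1754610) (nat_lit 219) L) (nat_lit 1757549) (nat_lit 220) L) (nat_lit 1764556) (nat_lit 221) (N L (nat_lit 1767507) (nat_lit 222) L)))) (nat_lit 1774939) (nat_lit 223) (N (N 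
(N (N (N L (nat_lit 1779962) (nat_lit 224) L) (nat_lit 1784933) (nat_lit 225) L) (nat_lit 1787687) (nat_lit 226) (N L (nat_lit 1790904) (nat_lit 227) L)) (nat_lit 1797657) (nat_lit 228) 
(N (N (N L (nat_lit 1800838) (nat_lit 229) L) (nat_lit 1808541) (nat_lit 230) L) (nat_lit 1811772) (nat_lit 231) (N L (nat_lit 1814947) (nat_lit 232) L))) (nat_lit 1821409) (nat_lit 233) (N 
(N (N (N L (nat_lit 1832768) (nat_lit 234) L) (nat_lit 1846461) (nat_lit 235) L) (nat_lit 1862238) (nat_lit 236) (N L (nat_lit 1867457) (nat_lit 237) L)) (nat_lit 1875162) (nat_lit 238) 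
(N (N (N L (nat_lit 1876347) (nat_lit 239) L) (nat_lit 1881572) (nat_lit 240) L) (nat_lit 1887910) (nat_lit 241) (N L (nat_lit 1890873) (nat_lit 242) L)))))) (nat_lit 1894296) (nat_lit 243) (N (N (N (N 
(N (N (N L (nat_lit 1897223) (nat_lit 244) L) (nat_lit 1908239) (nat_lit 245) L) (nat_lit 1909678) (nat_lit 246) (N L (nat_lit 1914673) (nat_lit 247) L)) (nat_lit 1920115) (nat_lit 248) 
(N (N (N L (nat_lit 1923308) (nat_lit 249) L) (nat_lit 1926477) (nat_lit 250) L) (nat_lit 1929682) (nat_lit 251) (N L (nat_lit 1935190) (nat_lit 252) L))) (nat_lit 1938377) (nat_lit 253) (N 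
(N (N (N L (nat_lit 1945192) (nat_lit 254) L) (nat_lit 1950133) (nat_lit 255) L) (nat_lit 1955114) (nat_lit 256) (N L (nat_lit 1960075) (nat_lit 257) L)) (nat_lit 1965076) (nat_lit 258) 
(N (N (N L (nat_lit 1969978) (nat_lit 259) L) (nat_lit 1973157) (nat_lit 260) L) (nat_lit 1979035) (nat_lit 261) (N L (nat_lit 1984985) (nat_lit 262) L)))) (nat_lit 1989958) (nat_lit 263) (N (N 
(N (N (N L (nat_lit 1990887) (nat_lit 264) L) (nat_lit 1995896) (nat_lit 265) L) (nat_lit 1999612) (nat_lit 266) (N L (nat_lit 2004579) (nat_lit 267) L)) (nat_lit 2010050) (nat_lit 268) 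
(N (N (N L (nat_lit 2016287) (nat_lit 269) L) (nat_lit 2026785) (nat_lit 270) L) (nat_lit 2036918) (nat_lit 271) (N L (nat_lit 2042135) (nat_lit 272) L))) (nat_lit 2047368) (nat_lit 273) (N 
(N (N (N L (nat_lit 2049738) (nat_lit 274) L) (nat_lit 2052693) (nat_lit 275) L) (nat_lit 2070896) (nat_lit 276) (N L (nat_lit 2073809) (nat_lit 277) L)) (nat_lit 2076750) (nat_lit 278) 
(N (N (N L (nat_lit 2083596) (nat_lit 279) L) (nat_lit 2089522) (nat_lit 280) L) (nat_lit 2104311) (nat_lit 281) (N L (nat_lit 2146063) (nat_lit 282) L))))) (nat_lit 2157939) (nat_lit 283) (N (N (N 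
(N (N (N L (nat_lit 2161132) (nat_lit 284) L) (nat_lit 2178522) (nat_lit 285) L) (nat_lit 2191270) (nat_lit 286) (N L (nat_lit 2194233) (nat_lit 287) L)) (nat_lit 2198973) (nat_lit 288) 
(N (N (N L (nat_lit 2214750) (nat_lit 289) L) (nat_lit 2219969) (nat_lit 290) L) (nat_lit 2239727) (nat_lit 291) (N L (nat_lit 2250669) (nat_lit 292) L))) (nat_lit 2260627) (nat_lit 293) (N 
(N (N (N L (nat_lit 2274742) (nat_lit 294) L) (nat_lit 2281204) (nat_lit 295) L) (nat_lit 2284139) (nat_lit 296) (N L (nat_lit 2287562) (nat_lit 297) L)) (nat_lit 2290517) (nat_lit 298) 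
(N (N (N L (nat_lit 2301533) (nat_lit 299) L) (nat_lit 2302972) (nat_lit 300) L) (nat_lit 2307939) (nat_lit 301) (N L (nat_lit 2316478) (nat_lit 302) L)))) (nat_lit 2319647) (nat_lit 303) (N (N 
(N (N (N L (nat_lit 2331547) (nat_lit 304) L) (nat_lit 2338362) (nat_lit 305) L) (nat_lit 2341541) (nat_lit 306) (N L (nat_lit 2343399) (nat_lit 307) L)) (nat_lit 2348408) (nat_lit 308) 
(N (N (N L (nat_lit 2353369) (nat_lit 309) L) (nat_lit 2358342) (nat_lit 310) L) (nat_lit 2369467) (nat_lit 311) (N L (nat_lit 2383097) (nat_lit 312) L))) (nat_lit 2389447) (nat_lit 313) (N 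
(N (N (N L (nat_lit 2398172) (nat_lit 314) L) (nat_lit 2402941) (nat_lit 315) L) (nat_lit 2408162) (nat_lit 316) (N L (nat_lit 2412863) (nat_lit 317) L)) (nat_lit 2419870) (nat_lit 318) 
(N (N (N L (nat_lit 2440247) (nat_lit 319) L) (nat_lit 2443125) (nat_lit 320) L) (nat_lit 2446314) (nat_lit 321) (N L (nat_lit 2453067) (nat_lit 322) L)))))))) (nat_lit 2456276) (nat_lit 323) (N (N (N (N (N (N 
(N (N (N L (nat_lit 2463951) (nat_lit 324) L) (nat_lit 2467182) (nat_lit 325) L) (nat_lit 2470385) (nat_lit 326) (N (N L (nat_lit 2476723) (nat_lit 327) L) (nat_lit 2481708) (nat_lit 328) L)) (nat_lit 2483085) (nat_lit 329) 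
(N (N (N L (nat_lit 2488082) (nat_lit 330) L) (nat_lit 2505117) (nat_lit 331) L) (nat_lit 2507487) (nat_lit 332) (N L (nat_lit 2517985) (nat_lit 333) L))) (nat_lit 2525690) (nat_lit 334) (N 
(N (N (N L (nat_lit 2530661) (nat_lit 335) L) (nat_lit 2536539) (nat_lit 336) L) (nat_lit 2543385) (nat_lit 337) (N L (nat_lit 2546566) (nat_lit 338) L)) (nat_lit 2549287) (nat_lit 339) 
(N (N (N L (nat_lit 2552504) (nat_lit 340) L) (nat_lit 2558767) (nat_lit 341) L) (nat_lit 2564016) (nat_lit 342) (N L (nat_lit 2569870) (nat_lit 343) L)))) (nat_lit 2575820) (nat_lit 344) (N (N 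
(N (N (N L (nat_lit 2578771) (nat_lit 345) L) (nat_lit 2581746) (nat_lit 346) L) (nat_lit 2584685) (nat_lit 347) (N L (nat_lit 2590441) (nat_lit 348) L)) (nat_lit 2593398) (nat_lit 349) 
(N (N (N L (nat_lit 2603848) (nat_lit 350) L) (nat_lit 2610325) (nat_lit 351) L) (nat_lit 2615604) (nat_lit 352) (N L (nat_lit 2645710) (nat_lit 353) L))) (nat_lit 2646895) (nat_lit 354) (N 
(N (N (N L (nat_lit 2652144) (nat_lit 355) L) (nat_lit 2659819) (nat_lit 356) L) (nat_lit 2669781) (nat_lit 357) (N L (nat_lit 2672535) (nat_lit 358) L)) (nat_lit 2682537) (nat_lit 359) 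
(N (N (N L (nat_lit 2685494) (nat_lit 360) L) (nat_lit 2692926) (nat_lit 361) L) (nat_lit 2697887) (nat_lit 362) (N L (nat_lit 2707933) (nat_lit 363) L))))) (nat_lit 2714748) (nat_lit 364) (N (N (N 
(N (N (N L (nat_lit 2717923) (nat_lit 365) L) (nat_lit 2723431) (nat_lit 366) L) (nat_lit 2726648) (nat_lit 367) (N L (nat_lit 2729817) (nat_lit 368) L)) (nat_lit 2732998) (nat_lit 369) 
(N (N (N L (nat_lit 2743323) (nat_lit 370) L) (nat_lit 2744762) (nat_lit 371) L) (nat_lit 2749733) (nat_lit 372) (N L (nat_lit 2764597) (nat_lit 373) L))) (nat_lit 2767786) (nat_lit 374) (N 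
(N (N (N L (nat_lit 2774135) (nat_lit 375) L) (nat_lit 2779606) (nat_lit 376) L) (nat_lit 2784585) (nat_lit 377) (N L (nat_lit 2788301) (nat_lit 378) L)) (nat_lit 2793298) (nat_lit 379) 
(N (N (N L (nat_lit 2794227) (nat_lit 380) L) (nat_lit 2799212) (nat_lit 381) L) (nat_lit 2805038) (nat_lit 382) (N L (nat_lit 2808241) (nat_lit 383) L)))) (nat_lit 2814095) (nat_lit 384) (N (N 
(N (N (N L (nat_lit 2825607) (nat_lit 385) L) (nat_lit 2831545) (nat_lit 386) L) (nat_lit 2841444) (nat_lit 387) (N L (nat_lit 2844357) (nat_lit 388) L)) (nat_lit 2847322) (nat_lit 389) 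
(N (N (N L (nat_lit 2852062) (nat_lit 390) L) (nat_lit 2862560) (nat_lit 391) L) (nat_lit 2867773) (nat_lit 392) (N L (nat_lit 2872994) (nat_lit 393) L))) (nat_lit 2878211) (nat_lit 394) (N 
(N (N (N L (nat_lit 2887007) (nat_lit 395) L) (nat_lit 2896126) (nat_lit 396) L) (nat_lit 2902972) (nat_lit 397) (N L (nat_lit 2907939) (nat_lit 398) L)) (nat_lit 2913821) (nat_lit 399) 
(N (N (N L (nat_lit 2927015) (nat_lit 400) L) (nat_lit 2932024) (nat_lit 401) L) (nat_lit 2934394) (nat_lit 402) (N L (nat_lit 2937573) (nat_lit 403) L)))))) (nat_lit 2944836) (nat_lit 404) (N (N (N (N 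
(N (N (N L (nat_lit 2954963) (nat_lit 405) L) (nat_lit 2960242) (nat_lit 406) L) (nat_lit 2966703) (nat_lit 407) (N L (nat_lit 2977169) (nat_lit 408) L)) (nat_lit 2980110) (nat_lit 409) 
(N (N (N L (nat_lit 2985866) (nat_lit 410) L) (nat_lit 2988821) (nat_lit 411) L) (nat_lit 2991796) (nat_lit 412) (N L (nat_lit 2994731) (nat_lit 413) L))) (nat_lit 3000681) (nat_lit 414) (N 
(N (N (N L (nat_lit 3006551) (nat_lit 415) L) (nat_lit 3011784) (nat_lit 416) L) (nat_lit 3016678) (nat_lit 417) (N L (nat_lit 3019641) (nat_lit 418) L)) (nat_lit 3026648) (nat_lit 419) 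
(N (N (N L (nat_lit 3029575) (nat_lit 420) L) (nat_lit 3036570) (nat_lit 421) L) (nat_lit 3041339) (nat_lit 422) (N L (nat_lit 3046564) (nat_lit 423) L)))) (nat_lit 3056414) (nat_lit 424) (N (N 
(N (N (N L (nat_lit 3061633) (nat_lit 425) L) (nat_lit 3067075) (nat_lit 426) L) (nat_lit 3070044) (nat_lit 427) (N L (nat_lit 3076450) (nat_lit 428) L)) (nat_lit 3082485) (nat_lit 429) 
(N (N (N L (nat_lit 3087466) (nat_lit 430) L) (nat_lit 3088843) (nat_lit 431) L) (nat_lit 3093844) (nat_lit 432) (N L (nat_lit 3100182) (nat_lit 433) L))) (nat_lit 3103369) (nat_lit 434) (N 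
(N (N (N L (nat_lit 3106600) (nat_lit 435) L) (nat_lit 3114291) (nat_lit 436) L) (nat_lit 3117484) (nat_lit 437) (N L (nat_lit 3124237) (nat_lit 438) L)) (nat_lit 3127442) (nat_lit 439) 
(N (N (N L (nat_lit 3130320) (nat_lit 440) L) (nat_lit 3159421) (nat_lit 441) L) (nat_lit 3165759) (nat_lit 442) (N L (nat_lit 3175326) (nat_lit 443) L))))) (nat_lit 3193019) (nat_lit 444) (N (N (N 
(N (N (N L (nat_lit 3195897) (nat_lit 445) L) (nat_lit 3200870) (nat_lit 446) L) (nat_lit 3205831) (nat_lit 447) (N L (nat_lit 3210840) (nat_lit 448) L)) (nat_lit 3213263) (nat_lit 449) 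
(N (N (N L (nat_lit 3223281) (nat_lit 450) L) (nat_lit 3226222) (nat_lit 451) L) (nat_lit 3233203) (nat_lit 452) (N L (nat_lit 3243149) (nat_lit 453) L))) (nat_lit 3251862) (nat_lit 454) (N 
(N (N (N L (nat_lit 3253047) (nat_lit 455) L) (nat_lit 3258280) (nat_lit 456) L) (nat_lit 3263722) (nat_lit 457) (N L (nat_lit 3266677) (nat_lit 458) L)) (nat_lit 3270100) (nat_lit 459) 
(N (N (N L (nat_lit 3273035) (nat_lit 460) L) (nat_lit 3282682) (nat_lit 461) L) (nat_lit 3287899) (nat_lit 462) (N L (nat_lit 3293124) (nat_lit 463) L)))) (nat_lit 3304888) (nat_lit 464) (N (N 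
(N (N (N L (nat_lit 3307815) (nat_lit 465) L) (nat_lit 3313571) (nat_lit 466) L) (nat_lit 3316540) (nat_lit 467) (N L (nat_lit 3319453) (nat_lit 468) L)) (nat_lit 3334270) (nat_lit 469) 
(N (N (N L (nat_lit 3339489) (nat_lit 470) L) (nat_lit 3345782) (nat_lit 471) L) (nat_lit 3348969) (nat_lit 472) (N L (nat_lit 3354839) (nat_lit 473) L))) (nat_lit 3361685) (nat_lit 474) (N 
(N (N (N L (nat_lit 3366666) (nat_lit 475) L) (nat_lit 3367595) (nat_lit 476) L) (nat_lit 3372596) (nat_lit 477) (N L (nat_lit 3380271) (nat_lit 478) L)) (nat_lit 3385742) (nat_lit 479) 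
(N (N (N L (nat_lit 3390737) (nat_lit 480) L) (nat_lit 3393107) (nat_lit 481) L) (nat_lit 3396300) (nat_lit 482) (N L (nat_lit 3415470) (nat_lit 483) L))))))) (nat_lit 3428306) (nat_lit 484) (N (N (N (N (N 
(N (N (N L (nat_lit 3431245) (nat_lit 485) L) (nat_lit 3434220) (nat_lit 486) L) (nat_lit 3437171) (nat_lit 487) (N (N L (nat_lit 3441911) (nat_lit 488) L) (nat_lit 3452361) (nat_lit 489) L)) (nat_lit 3455318) (nat_lit 490) 
(N (N (N L (nat_lit 3462795) (nat_lit 491) L) (nat_lit 3468074) (nat_lit 492) L) (nat_lit 3478205) (nat_lit 493) (N L (nat_lit 3485468) (nat_lit 494) L))) (nat_lit 3488643) (nat_lit 495) (N 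
(N (N (N L (nat_lit 3495006) (nat_lit 496) L) (nat_lit 3505504) (nat_lit 497) L) (nat_lit 3509220) (nat_lit 498) (N L (nat_lit 3515098) (nat_lit 499) L)) (nat_lit 3520069) (nat_lit 500) 
(N (N (N L (nat_lit 3525895) (nat_lit 501) L) (nat_lit 3529112) (nat_lit 502) L) (nat_lit 3531833) (nat_lit 503) (N L (nat_lit 3535014) (nat_lit 504) L)))) (nat_lit 3544855) (nat_lit 505) (N (N 
(N (N (N L (nat_lit 3549878) (nat_lit 506) L) (nat_lit 3554857) (nat_lit 507) L) (nat_lit 3556715) (nat_lit 508) (N L (nat_lit 3559924) (nat_lit 509) L)) (nat_lit 3566677) (nat_lit 510) 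
(N (N (N L (nat_lit 3569866) (nat_lit 511) L) (nat_lit 3575374) (nat_lit 512) L) (nat_lit 3578577) (nat_lit 513) (N L (nat_lit 3581808) (nat_lit 514) L))) (nat_lit 3590317) (nat_lit 515) (N 
(N (N (N L (nat_lit 3595314) (nat_lit 516) L) (nat_lit 3596691) (nat_lit 517) L) (nat_lit 3601676) (nat_lit 518) (N L (nat_lit 3607707) (nat_lit 519) L)) (nat_lit 3614117) (nat_lit 520) 
(N (N (N L (nat_lit 3617082) (nat_lit 521) L) (nat_lit 3623544) (nat_lit 522) L) (nat_lit 3629894) (nat_lit 523) (N L (nat_lit 3637597) (nat_lit 524) L))))) (nat_lit 3642818) (nat_lit 525) (N (N (N 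
(N (N (N L (nat_lit 3647587) (nat_lit 526) L) (nat_lit 3658529) (nat_lit 527) L) (nat_lit 3665536) (nat_lit 528) (N L (nat_lit 3678105) (nat_lit 529) L)) (nat_lit 3684007) (nat_lit 530) 
(N (N (N L (nat_lit 3689957) (nat_lit 531) L) (nat_lit 3692922) (nat_lit 532) L) (nat_lit 3695835) (nat_lit 533) (N L (nat_lit 3707487) (nat_lit 534) L))) (nat_lit 3717985) (nat_lit 535) (N 
(N (N (N L (nat_lit 3724476) (nat_lit 536) L) (nat_lit 3729693) (nat_lit 537) L) (nat_lit 3734914) (nat_lit 538) (N L (nat_lit 3747115) (nat_lit 539) L)) (nat_lit 3750324) (nat_lit 540) 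
(N (N (N L (nat_lit 3752694) (nat_lit 541) L) (nat_lit 3757673) (nat_lit 542) L) (nat_lit 3763144) (nat_lit 543) (N L (nat_lit 3770835) (nat_lit 544) L)))) (nat_lit 3775820) (nat_lit 545) (N (N 
(N (N (N L (nat_lit 3776749) (nat_lit 546) L) (nat_lit 3781746) (nat_lit 547) L) (nat_lit 3788592) (nat_lit 548) (N L (nat_lit 3794446) (nat_lit 549) L)) (nat_lit 3797649) (nat_lit 550) 
(N (N (N L (nat_lit 3801535) (nat_lit 551) L) (nat_lit 3816478) (nat_lit 552) L) (nat_lit 3819356) (nat_lit 553) (N L (nat_lit 3822531) (nat_lit 554) L))) (nat_lit 3829346) (nat_lit 555) (N 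
(N (N (N L (nat_lit 3837049) (nat_lit 556) L) (nat_lit 3840230) (nat_lit 557) L) (nat_lit 3843399) (nat_lit 558) (N L (nat_lit 3846616) (nat_lit 559) L)) (nat_lit 3852954) (nat_lit 560) 
(N (N (N L (nat_lit 3857925) (nat_lit 561) L) (nat_lit 3859364) (nat_lit 562) L) (nat_lit 3870380) (nat_lit 563) (N L (nat_lit 3873331) (nat_lit 564) L)))))) (nat_lit 3876754) (nat_lit 565) (N (N (N (N 
(N (N (N L (nat_lit 3879693) (nat_lit 566) L) (nat_lit 3885135) (nat_lit 567) L) (nat_lit 3890384) (nat_lit 568) (N L (nat_lit 3891569) (nat_lit 569) L)) (nat_lit 3900266) (nat_lit 570) 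
(N (N (N L (nat_lit 3910228) (nat_lit 571) L) (nat_lit 3917193) (nat_lit 572) L) (nat_lit 3920150) (nat_lit 573) (N L (nat_lit 3930152) (nat_lit 574) L))) (nat_lit 3934955) (nat_lit 575) (N 
(N (N (N L (nat_lit 3939956) (nat_lit 576) L) (nat_lit 3941333) (nat_lit 577) L) (nat_lit 3946314) (nat_lit 578) (N L (nat_lit 3954839) (nat_lit 579) L)) (nat_lit 3958070) (nat_lit 580) 
(N (N (N L (nat_lit 3961257) (nat_lit 581) L) (nat_lit 3966765) (nat_lit 582) L) (nat_lit 3969970) (nat_lit 583) (N L (nat_lit 3976723) (nat_lit 584) L)))) (nat_lit 3979916) (nat_lit 585) (N (N 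
(N (N (N L (nat_lit 3981774) (nat_lit 586) L) (nat_lit 3986769) (nat_lit 587) L) (nat_lit 3991792) (nat_lit 588) (N L (nat_lit 3999224) (nat_lit 589) L)) (nat_lit 4002151) (nat_lit 590) 
(N (N (N L (nat_lit 4009158) (nat_lit 591) L) (nat_lit 4012121) (nat_lit 592) L) (nat_lit 4014875) (nat_lit 593) (N L (nat_lit 4020100) (nat_lit 594) L))) (nat_lit 4024869) (nat_lit 595) (N 
(N (N (N L (nat_lit 4032574) (nat_lit 596) L) (nat_lit 4037793) (nat_lit 597) L) (nat_lit 4053570) (nat_lit 598) (N L (nat_lit 4068557) (nat_lit 599) L)) (nat_lit 4073836) (nat_lit 600) 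
(N (N (N L (nat_lit 4081329) (nat_lit 601) L) (nat_lit 4084270) (nat_lit 602) L) (nat_lit 4094736) (nat_lit 603) (N L (nat_lit 4099476) (nat_lit 604) L))))) (nat_lit 4102411) (nat_lit 605) (N (N (N 
(N (N (N L (nat_lit 4105386) (nat_lit 606) L) (nat_lit 4108341) (nat_lit 607) L) (nat_lit 4121161) (nat_lit 608) (N L (nat_lit 4132673) (nat_lit 609) L)) (nat_lit 4141792) (nat_lit 610) 
(N (N (N L (nat_lit 4147618) (nat_lit 611) L) (nat_lit 4153500) (nat_lit 612) L) (nat_lit 4158467) (nat_lit 613) (N L (nat_lit 4162183) (nat_lit 614) L))) (nat_lit 4167192) (nat_lit 615) (N 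
(N (N (N L (nat_lit 4179044) (nat_lit 616) L) (nat_lit 4208622) (nat_lit 617) L) (nat_lit 4239031) (nat_lit 618) (N L (nat_lit 4249077) (nat_lit 619) L)) (nat_lit 4259019) (nat_lit 620) 
(N (N (N L (nat_lit 4274429) (nat_lit 621) L) (nat_lit 4277183) (nat_lit 622) L) (nat_lit 4292126) (nat_lit 623) (N L (nat_lit 4306235) (nat_lit 624) L)))) (nat_lit 4312697) (nat_lit 625) (N (N 
(N (N (N L (nat_lit 4315878) (nat_lit 626) L) (nat_lit 4319047) (nat_lit 627) L) (nat_lit 4322264) (nat_lit 628) (N L (nat_lit 4341079) (nat_lit 629) L)) (nat_lit 4353835) (nat_lit 630) 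
(N (N (N L (nat_lit 4357044) (nat_lit 631) L) (nat_lit 4364719) (nat_lit 632) L) (nat_lit 4377555) (nat_lit 633) (N L (nat_lit 4382540) (nat_lit 634) L))) (nat_lit 4383469) (nat_lit 635) (N 
(N (N (N L (nat_lit 4388466) (nat_lit 636) L) (nat_lit 4394981) (nat_lit 637) L) (nat_lit 4397946) (nat_lit 638) (N L (nat_lit 4400859) (nat_lit 639) L)) (nat_lit 4414873) (nat_lit 640) 
(N (N (N L (nat_lit 4420775) (nat_lit 641) L) (nat_lit 4429500) (nat_lit 642) L) (nat_lit 4434717) (nat_lit 643) (N L (nat_lit 4439938) (nat_lit 644) L))))))))) (nat_lit 4444255) (nat_lit 645) (N (N (N (N (N (N (N 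
(N (N (N L (nat_lit 4454753) (nat_lit 646) L) (nat_lit 4464445) (nat_lit 647) L) (nat_lit 4479454) (nat_lit 648) (N (N L (nat_lit 4482175) (nat_lit 649) L) (nat_lit 4494075) (nat_lit 650) L)) (nat_lit 4501338) (nat_lit 651) 
(N (N (N L (nat_lit 4504517) (nat_lit 652) L) (nat_lit 4516281) (nat_lit 653) L) (nat_lit 4521254) (nat_lit 654) (N L (nat_lit 4533647) (nat_lit 655) L))) (nat_lit 4544205) (nat_lit 656) (N 
(N (N (N L (nat_lit 4549484) (nat_lit 657) L) (nat_lit 4557175) (nat_lit 658) L) (nat_lit 4562408) (nat_lit 659) (N L (nat_lit 4568278) (nat_lit 660) L)) (nat_lit 4575124) (nat_lit 661) 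
(N (N (N L (nat_lit 4578059) (nat_lit 662) L) (nat_lit 4581034) (nat_lit 663) L) (nat_lit 4583989) (nat_lit 664) (N L (nat_lit 4603066) (nat_lit 665) L)))) (nat_lit 4605944) (nat_lit 666) (N (N 
(N (N (N L (nat_lit 4608871) (nat_lit 667) L) (nat_lit 4615878) (nat_lit 668) L) (nat_lit 4618841) (nat_lit 669) (N L (nat_lit 4623581) (nat_lit 670) L)) (nat_lit 4629987) (nat_lit 671) 
(N (N (N L (nat_lit 4632956) (nat_lit 672) L) (nat_lit 4639294) (nat_lit 673) L) (nat_lit 4644513) (nat_lit 674) (N L (nat_lit 4659863) (nat_lit 675) L))) (nat_lit 4663094) (nat_lit 676) (N 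
(N (N (N L (nat_lit 4666281) (nat_lit 677) L) (nat_lit 4671723) (nat_lit 678) L) (nat_lit 4676724) (nat_lit 679) (N L (nat_lit 4678101) (nat_lit 680) L)) (nat_lit 4683082) (nat_lit 681) 
(N (N (N L (nat_lit 4686798) (nat_lit 682) L) (nat_lit 4691793) (nat_lit 683) L) (nat_lit 4696816) (nat_lit 684) (N L (nat_lit 4703533) (nat_lit 685) L))))) (nat_lit 4706738) (nat_lit 686) (N (N (N 
(N (N (N L (nat_lit 4713491) (nat_lit 687) L) (nat_lit 4716684) (nat_lit 688) L) (nat_lit 4738934) (nat_lit 689) (N L (nat_lit 4742121) (nat_lit 690) L)) (nat_lit 4747991) (nat_lit 691) 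
(N (N (N L (nat_lit 4762989) (nat_lit 692) L) (nat_lit 4766194) (nat_lit 693) L) (nat_lit 4773423) (nat_lit 694) (N L (nat_lit 4778894) (nat_lit 695) L))) (nat_lit 4783889) (nat_lit 696) (N 
(N (N (N L (nat_lit 4796344) (nat_lit 697) L) (nat_lit 4799271) (nat_lit 698) L) (nat_lit 4805882) (nat_lit 699) (N L (nat_lit 4811099) (nat_lit 700) L)) (nat_lit 4816324) (nat_lit 701) 
(N (N (N L (nat_lit 4825726) (nat_lit 702) L) (nat_lit 4830945) (nat_lit 703) L) (nat_lit 4836771) (nat_lit 704) (N L (nat_lit 4839740) (nat_lit 705) L)))) (nat_lit 4842653) (nat_lit 706) (N (N 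
(N (N (N L (nat_lit 4855731) (nat_lit 707) L) (nat_lit 4865677) (nat_lit 708) L) (nat_lit 4867535) (nat_lit 709) (N L (nat_lit 4877553) (nat_lit 710) L)) (nat_lit 4880494) (nat_lit 711) 
(N (N (N L (nat_lit 4886250) (nat_lit 712) L) (nat_lit 4889205) (nat_lit 713) L) (nat_lit 4892628) (nat_lit 714) (N L (nat_lit 4895563) (nat_lit 715) L))) (nat_lit 4906134) (nat_lit 716) (N 
(N (N (N L (nat_lit 4907319) (nat_lit 717) L) (nat_lit 4912552) (nat_lit 718) L) (nat_lit 4918335) (nat_lit 719) (N L (nat_lit 4927902) (nat_lit 720) L)) (nat_lit 4934364) (nat_lit 721) 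
(N (N (N L (nat_lit 4939331) (nat_lit 722) L) (nat_lit 4940770) (nat_lit 723) L) (nat_lit 4948473) (nat_lit 724) (N L (nat_lit 4953446) (nat_lit 725) L)))))) (nat_lit 4958407) (nat_lit 726) (N (N (N (N 
(N (N (N L (nat_lit 4963416) (nat_lit 727) L) (nat_lit 4966170) (nat_lit 728) L) (nat_lit 4969349) (nat_lit 729) (N L (nat_lit 4976164) (nat_lit 730) L)) (nat_lit 4988135) (nat_lit 731) 
(N (N (N L (nat_lit 4994521) (nat_lit 732) L) (nat_lit 5000859) (nat_lit 733) L) (nat_lit 5007269) (nat_lit 734) (N L (nat_lit 5010234) (nat_lit 735) L))) (nat_lit 5014974) (nat_lit 736) (N 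
(N (N (N L (nat_lit 5027871) (nat_lit 737) L) (nat_lit 5030749) (nat_lit 738) L) (nat_lit 5035970) (nat_lit 739) (N L (nat_lit 5040739) (nat_lit 740) L)) (nat_lit 5048171) (nat_lit 741) 
(N (N (N L (nat_lit 5051380) (nat_lit 742) L) (nat_lit 5058133) (nat_lit 743) L) (nat_lit 5061322) (nat_lit 744) (N L (nat_lit 5068055) (nat_lit 745) L)))) (nat_lit 5073078) (nat_lit 746) (N (N 
(N (N (N L (nat_lit 5078057) (nat_lit 747) L) (nat_lit 5081773) (nat_lit 748) L) (nat_lit 5086770) (nat_lit 749) (N L (nat_lit 5088147) (nat_lit 750) L)) (nat_lit 5093132) (nat_lit 751) 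
(N (N (N L (nat_lit 5098574) (nat_lit 752) L) (nat_lit 5101777) (nat_lit 753) L) (nat_lit 5105008) (nat_lit 754) (N L (nat_lit 5117534) (nat_lit 755) L))) (nat_lit 5128032) (nat_lit 756) (N 
(N (N (N L (nat_lit 5132477) (nat_lit 757) L) (nat_lit 5139740) (nat_lit 758) L) (nat_lit 5142915) (nat_lit 759) (N L (nat_lit 5148423) (nat_lit 760) L)) (nat_lit 5151640) (nat_lit 761) 
(N (N (N L (nat_lit 5154361) (nat_lit 762) L) (nat_lit 5157542) (nat_lit 763) L) (nat_lit 5163492) (nat_lit 764) (N L (nat_lit 5169370) (nat_lit 765) L))))) (nat_lit 5174341) (nat_lit 766) (N (N (N 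
(N (N (N L (nat_lit 5180882) (nat_lit 767) L) (nat_lit 5183821) (nat_lit 768) L) (nat_lit 5186796) (nat_lit 769) (N L (nat_lit 5189747) (nat_lit 770) L)) (nat_lit 5196593) (nat_lit 771) 
(N (N (N L (nat_lit 5202447) (nat_lit 772) L) (nat_lit 5207696) (nat_lit 773) L) (nat_lit 5215371) (nat_lit 774) (N L (nat_lit 5220650) (nat_lit 775) L))) (nat_lit 5231208) (nat_lit 776) (N 
(N (N (N L (nat_lit 5246459) (nat_lit 777) L) (nat_lit 5267335) (nat_lit 778) L) (nat_lit 5273273) (nat_lit 779) (N L (nat_lit 5291420) (nat_lit 780) L)) (nat_lit 5293790) (nat_lit 781) 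
(N (N (N L (nat_lit 5304288) (nat_lit 782) L) (nat_lit 5314167) (nat_lit 783) L) (nat_lit 5319638) (nat_lit 784) (N L (nat_lit 5324617) (nat_lit 785) L)))) (nat_lit 5336373) (nat_lit 786) (N (N 
(N (N (N L (nat_lit 5339562) (nat_lit 787) L) (nat_lit 5345070) (nat_lit 788) L) (nat_lit 5348273) (nat_lit 789) (N L (nat_lit 5354127) (nat_lit 790) L)) (nat_lit 5360077) (nat_lit 791) 
(N (N (N L (nat_lit 5365074) (nat_lit 792) L) (nat_lit 5366003) (nat_lit 793) L) (nat_lit 5370988) (nat_lit 794) (N L (nat_lit 5379037) (nat_lit 795) L))) (nat_lit 5385852) (nat_lit 796) (N 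
(N (N (N L (nat_lit 5389027) (nat_lit 797) L) (nat_lit 5395774) (nat_lit 798) L) (nat_lit 5400735) (nat_lit 799) (N L (nat_lit 5414427) (nat_lit 800) L)) (nat_lit 5415866) (nat_lit 801) 
(N (N (N L (nat_lit 5420837) (nat_lit 802) L) (nat_lit 5426279) (nat_lit 803) L) (nat_lit 5429496) (nat_lit 804) (N L (nat_lit 5432665) (nat_lit 805) L))))))) (nat_lit 5435846) (nat_lit 806) (N (N (N (N (N 
(N (N (N L (nat_lit 5446862) (nat_lit 807) L) (nat_lit 5448047) (nat_lit 808) L) (nat_lit 5453296) (nat_lit 809) (N (N L (nat_lit 5459634) (nat_lit 810) L) (nat_lit 5462573) (nat_lit 811) L)) (nat_lit 5465996) (nat_lit 812) 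
(N (N (N L (nat_lit 5468947) (nat_lit 813) L) (nat_lit 5473687) (nat_lit 814) L) (nat_lit 5483689) (nat_lit 815) (N L (nat_lit 5486646) (nat_lit 816) L))) (nat_lit 5489524) (nat_lit 817) (N 
(N (N (N L (nat_lit 5499466) (nat_lit 818) L) (nat_lit 5517751) (nat_lit 819) L) (nat_lit 5524213) (nat_lit 820) (N L (nat_lit 5529194) (nat_lit 821) L)) (nat_lit 5530571) (nat_lit 822) 
(N (N (N L (nat_lit 5535572) (nat_lit 823) L) (nat_lit 5543247) (nat_lit 824) L) (nat_lit 5548270) (nat_lit 825) (N L (nat_lit 5553265) (nat_lit 826) L)))) (nat_lit 5556019) (nat_lit 827) (N (N 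
(N (N (N L (nat_lit 5559212) (nat_lit 828) L) (nat_lit 5565965) (nat_lit 829) L) (nat_lit 5569170) (nat_lit 830) (N L (nat_lit 5576602) (nat_lit 831) L)) (nat_lit 5581371) (nat_lit 832) 
(N (N (N L (nat_lit 5586596) (nat_lit 833) L) (nat_lit 5588454) (nat_lit 834) L) (nat_lit 5591417) (nat_lit 835) (N L (nat_lit 5598424) (nat_lit 836) L))) (nat_lit 5601351) (nat_lit 837) (N 
(N (N (N L (nat_lit 5607107) (nat_lit 838) L) (nat_lit 5610076) (nat_lit 839) L) (nat_lit 5616482) (nat_lit 840) (N L (nat_lit 5628190) (nat_lit 841) L)) (nat_lit 5633409) (nat_lit 842) 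
(N (N (N L (nat_lit 5637807) (nat_lit 843) L) (nat_lit 5648273) (nat_lit 844) L) (nat_lit 5651214) (nat_lit 845) (N L (nat_lit 5657811) (nat_lit 846) L))))) (nat_lit 5663090) (nat_lit 847) (N (N (N 
(N (N (N L (nat_lit 5671785) (nat_lit 848) L) (nat_lit 5677655) (nat_lit 849) L) (nat_lit 5682888) (nat_lit 850) (N L (nat_lit 5688714) (nat_lit 851) L)) (nat_lit 5691669) (nat_lit 852) 
(N (N (N L (nat_lit 5694644) (nat_lit 853) L) (nat_lit 5697579) (nat_lit 854) L) (nat_lit 5704124) (nat_lit 855) (N L (nat_lit 5709091) (nat_lit 856) L))) (nat_lit 5714973) (nat_lit 857) (N 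
(N (N (N L (nat_lit 5725120) (nat_lit 858) L) (nat_lit 5727841) (nat_lit 859) L) (nat_lit 5735546) (nat_lit 860) (N L (nat_lit 5738725) (nat_lit 861) L)) (nat_lit 5745988) (nat_lit 862) 
(N (N (N L (nat_lit 5751449) (nat_lit 863) L) (nat_lit 5756422) (nat_lit 864) L) (nat_lit 5774014) (nat_lit 865) (N L (nat_lit 5777183) (nat_lit 866) L)))) (nat_lit 5790813) (nat_lit 867) (N (N 
(N (N (N L (nat_lit 5792252) (nat_lit 868) L) (nat_lit 5797219) (nat_lit 869) L) (nat_lit 5800935) (nat_lit 870) (N L (nat_lit 5805944) (nat_lit 871) L)) (nat_lit 5810905) (nat_lit 872) 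
(N (N (N L (nat_lit 5815878) (nat_lit 873) L) (nat_lit 5820827) (nat_lit 874) L) (nat_lit 5827642) (nat_lit 875) (N L (nat_lit 5830821) (nat_lit 876) L))) (nat_lit 5838253) (nat_lit 877) (N 
(N (N (N L (nat_lit 5848211) (nat_lit 878) L) (nat_lit 5851089) (nat_lit 879) L) (nat_lit 5854030) (nat_lit 880) (N L (nat_lit 5864048) (nat_lit 881) L)) (nat_lit 5868788) (nat_lit 882) 
(N (N (N L (nat_lit 5871723) (nat_lit 883) L) (nat_lit 5875146) (nat_lit 884) L) (nat_lit 5878101) (nat_lit 885) (N L (nat_lit 5884439) (nat_lit 886) L)))))) (nat_lit 5889672) (nat_lit 887) (N (N (N (N 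
(N (N (N L (nat_lit 5890857) (nat_lit 888) L) (nat_lit 5909926) (nat_lit 889) L) (nat_lit 5912889) (nat_lit 890) (N L (nat_lit 5915259) (nat_lit 891) L)) (nat_lit 5920484) (nat_lit 892) 
(N (N (N L (nat_lit 5925701) (nat_lit 893) L) (nat_lit 5933406) (nat_lit 894) L) (nat_lit 5938625) (nat_lit 895) (N L (nat_lit 5954338) (nat_lit 896) L))) (nat_lit 5957251) (nat_lit 897) (N 
(N (N (N L (nat_lit 5960220) (nat_lit 898) L) (nat_lit 5966731) (nat_lit 899) L) (nat_lit 5971732) (nat_lit 900) (N L (nat_lit 5972661) (nat_lit 901) L)) (nat_lit 5977642) (nat_lit 902) 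
(N (N (N L (nat_lit 5983592) (nat_lit 903) L) (nat_lit 5989462) (nat_lit 904) L) (nat_lit 5992649) (nat_lit 905) (N L (nat_lit 5998157) (nat_lit 906) L)))) (nat_lit 6001362) (nat_lit 907) (N (N 
(N (N (N L (nat_lit 6013102) (nat_lit 908) L) (nat_lit 6018097) (nat_lit 909) L) (nat_lit 6023568) (nat_lit 910) (N L (nat_lit 6033356) (nat_lit 911) L)) (nat_lit 6036307) (nat_lit 912) 
(N (N (N L (nat_lit 6039282) (nat_lit 913) L) (nat_lit 6042221) (nat_lit 914) L) (nat_lit 6048047) (nat_lit 915) (N L (nat_lit 6053296) (nat_lit 916) L))) (nat_lit 6059150) (nat_lit 917) (N 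
(N (N (N L (nat_lit 6067861) (nat_lit 918) L) (nat_lit 6073140) (nat_lit 919) L) (nat_lit 6079721) (nat_lit 920) (N L (nat_lit 6082678) (nat_lit 921) L)) (nat_lit 6093128) (nat_lit 922) 
(N (N (N L (nat_lit 6095071) (nat_lit 923) L) (nat_lit 6105569) (nat_lit 924) L) (nat_lit 6112828) (nat_lit 925) (N L (nat_lit 6116003) (nat_lit 926) L))))) (nat_lit 6123266) (nat_lit 927) (N (N (N 
(N (N (N L (nat_lit 6130969) (nat_lit 928) L) (nat_lit 6134150) (nat_lit 929) L) (nat_lit 6136871) (nat_lit 930) (N L (nat_lit 6140088) (nat_lit 931) L)) (nat_lit 6152900) (nat_lit 932) 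
(N (N (N L (nat_lit 6161781) (nat_lit 933) L) (nat_lit 6164970) (nat_lit 934) L) (nat_lit 6171723) (nat_lit 935) (N L (nat_lit 6174932) (nat_lit 936) L))) (nat_lit 6177686) (nat_lit 937) (N 
(N (N (N L (nat_lit 6182665) (nat_lit 938) L) (nat_lit 6187688) (nat_lit 939) L) (nat_lit 6195379) (nat_lit 940) (N L (nat_lit 6200364) (nat_lit 941) L)) (nat_lit 6201741) (nat_lit 942) 
(N (N (N L (nat_lit 6206738) (nat_lit 943) L) (nat_lit 6213200) (nat_lit 944) L) (nat_lit 6228582) (nat_lit 945) (N L (nat_lit 6234968) (nat_lit 946) L)))) (nat_lit 6245509) (nat_lit 947) (N (N 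
(N (N (N L (nat_lit 6248474) (nat_lit 948) L) (nat_lit 6254884) (nat_lit 949) L) (nat_lit 6260640) (nat_lit 950) (N L (nat_lit 6273537) (nat_lit 951) L)) (nat_lit 6275395) (nat_lit 952) 
(N (N (N L (nat_lit 6313819) (nat_lit 953) L) (nat_lit 6318842) (nat_lit 954) L) (nat_lit 6323813) (nat_lit 955) (N L (nat_lit 6331518) (nat_lit 956) L))) (nat_lit 6332895) (nat_lit 957) (N 
(N (N (N L (nat_lit 6347421) (nat_lit 958) L) (nat_lit 6350652) (nat_lit 959) L) (nat_lit 6353827) (nat_lit 960) (N L (nat_lit 6364843) (nat_lit 961) L)) (nat_lit 6371221) (nat_lit 962) 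
(N (N (N L (nat_lit 6376663) (nat_lit 963) L) (nat_lit 6383081) (nat_lit 964) L) (nat_lit 6386038) (nat_lit 965) (N L (nat_lit 6391794) (nat_lit 966) L)))))))) (nat_lit 6394733) (nat_lit 967) (N (N (N (N (N (N 
(N (N (N L (nat_lit 6401740) (nat_lit 968) L) (nat_lit 6404691) (nat_lit 969) L) (nat_lit 6411662) (nat_lit 970) (N (N L (nat_lit 6416431) (nat_lit 971) L) (nat_lit 6421680) (nat_lit 972) L)) (nat_lit 6426526) (nat_lit 973) 
(N (N (N L (nat_lit 6435391) (nat_lit 974) L) (nat_lit 6441341) (nat_lit 975) L) (nat_lit 6446562) (nat_lit 976) (N L (nat_lit 6452444) (nat_lit 977) L))) (nat_lit 6461127) (nat_lit 978) (N 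
(N (N (N L (nat_lit 6466406) (nat_lit 979) L) (nat_lit 6472891) (nat_lit 980) L) (nat_lit 6483333) (nat_lit 981) (N L (nat_lit 6486298) (nat_lit 982) L)) (nat_lit 6498739) (nat_lit 983) 
(N (N (N L (nat_lit 6503724) (nat_lit 984) L) (nat_lit 6506094) (nat_lit 985) L) (nat_lit 6509297) (nat_lit 986) (N L (nat_lit 6516560) (nat_lit 987) L)))) (nat_lit 6524235) (nat_lit 988) (N (N 
(N (N (N L (nat_lit 6527444) (nat_lit 989) L) (nat_lit 6530165) (nat_lit 990) L) (nat_lit 6533354) (nat_lit 991) (N L (nat_lit 6540200) (nat_lit 992) L)) (nat_lit 6546070) (nat_lit 993) 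
(N (N (N L (nat_lit 6551049) (nat_lit 994) L) (nat_lit 6565364) (nat_lit 995) L) (nat_lit 6568299) (nat_lit 996) (N L (nat_lit 6575798) (nat_lit 997) L))) (nat_lit 6581015) (nat_lit 998) (N 
(N (N (N L (nat_lit 6586248) (nat_lit 999) L) (nat_lit 6593939) (nat_lit 1000) L) (nat_lit 6599853) (nat_lit 1001) (N L (nat_lit 6609776) (nat_lit 1002) L)) (nat_lit 6612689) (nat_lit 1003) 
(N (N (N L (nat_lit 6615630) (nat_lit 1004) L) (nat_lit 6622169) (nat_lit 1005) L) (nat_lit 6627142) (nat_lit 1006) (N L (nat_lit 6628071) (nat_lit 1007) L))))) (nat_lit 6633080) (nat_lit 1008) (N (N (N 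
(N (N (N L (nat_lit 6638906) (nat_lit 1009) L) (nat_lit 6642085) (nat_lit 1010) L) (nat_lit 6647963) (nat_lit 1011) (N L (nat_lit 6653471) (nat_lit 1012) L)) (nat_lit 6663969) (nat_lit 1013) 
(N (N (N L (nat_lit 6668540) (nat_lit 1014) L) (nat_lit 6673507) (nat_lit 1015) L) (nat_lit 6678978) (nat_lit 1016) (N L (nat_lit 6688371) (nat_lit 1017) L))) (nat_lit 6691564) (nat_lit 1018) (N 
(N (N (N L (nat_lit 6694733) (nat_lit 1019) L) (nat_lit 6697938) (nat_lit 1020) L) (nat_lit 6708239) (nat_lit 1021) (N L (nat_lit 6709678) (nat_lit 1022) L)) (nat_lit 6714673) (nat_lit 1023) 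
(N (N (N L (nat_lit 6718389) (nat_lit 1024) L) (nat_lit 6723370) (nat_lit 1025) L) (nat_lit 6728331) (nat_lit 1026) (N L (nat_lit 6733332) (nat_lit 1027) L)))) (nat_lit 6735190) (nat_lit 1028) (N (N 
(N (N (N L (nat_lit 6738377) (nat_lit 1029) L) (nat_lit 6745192) (nat_lit 1030) L) (nat_lit 6760542) (nat_lit 1031) (N L (nat_lit 6765761) (nat_lit 1032) L)) (nat_lit 6768515) (nat_lit 1033) 
(N (N (N L (nat_lit 6771484) (nat_lit 1034) L) (nat_lit 6781474) (nat_lit 1035) L) (nat_lit 6786214) (nat_lit 1036) (N L (nat_lit 6789177) (nat_lit 1037) L))) (nat_lit 6792600) (nat_lit 1038) (N 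
(N (N (N L (nat_lit 6795527) (nat_lit 1039) L) (nat_lit 6801989) (nat_lit 1040) L) (nat_lit 6817533) (nat_lit 1041) (N L (nat_lit 6827971) (nat_lit 1042) L)) (nat_lit 6830940) (nat_lit 1043) 
(N (N (N L (nat_lit 6851387) (nat_lit 1044) L) (nat_lit 6856612) (nat_lit 1045) L) (nat_lit 6862490) (nat_lit 1046) (N L (nat_lit 6868440) (nat_lit 1047) L)))))) (nat_lit 6871367) (nat_lit 1048) (N (N (N (N 
(N (N (N L (nat_lit 6874342) (nat_lit 1049) L) (nat_lit 6877305) (nat_lit 1050) L) (nat_lit 6883822) (nat_lit 1051) (N L (nat_lit 6888817) (nat_lit 1052) L)) (nat_lit 6894671) (nat_lit 1053) 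
(N (N (N L (nat_lit 6901517) (nat_lit 1054) L) (nat_lit 6904722) (nat_lit 1055) L) (nat_lit 6907443) (nat_lit 1056) (N L (nat_lit 6910636) (nat_lit 1057) L))) (nat_lit 6918327) (nat_lit 1058) (N 
(N (N (N L (nat_lit 6925590) (nat_lit 1059) L) (nat_lit 6928777) (nat_lit 1060) L) (nat_lit 6931147) (nat_lit 1061) (N L (nat_lit 6936148) (nat_lit 1062) L)) (nat_lit 6953179) (nat_lit 1063) 
(N (N (N L (nat_lit 6956410) (nat_lit 1064) L) (nat_lit 6959589) (nat_lit 1065) L) (nat_lit 6965927) (nat_lit 1066) (N L (nat_lit 6970936) (nat_lit 1067) L)))) (nat_lit 6972313) (nat_lit 1068) (N (N 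
(N (N (N L (nat_lit 6977286) (nat_lit 1069) L) (nat_lit 6984989) (nat_lit 1070) L) (nat_lit 6990012) (nat_lit 1071) (N L (nat_lit 6994979) (nat_lit 1072) L)) (nat_lit 6997857) (nat_lit 1073) 
(N (N (N L (nat_lit 7011008) (nat_lit 1074) L) (nat_lit 7013207) (nat_lit 1075) L) (nat_lit 7018440) (nat_lit 1076) (N L (nat_lit 7023209) (nat_lit 1077) L))) (nat_lit 7030196) (nat_lit 1078) (N 
(N (N (N L (nat_lit 7033131) (nat_lit 1079) L) (nat_lit 7040138) (nat_lit 1080) L) (nat_lit 7043093) (nat_lit 1081) (N L (nat_lit 7048849) (nat_lit 1082) L)) (nat_lit 7051790) (nat_lit 1083) 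
(N (N (N L (nat_lit 7058224) (nat_lit 1084) L) (nat_lit 7063666) (nat_lit 1085) L) (nat_lit 7070028) (nat_lit 1086) (N L (nat_lit 7082895) (nat_lit 1087) L))))) (nat_lit 7089710) (nat_lit 1088) (N (N (N 
(N (N (N L (nat_lit 7092913) (nat_lit 1089) L) (nat_lit 7094771) (nat_lit 1090) L) (nat_lit 7099756) (nat_lit 1091) (N L (nat_lit 7104717) (nat_lit 1092) L)) (nat_lit 7109714) (nat_lit 1093) 
(N (N (N L (nat_lit 7113430) (nat_lit 1094) L) (nat_lit 7118409) (nat_lit 1095) L) (nat_lit 7119848) (nat_lit 1096) (N L (nat_lit 7130165) (nat_lit 1097) L))) (nat_lit 7133354) (nat_lit 1098) (N 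
(N (N (N L (nat_lit 7136523) (nat_lit 1099) L) (nat_lit 7139732) (nat_lit 1100) L) (nat_lit 7150748) (nat_lit 1101) (N L (nat_lit 7151933) (nat_lit 1102) L)) (nat_lit 7157154) (nat_lit 1103) 
(N (N (N L (nat_lit 7163616) (nat_lit 1104) L) (nat_lit 7172929) (nat_lit 1105) L) (nat_lit 7177669) (nat_lit 1106) (N L (nat_lit 7180634) (nat_lit 1107) L)))) (nat_lit 7190628) (nat_lit 1108) (N (N 
(N (N (N L (nat_lit 7193382) (nat_lit 1109) L) (nat_lit 7203352) (nat_lit 1110) L) (nat_lit 7212457) (nat_lit 1111) (N L (nat_lit 7215414) (nat_lit 1112) L)) (nat_lit 7218327) (nat_lit 1113) 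
(N (N (N L (nat_lit 7228234) (nat_lit 1114) L) (nat_lit 7234164) (nat_lit 1115) L) (nat_lit 7241839) (nat_lit 1116) (N L (nat_lit 7247088) (nat_lit 1117) L))) (nat_lit 7252305) (nat_lit 1118) (N 
(N (N (N L (nat_lit 7259788) (nat_lit 1119) L) (nat_lit 7262739) (nat_lit 1120) L) (nat_lit 7275194) (nat_lit 1121) (N L (nat_lit 7280165) (nat_lit 1122) L)) (nat_lit 7285636) (nat_lit 1123) 
(N (N (N L (nat_lit 7291993) (nat_lit 1124) L) (nat_lit 7295174) (nat_lit 1125) L) (nat_lit 7317058) (nat_lit 1126) (N L (nat_lit 7331072) (nat_lit 1127) L))))))) (nat_lit 7332001) (nat_lit 1128) (N (N (N (N (N 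
(N (N (N L (nat_lit 7351213) (nat_lit 1129) L) (nat_lit 7356210) (nat_lit 1130) L) (nat_lit 7360751) (nat_lit 1131) (N (N L (nat_lit 7368014) (nat_lit 1132) L) (nat_lit 7371217) (nat_lit 1133) L)) (nat_lit 7376725) (nat_lit 1134) 
(N (N (N L (nat_lit 7379914) (nat_lit 1135) L) (nat_lit 7382635) (nat_lit 1136) L) (nat_lit 7385844) (nat_lit 1137) (N L (nat_lit 7391670) (nat_lit 1138) L))) (nat_lit 7396649) (nat_lit 1139) (N 
(N (N (N L (nat_lit 7402519) (nat_lit 1140) L) (nat_lit 7411999) (nat_lit 1141) L) (nat_lit 7414974) (nat_lit 1142) (N L (nat_lit 7424867) (nat_lit 1143) L)) (nat_lit 7430749) (nat_lit 1144) 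
(N (N (N L (nat_lit 7435970) (nat_lit 1145) L) (nat_lit 7443673) (nat_lit 1146) L) (nat_lit 7448952) (nat_lit 1147) (N L (nat_lit 7456421) (nat_lit 1148) L)))) (nat_lit 7459386) (nat_lit 1149) (N (N 
(N (N (N L (nat_lit 7469828) (nat_lit 1150) L) (nat_lit 7478453) (nat_lit 1151) L) (nat_lit 7484811) (nat_lit 1152) (N L (nat_lit 7491273) (nat_lit 1153) L)) (nat_lit 7494230) (nat_lit 1154) 
(N (N (N L (nat_lit 7500648) (nat_lit 1155) L) (nat_lit 7505388) (nat_lit 1156) L) (nat_lit 7508339) (nat_lit 1157) (N L (nat_lit 7515346) (nat_lit 1158) L))) (nat_lit 7518285) (nat_lit 1159) (N 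
(N (N (N L (nat_lit 7521039) (nat_lit 1160) L) (nat_lit 7526288) (nat_lit 1161) L) (nat_lit 7531057) (nat_lit 1162) (N L (nat_lit 7538489) (nat_lit 1163) L)) (nat_lit 7541670) (nat_lit 1164) 
(N (N (N L (nat_lit 7548423) (nat_lit 1165) L) (nat_lit 7551640) (nat_lit 1166) L) (nat_lit 7553498) (nat_lit 1167) (N L (nat_lit 7558469) (nat_lit 1168) L))))) (nat_lit 7563492) (nat_lit 1169) (N (N (N 
(N (N (N L (nat_lit 7577184) (nat_lit 1170) L) (nat_lit 7578561) (nat_lit 1171) L) (nat_lit 7588892) (nat_lit 1172) (N L (nat_lit 7592067) (nat_lit 1173) L)) (nat_lit 7595298) (nat_lit 1174) 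
(N (N (N L (nat_lit 7603070) (nat_lit 1175) L) (nat_lit 7608289) (nat_lit 1176) L) (nat_lit 7619997) (nat_lit 1177) (N L (nat_lit 7629987) (nat_lit 1178) L))) (nat_lit 7632956) (nat_lit 1179) (N 
(N (N (N L (nat_lit 7638712) (nat_lit 1180) L) (nat_lit 7641639) (nat_lit 1181) L) (nat_lit 7645062) (nat_lit 1182) (N L (nat_lit 7648025) (nat_lit 1183) L)) (nat_lit 7653467) (nat_lit 1184) 
(N (N (N L (nat_lit 7658692) (nat_lit 1185) L) (nat_lit 7659877) (nat_lit 1186) L) (nat_lit 7670893) (nat_lit 1187) (N L (nat_lit 7674098) (nat_lit 1188) L)))) (nat_lit 7677267) (nat_lit 1189) (N (N 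
(N (N (N L (nat_lit 7680460) (nat_lit 1190) L) (nat_lit 7686798) (nat_lit 1191) L) (nat_lit 7691793) (nat_lit 1192) (N L (nat_lit 7693232) (nat_lit 1193) L)) (nat_lit 7700907) (nat_lit 1194) 
(N (N (N L (nat_lit 7705908) (nat_lit 1195) L) (nat_lit 7710869) (nat_lit 1196) L) (nat_lit 7715850) (nat_lit 1197) (N L (nat_lit 7718728) (nat_lit 1198) L))) (nat_lit 7735751) (nat_lit 1199) (N 
(N (N (N L (nat_lit 7740760) (nat_lit 1200) L) (nat_lit 7741689) (nat_lit 1201) L) (nat_lit 7746662) (nat_lit 1202) (N L (nat_lit 7753508) (nat_lit 1203) L)) (nat_lit 7759386) (nat_lit 1204) 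
(N (N (N L (nat_lit 7762565) (nat_lit 1205) L) (nat_lit 7770270) (nat_lit 1206) L) (nat_lit 7780768) (nat_lit 1207) (N L (nat_lit 7783138) (nat_lit 1208) L)))))) (nat_lit 7800532) (nat_lit 1209) (N (N (N (N 
(N (N (N L (nat_lit 7803467) (nat_lit 1210) L) (nat_lit 7815223) (nat_lit 1211) L) (nat_lit 7820456) (nat_lit 1212) (N L (nat_lit 7825673) (nat_lit 1213) L)) (nat_lit 7834386) (nat_lit 1214) 
(N (N (N L (nat_lit 7840300) (nat_lit 1215) L) (nat_lit 7860304) (nat_lit 1216) L) (nat_lit 7869910) (nat_lit 1217) (N L (nat_lit 7874679) (nat_lit 1218) L))) (nat_lit 7879912) (nat_lit 1219) (N 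
(N (N (N L (nat_lit 7882666) (nat_lit 1220) L) (nat_lit 7885621) (nat_lit 1221) L) (nat_lit 7892628) (nat_lit 1222) (N L (nat_lit 7895563) (nat_lit 1223) L)) (nat_lit 7900303) (nat_lit 1224) 
(N (N (N L (nat_lit 7906737) (nat_lit 1225) L) (nat_lit 7909678) (nat_lit 1226) L) (nat_lit 7916140) (nat_lit 1227) (N L (nat_lit 7922514) (nat_lit 1228) L)))) (nat_lit 7933530) (nat_lit 1229) (N (N 
(N (N (N L (nat_lit 7936709) (nat_lit 1230) L) (nat_lit 7939940) (nat_lit 1231) L) (nat_lit 7948473) (nat_lit 1232) (N L (nat_lit 7953446) (nat_lit 1233) L)) (nat_lit 7954823) (nat_lit 1234) 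
(N (N (N L (nat_lit 7959832) (nat_lit 1235) L) (nat_lit 7963548) (nat_lit 1236) L) (nat_lit 7968515) (nat_lit 1237) (N L (nat_lit 7973538) (nat_lit 1238) L))) (nat_lit 7983584) (nat_lit 1239) (N 
(N (N (N L (nat_lit 7990337) (nat_lit 1240) L) (nat_lit 7998448) (nat_lit 1241) L) (nat_lit 8004302) (nat_lit 1242) (N L (nat_lit 8009297) (nat_lit 1243) L)) (nat_lit 8015123) (nat_lit 1244) 
(N (N (N L (nat_lit 8018316) (nat_lit 1245) L) (nat_lit 8021037) (nat_lit 1246) L) (nat_lit 8024242) (nat_lit 1247) (N L (nat_lit 8029750) (nat_lit 1248) L))))) (nat_lit 8032937) (nat_lit 1249) (N (N (N 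
(N (N (N L (nat_lit 8040200) (nat_lit 1250) L) (nat_lit 8044757) (nat_lit 1251) L) (nat_lit 8049738) (nat_lit 1252) (N L (nat_lit 8062179) (nat_lit 1253) L)) (nat_lit 8065148) (nat_lit 1254) 
(N (N (N L (nat_lit 8075586) (nat_lit 1255) L) (nat_lit 8096037) (nat_lit 1256) L) (nat_lit 8101915) (nat_lit 1257) (N L (nat_lit 8107140) (nat_lit 1258) L))) (nat_lit 8131643) (nat_lit 1259) (N 
(N (N (N L (nat_lit 8137114) (nat_lit 1260) L) (nat_lit 8142085) (nat_lit 1261) L) (nat_lit 8144455) (nat_lit 1262) (N L (nat_lit 8147672) (nat_lit 1263) L)) (nat_lit 8162658) (nat_lit 1264) 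
(N (N (N L (nat_lit 8168540) (nat_lit 1265) L) (nat_lit 8171715) (nat_lit 1266) L) (nat_lit 8178561) (nat_lit 1267) (N L (nat_lit 8189472) (nat_lit 1268) L)))) (nat_lit 8198952) (nat_lit 1269) (N (N 
(N (N (N L (nat_lit 8201865) (nat_lit 1270) L) (nat_lit 8204822) (nat_lit 1271) L) (nat_lit 8210772) (nat_lit 1272) (N L (nat_lit 8216682) (nat_lit 1273) L)) (nat_lit 8225393) (nat_lit 1274) 
(N (N (N L (nat_lit 8242322) (nat_lit 1275) L) (nat_lit 8245261) (nat_lit 1276) L) (nat_lit 8260125) (nat_lit 1277) (N L (nat_lit 8265346) (nat_lit 1278) L))) (nat_lit 8266531) (nat_lit 1279) (N 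
(N (N (N L (nat_lit 8280161) (nat_lit 1280) L) (nat_lit 8283584) (nat_lit 1281) L) (nat_lit 8295236) (nat_lit 1282) (N L (nat_lit 8307000) (nat_lit 1283) L)) (nat_lit 8316934) (nat_lit 1284) 
(N (N (N L (nat_lit 8324366) (nat_lit 1285) L) (nat_lit 8327569) (nat_lit 1286) L) (nat_lit 8334384) (nat_lit 1287) (N L (nat_lit 8358088) (nat_lit 1288) L)))))))))) (nat_lit 8419127) (nat_lit 1289) (N (N (N (N (N (N (N (N 
(N (N (N L (nat_lit 8442831) (nat_lit 1290) L) (nat_lit 8449646) (nat_lit 1291) L) (nat_lit 8452849) (nat_lit 1292) (N (N L (nat_lit 8460281) (nat_lit 1293) L) (nat_lit 8470215) (nat_lit 1294) L)) (nat_lit 8481979) (nat_lit 1295) 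
(N (N (N L (nat_lit 8493631) (nat_lit 1296) L) (nat_lit 8497054) (nat_lit 1297) L) (nat_lit 8510684) (nat_lit 1298) (N L (nat_lit 8511869) (nat_lit 1299) L))) (nat_lit 8517090) (nat_lit 1300) (N 
(N (N (N L (nat_lit 8531954) (nat_lit 1301) L) (nat_lit 8534893) (nat_lit 1302) L) (nat_lit 8551822) (nat_lit 1303) (N L (nat_lit 8560533) (nat_lit 1304) L)) (nat_lit 8566443) (nat_lit 1305) 
(N (N (N L (nat_lit 8572393) (nat_lit 1306) L) (nat_lit 8575350) (nat_lit 1307) L) (nat_lit 8578263) (nat_lit 1308) (N L (nat_lit 8587743) (nat_lit 1309) L)))) (nat_lit 8598654) (nat_lit 1310) (N (N 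
(N (N (N L (nat_lit 8605500) (nat_lit 1311) L) (nat_lit 8608675) (nat_lit 1312) L) (nat_lit 8614557) (nat_lit 1313) (N L (nat_lit 8629543) (nat_lit 1314) L)) (nat_lit 8632760) (nat_lit 1315) 
(N (N (N L (nat_lit 8635130) (nat_lit 1316) L) (nat_lit 8640101) (nat_lit 1317) L) (nat_lit 8645572) (nat_lit 1318) (N L (nat_lit 8670075) (nat_lit 1319) L))) (nat_lit 8675300) (nat_lit 1320) (N 
(N (N (N L (nat_lit 8681178) (nat_lit 1321) L) (nat_lit 8701629) (nat_lit 1322) L) (nat_lit 8712067) (nat_lit 1323) (N L (nat_lit 8715036) (nat_lit 1324) L)) (nat_lit 8727477) (nat_lit 1325) 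
(N (N (N L (nat_lit 8732458) (nat_lit 1326) L) (nat_lit 8737015) (nat_lit 1327) L) (nat_lit 8744278) (nat_lit 1328) (N L (nat_lit 8747465) (nat_lit 1329) L))))) (nat_lit 8752973) (nat_lit 1330) (N (N (N 
(N (N (N L (nat_lit 8756178) (nat_lit 1331) L) (nat_lit 8758899) (nat_lit 1332) L) (nat_lit 8762092) (nat_lit 1333) (N L (nat_lit 8767918) (nat_lit 1334) L)) (nat_lit 8772913) (nat_lit 1335) 
(N (N (N L (nat_lit 8778767) (nat_lit 1336) L) (nat_lit 8786878) (nat_lit 1337) L) (nat_lit 8793631) (nat_lit 1338) (N L (nat_lit 8803677) (nat_lit 1339) L))) (nat_lit 8808700) (nat_lit 1340) (N 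
(N (N (N L (nat_lit 8813667) (nat_lit 1341) L) (nat_lit 8817383) (nat_lit 1342) L) (nat_lit 8822392) (nat_lit 1343) (N L (nat_lit 8823769) (nat_lit 1344) L)) (nat_lit 8828742) (nat_lit 1345) 
(N (N (N L (nat_lit 8837275) (nat_lit 1346) L) (nat_lit 8840506) (nat_lit 1347) L) (nat_lit 8843685) (nat_lit 1348) (N L (nat_lit 8854701) (nat_lit 1349) L)))) (nat_lit 8861075) (nat_lit 1350) (N (N 
(N (N (N L (nat_lit 8867537) (nat_lit 1351) L) (nat_lit 8870478) (nat_lit 1352) L) (nat_lit 8876912) (nat_lit 1353) (N L (nat_lit 8881652) (nat_lit 1354) L)) (nat_lit 8884587) (nat_lit 1355) 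
(N (N (N L (nat_lit 8891594) (nat_lit 1356) L) (nat_lit 8894549) (nat_lit 1357) L) (nat_lit 8897303) (nat_lit 1358) (N L (nat_lit 8902536) (nat_lit 1359) L))) (nat_lit 8907305) (nat_lit 1360) (N 
(N (N (N L (nat_lit 8916911) (nat_lit 1361) L) (nat_lit 8936915) (nat_lit 1362) L) (nat_lit 8942829) (nat_lit 1363) (N L (nat_lit 8951542) (nat_lit 1364) L)) (nat_lit 8956759) (nat_lit 1365) 
(N (N (N L (nat_lit 8961992) (nat_lit 1366) L) (nat_lit 8973748) (nat_lit 1367) L) (nat_lit 8976683) (nat_lit 1368) (N L (nat_lit 8994077) (nat_lit 1369) L)))))) (nat_lit 8996447) (nat_lit 1370) (N (N (N (N 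
(N (N (N L (nat_lit 9006945) (nat_lit 1371) L) (nat_lit 9014650) (nat_lit 1372) L) (nat_lit 9017829) (nat_lit 1373) (N L (nat_lit 9023707) (nat_lit 1374) L)) (nat_lit 9030553) (nat_lit 1375) 
(N (N (N L (nat_lit 9035526) (nat_lit 1376) L) (nat_lit 9036455) (nat_lit 1377) L) (nat_lit 9041464) (nat_lit 1378) (N L (nat_lit 9058487) (nat_lit 1379) L))) (nat_lit 9061365) (nat_lit 1380) (N 
(N (N (N L (nat_lit 9066346) (nat_lit 1381) L) (nat_lit 9071307) (nat_lit 1382) L) (nat_lit 9076308) (nat_lit 1383) (N L (nat_lit 9083983) (nat_lit 1384) L)) (nat_lit 9085422) (nat_lit 1385) 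
(N (N (N L (nat_lit 9090417) (nat_lit 1386) L) (nat_lit 9096755) (nat_lit 1387) L) (nat_lit 9099948) (nat_lit 1388) (N L (nat_lit 9103117) (nat_lit 1389) L)))) (nat_lit 9106322) (nat_lit 1390) (N (N 
(N (N (N L (nat_lit 9117338) (nat_lit 1391) L) (nat_lit 9118523) (nat_lit 1392) L) (nat_lit 9123748) (nat_lit 1393) (N L (nat_lit 9129190) (nat_lit 1394) L)) (nat_lit 9132153) (nat_lit 1395) 
(N (N (N L (nat_lit 9135576) (nat_lit 1396) L) (nat_lit 9138503) (nat_lit 1397) L) (nat_lit 9144259) (nat_lit 1398) (N L (nat_lit 9147228) (nat_lit 1399) L))) (nat_lit 9157218) (nat_lit 1400) (N 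
(N (N (N L (nat_lit 9168926) (nat_lit 1401) L) (nat_lit 9174145) (nat_lit 1402) L) (nat_lit 9181917) (nat_lit 1403) (N L (nat_lit 9185148) (nat_lit 1404) L)) (nat_lit 9188323) (nat_lit 1405) 
(N (N (N L (nat_lit 9198654) (nat_lit 1406) L) (nat_lit 9200031) (nat_lit 1407) L) (nat_lit 9213723) (nat_lit 1408) (N L (nat_lit 9218746) (nat_lit 1409) L))))) (nat_lit 9223717) (nat_lit 1410) (N (N (N 
(N (N (N L (nat_lit 9225575) (nat_lit 1411) L) (nat_lit 9228792) (nat_lit 1412) L) (nat_lit 9235545) (nat_lit 1413) (N L (nat_lit 9238726) (nat_lit 1414) L)) (nat_lit 9246158) (nat_lit 1415) 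
(N (N (N L (nat_lit 9250927) (nat_lit 1416) L) (nat_lit 9256176) (nat_lit 1417) L) (nat_lit 9258930) (nat_lit 1418) (N L (nat_lit 9261869) (nat_lit 1419) L))) (nat_lit 9268876) (nat_lit 1420) (N 
(N (N (N L (nat_lit 9271827) (nat_lit 1421) L) (nat_lit 9276567) (nat_lit 1422) L) (nat_lit 9282985) (nat_lit 1423) (N L (nat_lit 9285942) (nat_lit 1424) L)) (nat_lit 9292404) (nat_lit 1425) 
(N (N (N L (nat_lit 9298762) (nat_lit 1426) L) (nat_lit 9307387) (nat_lit 1427) L) (nat_lit 9317829) (nat_lit 1428) (N L (nat_lit 9320794) (nat_lit 1429) L)))) (nat_lit 9328263) (nat_lit 1430) (N (N 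
(N (N (N L (nat_lit 9333542) (nat_lit 1431) L) (nat_lit 9341245) (nat_lit 1432) L) (nat_lit 9346466) (nat_lit 1433) (N L (nat_lit 9352348) (nat_lit 1434) L)) (nat_lit 9362241) (nat_lit 1435) 
(N (N (N L (nat_lit 9365216) (nat_lit 1436) L) (nat_lit 9374696) (nat_lit 1437) L) (nat_lit 9380566) (nat_lit 1438) (N L (nat_lit 9385545) (nat_lit 1439) L))) (nat_lit 9391371) (nat_lit 1440) (N 
(N (N (N L (nat_lit 9394580) (nat_lit 1441) L) (nat_lit 9397301) (nat_lit 1442) L) (nat_lit 9400490) (nat_lit 1443) (N L (nat_lit 9405998) (nat_lit 1444) L)) (nat_lit 9409201) (nat_lit 1445) 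
(N (N (N L (nat_lit 9416464) (nat_lit 1446) L) (nat_lit 9421005) (nat_lit 1447) L) (nat_lit 9426002) (nat_lit 1448) (N L (nat_lit 9445214) (nat_lit 1449) L))))))) (nat_lit 9446143) (nat_lit 1450) (N (N (N (N (N 
(N (N (N L (nat_lit 9460157) (nat_lit 1451) L) (nat_lit 9482041) (nat_lit 1452) L) (nat_lit 9485222) (nat_lit 1453) (N (N L (nat_lit 9491579) (nat_lit 1454) L) (nat_lit 9497050) (nat_lit 1455) L)) (nat_lit 9502021) (nat_lit 1456) 
(N (N (N L (nat_lit 9514476) (nat_lit 1457) L) (nat_lit 9517427) (nat_lit 1458) L) (nat_lit 9524910) (nat_lit 1459) (N L (nat_lit 9530127) (nat_lit 1460) L))) (nat_lit 9535376) (nat_lit 1461) (N 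
(N (N (N L (nat_lit 9543051) (nat_lit 1462) L) (nat_lit 9548981) (nat_lit 1463) L) (nat_lit 9558888) (nat_lit 1464) (N L (nat_lit 9561801) (nat_lit 1465) L)) (nat_lit 9564758) (nat_lit 1466) 
(N (N (N L (nat_lit 9573863) (nat_lit 1467) L) (nat_lit 9583833) (nat_lit 1468) L) (nat_lit 9586587) (nat_lit 1469) (N L (nat_lit 9596581) (nat_lit 1470) L)))) (nat_lit 9599546) (nat_lit 1471) (N (N 
(N (N (N L (nat_lit 9604286) (nat_lit 1472) L) (nat_lit 9613599) (nat_lit 1473) L) (nat_lit 9620061) (nat_lit 1474) (N L (nat_lit 9625282) (nat_lit 1475) L)) (nat_lit 9626467) (nat_lit 1476) 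
(N (N (N L (nat_lit 9637483) (nat_lit 1477) L) (nat_lit 9640692) (nat_lit 1478) L) (nat_lit 9643861) (nat_lit 1479) (N L (nat_lit 9647050) (nat_lit 1480) L))) (nat_lit 9657367) (nat_lit 1481) (N 
(N (N (N L (nat_lit 9658806) (nat_lit 1482) L) (nat_lit 9663785) (nat_lit 1483) L) (nat_lit 9667501) (nat_lit 1484) (N L (nat_lit 9672498) (nat_lit 1485) L)) (nat_lit 9677459) (nat_lit 1486) 
(N (N (N L (nat_lit 9682444) (nat_lit 1487) L) (nat_lit 9684302) (nat_lit 1488) L) (nat_lit 9687505) (nat_lit 1489) (N L (nat_lit 9694320) (nat_lit 1490) L))))) (nat_lit 9707187) (nat_lit 1491) (N (N (N 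
(N (N (N L (nat_lit 9713549) (nat_lit 1492) L) (nat_lit 9718991) (nat_lit 1493) L) (nat_lit 9725425) (nat_lit 1494) (N L (nat_lit 9728366) (nat_lit 1495) L)) (nat_lit 9734122) (nat_lit 1496) 
(N (N (N L (nat_lit 9737077) (nat_lit 1497) L) (nat_lit 9744084) (nat_lit 1498) L) (nat_lit 9747019) (nat_lit 1499) (N L (nat_lit 9754006) (nat_lit 1500) L))) (nat_lit 9758775) (nat_lit 1501) (N 
(N (N (N L (nat_lit 9764008) (nat_lit 1502) L) (nat_lit 9766207) (nat_lit 1503) L) (nat_lit 9779358) (nat_lit 1504) (N L (nat_lit 9782236) (nat_lit 1505) L)) (nat_lit 9787203) (nat_lit 1506) 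
(N (N (N L (nat_lit 9792226) (nat_lit 1507) L) (nat_lit 9799929) (nat_lit 1508) L) (nat_lit 9804902) (nat_lit 1509) (N L (nat_lit 9806279) (nat_lit 1510) L)))) (nat_lit 9811288) (nat_lit 1511) (N (N 
(N (N (N L (nat_lit 9817626) (nat_lit 1512) L) (nat_lit 9820805) (nat_lit 1513) L) (nat_lit 9824036) (nat_lit 1514) (N L (nat_lit 9841067) (nat_lit 1515) L)) (nat_lit 9846068) (nat_lit 1516) 
(N (N (N L (nat_lit 9848438) (nat_lit 1517) L) (nat_lit 9851625) (nat_lit 1518) L) (nat_lit 9858888) (nat_lit 1519) (N L (nat_lit 9866579) (nat_lit 1520) L))) (nat_lit 9869772) (nat_lit 1521) (N 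
(N (N (N L (nat_lit 9872493) (nat_lit 1522) L) (nat_lit 9875698) (nat_lit 1523) L) (nat_lit 9882544) (nat_lit 1524) (N L (nat_lit 9888398) (nat_lit 1525) L)) (nat_lit 9893393) (nat_lit 1526) 
(N (N (N L (nat_lit 9899910) (nat_lit 1527) L) (nat_lit 9902873) (nat_lit 1528) L) (nat_lit 9905848) (nat_lit 1529) (N L (nat_lit 9908775) (nat_lit 1530) L)))))) (nat_lit 9914725) (nat_lit 1531) (N (N (N (N 
(N (N (N L (nat_lit 9920603) (nat_lit 1532) L) (nat_lit 9925828) (nat_lit 1533) L) (nat_lit 9946275) (nat_lit 1534) (N L (nat_lit 9949244) (nat_lit 1535) L)) (nat_lit 9959682) (nat_lit 1536) 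
(N (N (N L (nat_lit 9975226) (nat_lit 1537) L) (nat_lit 9981688) (nat_lit 1538) L) (nat_lit 9984615) (nat_lit 1539) (N L (nat_lit 9988038) (nat_lit 1540) L))) (nat_lit 9991001) (nat_lit 1541) (N 
(N (N (N L (nat_lit 9995741) (nat_lit 1542) L) (nat_lit 10005731) (nat_lit 1543) L) (nat_lit 10008700) (nat_lit 1544) (N L (nat_lit 10011454) (nat_lit 1545) L)) (nat_lit 10016673) (nat_lit 1546) 
(N (N (N L (nat_lit 10032023) (nat_lit 1547) L) (nat_lit 10038838) (nat_lit 1548) L) (nat_lit 10042025) (nat_lit 1549) (N L (nat_lit 10043883) (nat_lit 1550) L)))) (nat_lit 10048884) (nat_lit 1551) (N (N 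
(N (N (N L (nat_lit 10053845) (nat_lit 1552) L) (nat_lit 10058826) (nat_lit 1553) L) (nat_lit 10062542) (nat_lit 1554) (N L (nat_lit 10067537) (nat_lit 1555) L)) (nat_lit 10068976) (nat_lit 1556) 
(N (N (N L (nat_lit 10079277) (nat_lit 1557) L) (nat_lit 10082482) (nat_lit 1558) L) (nat_lit 10085651) (nat_lit 1559) (N L (nat_lit 10088844) (nat_lit 1560) L))) (nat_lit 10098237) (nat_lit 1561) (N 
(N (N (N L (nat_lit 10103708) (nat_lit 1562) L) (nat_lit 10108675) (nat_lit 1563) L) (nat_lit 10113246) (nat_lit 1564) (N L (nat_lit 10123744) (nat_lit 1565) L)) (nat_lit 10129252) (nat_lit 1566) 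
(N (N (N L (nat_lit 10135130) (nat_lit 1567) L) (nat_lit 10138309) (nat_lit 1568) L) (nat_lit 10144135) (nat_lit 1569) (N L (nat_lit 10149144) (nat_lit 1570) L))))) (nat_lit 10150073) (nat_lit 1571) (N (N (N 
(N (N (N L (nat_lit 10155046) (nat_lit 1572) L) (nat_lit 10161585) (nat_lit 1573) L) (nat_lit 10164526) (nat_lit 1574) (N L (nat_lit 10167439) (nat_lit 1575) L)) (nat_lit 10177362) (nat_lit 1576) 
(N (N (N L (nat_lit 10183276) (nat_lit 1577) L) (nat_lit 10190967) (nat_lit 1578) L) (nat_lit 10196200) (nat_lit 1579) (N L (nat_lit 10201417) (nat_lit 1580) L))) (nat_lit 10208916) (nat_lit 1581) (N 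
(N (N (N L (nat_lit 10211851) (nat_lit 1582) L) (nat_lit 10226166) (nat_lit 1583) L) (nat_lit 10231145) (nat_lit 1584) (N L (nat_lit 10237015) (nat_lit 1585) L)) (nat_lit 10243861) (nat_lit 1586) 
(N (N (N L (nat_lit 10247050) (nat_lit 1587) L) (nat_lit 10249771) (nat_lit 1588) L) (nat_lit 10252980) (nat_lit 1589) (N L (nat_lit 10260655) (nat_lit 1590) L)))) (nat_lit 10267918) (nat_lit 1591) (N (N 
(N (N (N L (nat_lit 10271121) (nat_lit 1592) L) (nat_lit 10273491) (nat_lit 1593) L) (nat_lit 10278476) (nat_lit 1594) (N L (nat_lit 10290917) (nat_lit 1595) L)) (nat_lit 10293882) (nat_lit 1596) 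
(N (N (N L (nat_lit 10304324) (nat_lit 1597) L) (nat_lit 10310809) (nat_lit 1598) L) (nat_lit 10316088) (nat_lit 1599) (N L (nat_lit 10324771) (nat_lit 1600) L))) (nat_lit 10330653) (nat_lit 1601) (N 
(N (N (N L (nat_lit 10335874) (nat_lit 1602) L) (nat_lit 10341824) (nat_lit 1603) L) (nat_lit 10350689) (nat_lit 1604) (N L (nat_lit 10355535) (nat_lit 1605) L)) (nat_lit 10360784) (nat_lit 1606) 
(N (N (N L (nat_lit 10365553) (nat_lit 1607) L) (nat_lit 10372524) (nat_lit 1608) L) (nat_lit 10375475) (nat_lit 1609) (N L (nat_lit 10382482) (nat_lit 1610) L)))))))) (nat_lit 10385421) (nat_lit 1611) (N (N (N (N (N (N 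
(N (N (N L (nat_lit 10391177) (nat_lit 1612) L) (nat_lit 10394134) (nat_lit 1613) L) (nat_lit 10400552) (nat_lit 1614) (N (N L (nat_lit 10405994) (nat_lit 1615) L) (nat_lit 10412372) (nat_lit 1616) L)) (nat_lit 10423388) (nat_lit 1617) 
(N (N (N L (nat_lit 10426563) (nat_lit 1618) L) (nat_lit 10429794) (nat_lit 1619) L) (nat_lit 10444320) (nat_lit 1620) (N L (nat_lit 10445697) (nat_lit 1621) L))) (nat_lit 10453402) (nat_lit 1622) (N 
(N (N (N L (nat_lit 10458373) (nat_lit 1623) L) (nat_lit 10463396) (nat_lit 1624) L) (nat_lit 10501820) (nat_lit 1625) (N L (nat_lit 10503678) (nat_lit 1626) L)) (nat_lit 10516575) (nat_lit 1627) 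
(N (N (N L (nat_lit 10522331) (nat_lit 1628) L) (nat_lit 10528741) (nat_lit 1629) L) (nat_lit 10531706) (nat_lit 1630) (N L (nat_lit 10542247) (nat_lit 1631) L)))) (nat_lit 10548633) (nat_lit 1632) (N (N 
(N (N (N L (nat_lit 10564015) (nat_lit 1633) L) (nat_lit 10570477) (nat_lit 1634) L) (nat_lit 10575474) (nat_lit 1635) (N L (nat_lit 10576851) (nat_lit 1636) L)) (nat_lit 10581836) (nat_lit 1637) 
(N (N (N L (nat_lit 10589527) (nat_lit 1638) L) (nat_lit 10594550) (nat_lit 1639) L) (nat_lit 10599529) (nat_lit 1640) (N L (nat_lit 10602283) (nat_lit 1641) L))) (nat_lit 10605492) (nat_lit 1642) (N 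
(N (N (N L (nat_lit 10612245) (nat_lit 1643) L) (nat_lit 10615434) (nat_lit 1644) L) (nat_lit 10624315) (nat_lit 1645) (N L (nat_lit 10637127) (nat_lit 1646) L)) (nat_lit 10640344) (nat_lit 1647) 
(N (N (N L (nat_lit 10643065) (nat_lit 1648) L) (nat_lit 10646246) (nat_lit 1649) L) (nat_lit 10653949) (nat_lit 1650) (N L (nat_lit 10661212) (nat_lit 1651) L))))) (nat_lit 10664387) (nat_lit 1652) (N (N (N 
(N (N (N L (nat_lit 10671646) (nat_lit 1653) L) (nat_lit 10682144) (nat_lit 1654) L) (nat_lit 10684087) (nat_lit 1655) (N L (nat_lit 10694537) (nat_lit 1656) L)) (nat_lit 10697494) (nat_lit 1657) 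
(N (N (N L (nat_lit 10704075) (nat_lit 1658) L) (nat_lit 10709354) (nat_lit 1659) L) (nat_lit 10718065) (nat_lit 1660) (N L (nat_lit 10723919) (nat_lit 1661) L))) (nat_lit 10729168) (nat_lit 1662) (N 
(N (N (N L (nat_lit 10734994) (nat_lit 1663) L) (nat_lit 10737933) (nat_lit 1664) L) (nat_lit 10740908) (nat_lit 1665) (N L (nat_lit 10743859) (nat_lit 1666) L)) (nat_lit 10753647) (nat_lit 1667) 
(N (N (N L (nat_lit 10759118) (nat_lit 1668) L) (nat_lit 10764113) (nat_lit 1669) L) (nat_lit 10775853) (nat_lit 1670) (N L (nat_lit 10779058) (nat_lit 1671) L)))) (nat_lit 10784566) (nat_lit 1672) (N (N 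
(N (N (N L (nat_lit 10787753) (nat_lit 1673) L) (nat_lit 10793623) (nat_lit 1674) L) (nat_lit 10799573) (nat_lit 1675) (N L (nat_lit 10804554) (nat_lit 1676) L)) (nat_lit 10805483) (nat_lit 1677) 
(N (N (N L (nat_lit 10810484) (nat_lit 1678) L) (nat_lit 10816995) (nat_lit 1679) L) (nat_lit 10819964) (nat_lit 1680) (N L (nat_lit 10822877) (nat_lit 1681) L))) (nat_lit 10838590) (nat_lit 1682) (N 
(N (N (N L (nat_lit 10843809) (nat_lit 1683) L) (nat_lit 10851514) (nat_lit 1684) L) (nat_lit 10856731) (nat_lit 1685) (N L (nat_lit 10861956) (nat_lit 1686) L)) (nat_lit 10864326) (nat_lit 1687) 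
(N (N (N L (nat_lit 10867289) (nat_lit 1688) L) (nat_lit 10886358) (nat_lit 1689) L) (nat_lit 10887543) (nat_lit 1690) (N L (nat_lit 10892776) (nat_lit 1691) L)))))) (nat_lit 10899114) (nat_lit 1692) (N (N (N (N 
(N (N (N L (nat_lit 10902069) (nat_lit 1693) L) (nat_lit 10905492) (nat_lit 1694) L) (nat_lit 10908427) (nat_lit 1695) (N L (nat_lit 10913167) (nat_lit 1696) L)) (nat_lit 10923185) (nat_lit 1697) 
(N (N (N L (nat_lit 10926126) (nat_lit 1698) L) (nat_lit 10929004) (nat_lit 1699) L) (nat_lit 10938962) (nat_lit 1700) (N L (nat_lit 10946394) (nat_lit 1701) L))) (nat_lit 10949573) (nat_lit 1702) (N 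
(N (N (N L (nat_lit 10956388) (nat_lit 1703) L) (nat_lit 10961337) (nat_lit 1704) L) (nat_lit 10966310) (nat_lit 1705) (N L (nat_lit 10971271) (nat_lit 1706) L)) (nat_lit 10976280) (nat_lit 1707) 
(N (N (N L (nat_lit 10979996) (nat_lit 1708) L) (nat_lit 10984963) (nat_lit 1709) L) (nat_lit 10986402) (nat_lit 1710) (N L (nat_lit 11000032) (nat_lit 1711) L)))) (nat_lit 11003201) (nat_lit 1712) (N (N 
(N (N (N L (nat_lit 11020793) (nat_lit 1713) L) (nat_lit 11025766) (nat_lit 1714) L) (nat_lit 11031227) (nat_lit 1715) (N L (nat_lit 11038490) (nat_lit 1716) L)) (nat_lit 11041669) (nat_lit 1717) 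
(N (N (N L (nat_lit 11049374) (nat_lit 1718) L) (nat_lit 11052095) (nat_lit 1719) L) (nat_lit 11062242) (nat_lit 1720) (N L (nat_lit 11068124) (nat_lit 1721) L))) (nat_lit 11073091) (nat_lit 1722) (N 
(N (N (N L (nat_lit 11079636) (nat_lit 1723) L) (nat_lit 11082571) (nat_lit 1724) L) (nat_lit 11085546) (nat_lit 1725) (N L (nat_lit 11088501) (nat_lit 1726) L)) (nat_lit 11094327) (nat_lit 1727) 
(N (N (N L (nat_lit 11099560) (nat_lit 1728) L) (nat_lit 11105430) (nat_lit 1729) L) (nat_lit 11114125) (nat_lit 1730) (N L (nat_lit 11119404) (nat_lit 1731) L))))) (nat_lit 11126001) (nat_lit 1732) (N (N (N 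
(N (N (N L (nat_lit 11128942) (nat_lit 1733) L) (nat_lit 11139408) (nat_lit 1734) L) (nat_lit 11143806) (nat_lit 1735) (N L (nat_lit 11149025) (nat_lit 1736) L)) (nat_lit 11160733) (nat_lit 1737) 
(N (N (N L (nat_lit 11167139) (nat_lit 1738) L) (nat_lit 11170108) (nat_lit 1739) L) (nat_lit 11175864) (nat_lit 1740) (N L (nat_lit 11178791) (nat_lit 1741) L))) (nat_lit 11185798) (nat_lit 1742) (N 
(N (N (N L (nat_lit 11188761) (nat_lit 1743) L) (nat_lit 11190619) (nat_lit 1744) L) (nat_lit 11195844) (nat_lit 1745) (N L (nat_lit 11200613) (nat_lit 1746) L)) (nat_lit 11208045) (nat_lit 1747) 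
(N (N (N L (nat_lit 11211250) (nat_lit 1748) L) (nat_lit 11218003) (nat_lit 1749) L) (nat_lit 11221196) (nat_lit 1750) (N L (nat_lit 11223950) (nat_lit 1751) L)))) (nat_lit 11228945) (nat_lit 1752) (N (N 
(N (N (N L (nat_lit 11233968) (nat_lit 1753) L) (nat_lit 11241643) (nat_lit 1754) L) (nat_lit 11246644) (nat_lit 1755) (N L (nat_lit 11248021) (nat_lit 1756) L)) (nat_lit 11253002) (nat_lit 1757) 
(N (N (N L (nat_lit 11259464) (nat_lit 1758) L) (nat_lit 11277749) (nat_lit 1759) L) (nat_lit 11287691) (nat_lit 1760) (N L (nat_lit 11290569) (nat_lit 1761) L))) (nat_lit 11293526) (nat_lit 1762) (N 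
(N (N (N L (nat_lit 11303528) (nat_lit 1763) L) (nat_lit 11308268) (nat_lit 1764) L) (nat_lit 11311219) (nat_lit 1765) (N L (nat_lit 11314642) (nat_lit 1766) L)) (nat_lit 11317581) (nat_lit 1767) 
(N (N (N L (nat_lit 11323919) (nat_lit 1768) L) (nat_lit 11329168) (nat_lit 1769) L) (nat_lit 11330353) (nat_lit 1770) (N L (nat_lit 11341369) (nat_lit 1771) L))))))) (nat_lit 11344550) (nat_lit 1772) (N (N (N (N (N 
(N (N (N L (nat_lit 11347719) (nat_lit 1773) L) (nat_lit 11350936) (nat_lit 1774) L) (nat_lit 11356378) (nat_lit 1775) (N (N L (nat_lit 11361349) (nat_lit 1776) L) (nat_lit 11362788) (nat_lit 1777) L)) (nat_lit 11376480) (nat_lit 1778) 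
(N (N (N L (nat_lit 11381441) (nat_lit 1779) L) (nat_lit 11388188) (nat_lit 1780) L) (nat_lit 11391363) (nat_lit 1781) (N L (nat_lit 11398178) (nat_lit 1782) L))) (nat_lit 11406227) (nat_lit 1783) (N 
(N (N (N L (nat_lit 11411212) (nat_lit 1784) L) (nat_lit 11412141) (nat_lit 1785) L) (nat_lit 11417138) (nat_lit 1786) (N L (nat_lit 11423088) (nat_lit 1787) L)) (nat_lit 11428942) (nat_lit 1788) 
(N (N (N L (nat_lit 11432145) (nat_lit 1789) L) (nat_lit 11437653) (nat_lit 1790) L) (nat_lit 11440842) (nat_lit 1791) (N L (nat_lit 11452598) (nat_lit 1792) L)))) (nat_lit 11457577) (nat_lit 1793) (N (N 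
(N (N (N L (nat_lit 11463048) (nat_lit 1794) L) (nat_lit 11472927) (nat_lit 1795) L) (nat_lit 11483425) (nat_lit 1796) (N L (nat_lit 11485795) (nat_lit 1797) L)) (nat_lit 11503942) (nat_lit 1798) 
(N (N (N L (nat_lit 11509880) (nat_lit 1799) L) (nat_lit 11530756) (nat_lit 1800) L) (nat_lit 11546007) (nat_lit 1801) (N L (nat_lit 11556565) (nat_lit 1802) L))) (nat_lit 11561844) (nat_lit 1803) (N 
(N (N (N L (nat_lit 11569519) (nat_lit 1804) L) (nat_lit 11574768) (nat_lit 1805) L) (nat_lit 11580622) (nat_lit 1806) (N L (nat_lit 11587468) (nat_lit 1807) L)) (nat_lit 11590419) (nat_lit 1808) 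
(N (N (N L (nat_lit 11593394) (nat_lit 1809) L) (nat_lit 11596333) (nat_lit 1810) L) (nat_lit 11602874) (nat_lit 1811) (N L (nat_lit 11607845) (nat_lit 1812) L))))) (nat_lit 11613723) (nat_lit 1813) (N (N (N 
(N (N (N L (nat_lit 11619673) (nat_lit 1814) L) (nat_lit 11622854) (nat_lit 1815) L) (nat_lit 11625575) (nat_lit 1816) (N L (nat_lit 11628792) (nat_lit 1817) L)) (nat_lit 11634300) (nat_lit 1818) 
(N (N (N L (nat_lit 11637475) (nat_lit 1819) L) (nat_lit 11644738) (nat_lit 1820) L) (nat_lit 11649183) (nat_lit 1821) (N L (nat_lit 11659681) (nat_lit 1822) L))) (nat_lit 11672207) (nat_lit 1823) (N 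
(N (N (N L (nat_lit 11675438) (nat_lit 1824) L) (nat_lit 11678641) (nat_lit 1825) L) (nat_lit 11684083) (nat_lit 1826) (N L (nat_lit 11689068) (nat_lit 1827) L)) (nat_lit 11690445) (nat_lit 1828) 
(N (N (N L (nat_lit 11695442) (nat_lit 1829) L) (nat_lit 11699158) (nat_lit 1830) L) (nat_lit 11704137) (nat_lit 1831) (N L (nat_lit 11709160) (nat_lit 1832) L)))) (nat_lit 11715893) (nat_lit 1833) (N (N 
(N (N (N L (nat_lit 11719082) (nat_lit 1834) L) (nat_lit 11725835) (nat_lit 1835) L) (nat_lit 11729044) (nat_lit 1836) (N L (nat_lit 11736476) (nat_lit 1837) L)) (nat_lit 11741245) (nat_lit 1838) 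
(N (N (N L (nat_lit 11746466) (nat_lit 1839) L) (nat_lit 11749344) (nat_lit 1840) L) (nat_lit 11762241) (nat_lit 1841) (N L (nat_lit 11766981) (nat_lit 1842) L))) (nat_lit 11769946) (nat_lit 1843) (N 
(N (N (N L (nat_lit 11776356) (nat_lit 1844) L) (nat_lit 11782694) (nat_lit 1845) L) (nat_lit 11789080) (nat_lit 1846) (N L (nat_lit 11801051) (nat_lit 1847) L)) (nat_lit 11807866) (nat_lit 1848) 
(N (N (N L (nat_lit 11811045) (nat_lit 1849) L) (nat_lit 11813799) (nat_lit 1850) L) (nat_lit 11818808) (nat_lit 1851) (N L (nat_lit 11823769) (nat_lit 1852) L)))))) (nat_lit 11828742) (nat_lit 1853) (N (N (N (N 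
(N (N (N L (nat_lit 11836445) (nat_lit 1854) L) (nat_lit 11837884) (nat_lit 1855) L) (nat_lit 11842851) (nat_lit 1856) (N L (nat_lit 11849313) (nat_lit 1857) L)) (nat_lit 11858880) (nat_lit 1858) 
(N (N (N L (nat_lit 11864663) (nat_lit 1859) L) (nat_lit 11869896) (nat_lit 1860) L) (nat_lit 11871081) (nat_lit 1861) (N L (nat_lit 11881652) (nat_lit 1862) L))) (nat_lit 11884587) (nat_lit 1863) (N 
(N (N (N L (nat_lit 11888010) (nat_lit 1864) L) (nat_lit 11890965) (nat_lit 1865) L) (nat_lit 11896721) (nat_lit 1866) (N L (nat_lit 11899662) (nat_lit 1867) L)) (nat_lit 11909680) (nat_lit 1868) 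
(N (N (N L (nat_lit 11911538) (nat_lit 1869) L) (nat_lit 11921484) (nat_lit 1870) L) (nat_lit 11934562) (nat_lit 1871) (N L (nat_lit 11937475) (nat_lit 1872) L)))) (nat_lit 11940444) (nat_lit 1873) (N (N 
(N (N (N L (nat_lit 11946270) (nat_lit 1874) L) (nat_lit 11951489) (nat_lit 1875) L) (nat_lit 11960891) (nat_lit 1876) (N L (nat_lit 11966116) (nat_lit 1877) L)) (nat_lit 11971333) (nat_lit 1878) 
(N (N (N L (nat_lit 11977944) (nat_lit 1879) L) (nat_lit 11980871) (nat_lit 1880) L) (nat_lit 11993326) (nat_lit 1881) (N L (nat_lit 11998321) (nat_lit 1882) L))) (nat_lit 12003792) (nat_lit 1883) (N 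
(N (N (N L (nat_lit 12011021) (nat_lit 1884) L) (nat_lit 12014226) (nat_lit 1885) L) (nat_lit 12029224) (nat_lit 1886) (N L (nat_lit 12035094) (nat_lit 1887) L)) (nat_lit 12038281) (nat_lit 1888) 
(N (N (N L (nat_lit 12060531) (nat_lit 1889) L) (nat_lit 12063724) (nat_lit 1890) L) (nat_lit 12070477) (nat_lit 1891) (N L (nat_lit 12073682) (nat_lit 1892) L))))) (nat_lit 12080399) (nat_lit 1893) (N (N (N 
(N (N (N L (nat_lit 12085422) (nat_lit 1894) L) (nat_lit 12090417) (nat_lit 1895) L) (nat_lit 12094133) (nat_lit 1896) (N L (nat_lit 12099114) (nat_lit 1897) L)) (nat_lit 12100491) (nat_lit 1898) 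
(N (N (N L (nat_lit 12105492) (nat_lit 1899) L) (nat_lit 12110934) (nat_lit 1900) L) (nat_lit 12114121) (nat_lit 1901) (N L (nat_lit 12117352) (nat_lit 1902) L))) (nat_lit 12132702) (nat_lit 1903) (N 
(N (N (N L (nat_lit 12137921) (nat_lit 1904) L) (nat_lit 12144259) (nat_lit 1905) L) (nat_lit 12147228) (nat_lit 1906) (N L (nat_lit 12153634) (nat_lit 1907) L)) (nat_lit 12158374) (nat_lit 1908) 
(N (N (N L (nat_lit 12161337) (nat_lit 1909) L) (nat_lit 12168344) (nat_lit 1910) L) (nat_lit 12171271) (nat_lit 1911) (N L (nat_lit 12174149) (nat_lit 1912) L)))) (nat_lit 12193226) (nat_lit 1913) (N (N 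
(N (N (N L (nat_lit 12196181) (nat_lit 1914) L) (nat_lit 12199156) (nat_lit 1915) L) (nat_lit 12202091) (nat_lit 1916) (N L (nat_lit 12208937) (nat_lit 1917) L)) (nat_lit 12214807) (nat_lit 1918) 
(N (N (N L (nat_lit 12220040) (nat_lit 1919) L) (nat_lit 12227731) (nat_lit 1920) L) (nat_lit 12233010) (nat_lit 1921) (N L (nat_lit 12243568) (nat_lit 1922) L))) (nat_lit 12255961) (nat_lit 1923) (N 
(N (N (N L (nat_lit 12260934) (nat_lit 1924) L) (nat_lit 12272698) (nat_lit 1925) L) (nat_lit 12275877) (nat_lit 1926) (N L (nat_lit 12283140) (nat_lit 1927) L)) (nat_lit 12295040) (nat_lit 1928) 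
(N (N (N L (nat_lit 12297761) (nat_lit 1929) L) (nat_lit 12312770) (nat_lit 1930) L) (nat_lit 12322462) (nat_lit 1931) (N L (nat_lit 12332960) (nat_lit 1932) L))))))))) (nat_lit 12337277) (nat_lit 1933) (N (N (N (N (N (N (N 
(N (N (N L (nat_lit 12342498) (nat_lit 1934) L) (nat_lit 12347715) (nat_lit 1935) L) (nat_lit 12356440) (nat_lit 1936) (N (N L (nat_lit 12362342) (nat_lit 1937) L) (nat_lit 12376356) (nat_lit 1938) L)) (nat_lit 12379269) (nat_lit 1939) 
(N (N (N L (nat_lit 12382234) (nat_lit 1940) L) (nat_lit 12388749) (nat_lit 1941) L) (nat_lit 12393746) (nat_lit 1942) (N L (nat_lit 12394675) (nat_lit 1943) L))) (nat_lit 12399660) (nat_lit 1944) (N 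
(N (N (N L (nat_lit 12412496) (nat_lit 1945) L) (nat_lit 12420171) (nat_lit 1946) L) (nat_lit 12423380) (nat_lit 1947) (N L (nat_lit 12436136) (nat_lit 1948) L)) (nat_lit 12454951) (nat_lit 1949) 
(N (N (N L (nat_lit 12458168) (nat_lit 1950) L) (nat_lit 12461337) (nat_lit 1951) L) (nat_lit 12464518) (nat_lit 1952) (N L (nat_lit 12470980) (nat_lit 1953) L)))) (nat_lit 12485089) (nat_lit 1954) (N (N 
(N (N (N L (nat_lit 12500032) (nat_lit 1955) L) (nat_lit 12502786) (nat_lit 1956) L) (nat_lit 12518196) (nat_lit 1957) (N L (nat_lit 12528138) (nat_lit 1958) L)) (nat_lit 12538184) (nat_lit 1959) 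
(N (N (N L (nat_lit 12568593) (nat_lit 1960) L) (nat_lit 12598171) (nat_lit 1961) L) (nat_lit 12610023) (nat_lit 1962) (N L (nat_lit 12615032) (nat_lit 1963) L))) (nat_lit 12618748) (nat_lit 1964) (N 
(N (N (N L (nat_lit 12623715) (nat_lit 1965) L) (nat_lit 12629597) (nat_lit 1966) L) (nat_lit 12635423) (nat_lit 1967) (N L (nat_lit 12644542) (nat_lit 1968) L)) (nat_lit 12656054) (nat_lit 1969) 
(N (N (N L (nat_lit 12668874) (nat_lit 1970) L) (nat_lit 12671829) (nat_lit 1971) L) (nat_lit 12674804) (nat_lit 1972) (N L (nat_lit 12677739) (nat_lit 1973) L))))) (nat_lit 12682479) (nat_lit 1974) (N (N (N 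
(N (N (N L (nat_lit 12692945) (nat_lit 1975) L) (nat_lit 12695886) (nat_lit 1976) L) (nat_lit 12703379) (nat_lit 1977) (N L (nat_lit 12708658) (nat_lit 1978) L)) (nat_lit 12723645) (nat_lit 1979) 
(N (N (N L (nat_lit 12739422) (nat_lit 1980) L) (nat_lit 12744641) (nat_lit 1981) L) (nat_lit 12752346) (nat_lit 1982) (N L (nat_lit 12757115) (nat_lit 1983) L))) (nat_lit 12762340) (nat_lit 1984) (N 
(N (N (N L (nat_lit 12765094) (nat_lit 1985) L) (nat_lit 12768057) (nat_lit 1986) L) (nat_lit 12775064) (nat_lit 1987) (N L (nat_lit 12777991) (nat_lit 1988) L)) (nat_lit 12785423) (nat_lit 1989) 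
(N (N (N L (nat_lit 12790446) (nat_lit 1990) L) (nat_lit 12795441) (nat_lit 1991) L) (nat_lit 12797299) (nat_lit 1992) (N L (nat_lit 12800492) (nat_lit 1993) L)))) (nat_lit 12807245) (nat_lit 1994) (N (N 
(N (N (N L (nat_lit 12810450) (nat_lit 1995) L) (nat_lit 12815958) (nat_lit 1996) L) (nat_lit 12819145) (nat_lit 1997) (N L (nat_lit 12822376) (nat_lit 1998) L)) (nat_lit 12830901) (nat_lit 1999) 
(N (N (N L (nat_lit 12835882) (nat_lit 2000) L) (nat_lit 12837259) (nat_lit 2001) L) (nat_lit 12842260) (nat_lit 2002) (N L (nat_lit 12847063) (nat_lit 2003) L))) (nat_lit 12857065) (nat_lit 2004) (N 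
(N (N (N L (nat_lit 12860022) (nat_lit 2005) L) (nat_lit 12866987) (nat_lit 2006) L) (nat_lit 12876949) (nat_lit 2007) (N L (nat_lit 12885646) (nat_lit 2008) L)) (nat_lit 12886831) (nat_lit 2009) 
(N (N (N L (nat_lit 12892080) (nat_lit 2010) L) (nat_lit 12897522) (nat_lit 2011) L) (nat_lit 12900461) (nat_lit 2012) (N L (nat_lit 12903884) (nat_lit 2013) L)))))) (nat_lit 12906835) (nat_lit 2014) (N (N (N (N 
(N (N (N L (nat_lit 12917851) (nat_lit 2015) L) (nat_lit 12919290) (nat_lit 2016) L) (nat_lit 12924261) (nat_lit 2017) (N L (nat_lit 12930599) (nat_lit 2018) L)) (nat_lit 12933816) (nat_lit 2019) 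
(N (N (N L (nat_lit 12936985) (nat_lit 2020) L) (nat_lit 12940166) (nat_lit 2021) L) (nat_lit 12947869) (nat_lit 2022) (N L (nat_lit 12954684) (nat_lit 2023) L))) (nat_lit 12957859) (nat_lit 2024) (N 
(N (N (N L (nat_lit 12960737) (nat_lit 2025) L) (nat_lit 12975680) (nat_lit 2026) L) (nat_lit 12979566) (nat_lit 2027) (N L (nat_lit 12982769) (nat_lit 2028) L)) (nat_lit 12988623) (nat_lit 2029) 
(N (N (N L (nat_lit 12995469) (nat_lit 2030) L) (nat_lit 13000466) (nat_lit 2031) L) (nat_lit 13001395) (nat_lit 2032) (N L (nat_lit 13006380) (nat_lit 2033) L)))) (nat_lit 13014071) (nat_lit 2034) (N (N 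
(N (N (N L (nat_lit 13019542) (nat_lit 2035) L) (nat_lit 13024521) (nat_lit 2036) L) (nat_lit 13026891) (nat_lit 2037) (N L (nat_lit 13030100) (nat_lit 2038) L)) (nat_lit 13042301) (nat_lit 2039) 
(N (N (N L (nat_lit 13047522) (nat_lit 2040) L) (nat_lit 13052739) (nat_lit 2041) L) (nat_lit 13059230) (nat_lit 2042) (N L (nat_lit 13069728) (nat_lit 2043) L))) (nat_lit 13081380) (nat_lit 2044) (N 
(N (N (N L (nat_lit 13084293) (nat_lit 2045) L) (nat_lit 13087258) (nat_lit 2046) L) (nat_lit 13093208) (nat_lit 2047) (N L (nat_lit 13099110) (nat_lit 2048) L)) (nat_lit 13111679) (nat_lit 2049) 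
(N (N (N L (nat_lit 13118686) (nat_lit 2050) L) (nat_lit 13129628) (nat_lit 2051) L) (nat_lit 13134397) (nat_lit 2052) (N L (nat_lit 13139618) (nat_lit 2053) L))))) (nat_lit 13147321) (nat_lit 2054) (N (N (N 
(N (N (N L (nat_lit 13153671) (nat_lit 2055) L) (nat_lit 13160133) (nat_lit 2056) L) (nat_lit 13163098) (nat_lit 2057) (N L (nat_lit 13169508) (nat_lit 2058) L)) (nat_lit 13175539) (nat_lit 2059) 
(N (N (N L (nat_lit 13180524) (nat_lit 2060) L) (nat_lit 13181901) (nat_lit 2061) L) (nat_lit 13186898) (nat_lit 2062) (N L (nat_lit 13195407) (nat_lit 2063) L))) (nat_lit 13198638) (nat_lit 2064) (N 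
(N (N (N L (nat_lit 13201841) (nat_lit 2065) L) (nat_lit 13207349) (nat_lit 2066) L) (nat_lit 13210538) (nat_lit 2067) (N L (nat_lit 13217291) (nat_lit 2068) L)) (nat_lit 13220500) (nat_lit 2069) 
(N (N (N L (nat_lit 13222358) (nat_lit 2070) L) (nat_lit 13227337) (nat_lit 2071) L) (nat_lit 13232360) (nat_lit 2072) (N L (nat_lit 13242201) (nat_lit 2073) L)))) (nat_lit 13245382) (nat_lit 2074) (N (N 
(N (N (N L (nat_lit 13248103) (nat_lit 2075) L) (nat_lit 13251320) (nat_lit 2076) L) (nat_lit 13257146) (nat_lit 2077) (N L (nat_lit 13262117) (nat_lit 2078) L)) (nat_lit 13267995) (nat_lit 2079) 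
(N (N (N L (nat_lit 13271711) (nat_lit 2080) L) (nat_lit 13282209) (nat_lit 2081) L) (nat_lit 13288572) (nat_lit 2082) (N L (nat_lit 13291747) (nat_lit 2083) L))) (nat_lit 13299010) (nat_lit 2084) (N 
(N (N (N L (nat_lit 13309141) (nat_lit 2085) L) (nat_lit 13314420) (nat_lit 2086) L) (nat_lit 13321897) (nat_lit 2087) (N L (nat_lit 13324854) (nat_lit 2088) L)) (nat_lit 13335304) (nat_lit 2089) 
(N (N (N L (nat_lit 13340044) (nat_lit 2090) L) (nat_lit 13342995) (nat_lit 2091) L) (nat_lit 13345970) (nat_lit 2092) (N L (nat_lit 13348909) (nat_lit 2093) L))))))) (nat_lit 13361745) (nat_lit 2094) (N (N (N (N (N 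
(N (N (N L (nat_lit 13380915) (nat_lit 2095) L) (nat_lit 13384108) (nat_lit 2096) L) (nat_lit 13386478) (nat_lit 2097) (N (N L (nat_lit 13391473) (nat_lit 2098) L) (nat_lit 13396944) (nat_lit 2099) L)) (nat_lit 13404619) (nat_lit 2100) 
(N (N (N L (nat_lit 13409620) (nat_lit 2101) L) (nat_lit 13410549) (nat_lit 2102) L) (nat_lit 13415530) (nat_lit 2103) (N L (nat_lit 13422376) (nat_lit 2104) L))) (nat_lit 13428246) (nat_lit 2105) (N 
(N (N (N L (nat_lit 13431433) (nat_lit 2106) L) (nat_lit 13437726) (nat_lit 2107) L) (nat_lit 13442945) (nat_lit 2108) (N L (nat_lit 13457762) (nat_lit 2109) L)) (nat_lit 13460675) (nat_lit 2110) 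
(N (N (N L (nat_lit 13463644) (nat_lit 2111) L) (nat_lit 13469400) (nat_lit 2112) L) (nat_lit 13472327) (nat_lit 2113) (N L (nat_lit 13484091) (nat_lit 2114) L)))) (nat_lit 13489316) (nat_lit 2115) (N (N 
(N (N (N L (nat_lit 13494533) (nat_lit 2116) L) (nat_lit 13504180) (nat_lit 2117) L) (nat_lit 13507115) (nat_lit 2118) (N L (nat_lit 13510538) (nat_lit 2119) L)) (nat_lit 13513493) (nat_lit 2120) 
(N (N (N L (nat_lit 13518935) (nat_lit 2121) L) (nat_lit 13524168) (nat_lit 2122) L) (nat_lit 13525353) (nat_lit 2123) (N L (nat_lit 13534066) (nat_lit 2124) L))) (nat_lit 13544012) (nat_lit 2125) (N 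
(N (N (N L (nat_lit 13550993) (nat_lit 2126) L) (nat_lit 13553934) (nat_lit 2127) L) (nat_lit 13563952) (nat_lit 2128) (N L (nat_lit 13566375) (nat_lit 2129) L)) (nat_lit 13571384) (nat_lit 2130) 
(N (N (N L (nat_lit 13576345) (nat_lit 2131) L) (nat_lit 13581318) (nat_lit 2132) L) (nat_lit 13584196) (nat_lit 2133) (N L (nat_lit 13601889) (nat_lit 2134) L))))) (nat_lit 13611456) (nat_lit 2135) (N (N (N 
(N (N (N L (nat_lit 13617794) (nat_lit 2136) L) (nat_lit 13646895) (nat_lit 2137) L) (nat_lit 13649773) (nat_lit 2138) (N L (nat_lit 13652978) (nat_lit 2139) L)) (nat_lit 13659731) (nat_lit 2140) 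
(N (N (N L (nat_lit 13662924) (nat_lit 2141) L) (nat_lit 13670615) (nat_lit 2142) L) (nat_lit 13673846) (nat_lit 2143) (N L (nat_lit 13677033) (nat_lit 2144) L))) (nat_lit 13683371) (nat_lit 2145) (N 
(N (N (N L (nat_lit 13688372) (nat_lit 2146) L) (nat_lit 13689749) (nat_lit 2147) L) (nat_lit 13694730) (nat_lit 2148) (N L (nat_lit 13700765) (nat_lit 2149) L)) (nat_lit 13707171) (nat_lit 2150) 
(N (N (N L (nat_lit 13710140) (nat_lit 2151) L) (nat_lit 13715582) (nat_lit 2152) L) (nat_lit 13720801) (nat_lit 2153) (N L (nat_lit 13730651) (nat_lit 2154) L)))) (nat_lit 13735876) (nat_lit 2155) (N (N 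
(N (N (N L (nat_lit 13740645) (nat_lit 2156) L) (nat_lit 13747640) (nat_lit 2157) L) (nat_lit 13750567) (nat_lit 2158) (N L (nat_lit 13757574) (nat_lit 2159) L)) (nat_lit 13760537) (nat_lit 2160) 
(N (N (N L (nat_lit 13765431) (nat_lit 2161) L) (nat_lit 13770664) (nat_lit 2162) L) (nat_lit 13776534) (nat_lit 2163) (N L (nat_lit 13782484) (nat_lit 2164) L))) (nat_lit 13785419) (nat_lit 2165) (N 
(N (N (N L (nat_lit 13788394) (nat_lit 2166) L) (nat_lit 13791349) (nat_lit 2167) L) (nat_lit 13797105) (nat_lit 2168) (N L (nat_lit 13800046) (nat_lit 2169) L)) (nat_lit 13810512) (nat_lit 2170) 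
(N (N (N L (nat_lit 13816973) (nat_lit 2171) L) (nat_lit 13822252) (nat_lit 2172) L) (nat_lit 13832379) (nat_lit 2173) (N L (nat_lit 13839642) (nat_lit 2174) L)))))) (nat_lit 13842821) (nat_lit 2175) (N (N (N (N 
(N (N (N L (nat_lit 13845191) (nat_lit 2176) L) (nat_lit 13850200) (nat_lit 2177) L) (nat_lit 13863394) (nat_lit 2178) (N L (nat_lit 13869276) (nat_lit 2179) L)) (nat_lit 13874243) (nat_lit 2180) 
(N (N (N L (nat_lit 13881089) (nat_lit 2181) L) (nat_lit 13890208) (nat_lit 2182) L) (nat_lit 13899004) (nat_lit 2183) (N L (nat_lit 13904221) (nat_lit 2184) L))) (nat_lit 13909442) (nat_lit 2185) (N 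
(N (N (N L (nat_lit 13914655) (nat_lit 2186) L) (nat_lit 13925153) (nat_lit 2187) L) (nat_lit 13929893) (nat_lit 2188) (N L (nat_lit 13932858) (nat_lit 2189) L)) (nat_lit 13935771) (nat_lit 2190) 
(N (N (N L (nat_lit 13945670) (nat_lit 2191) L) (nat_lit 13951608) (nat_lit 2192) L) (nat_lit 13963120) (nat_lit 2193) (N L (nat_lit 13968974) (nat_lit 2194) L)))) (nat_lit 13972177) (nat_lit 2195) (N (N 
(N (N (N L (nat_lit 13978003) (nat_lit 2196) L) (nat_lit 13982988) (nat_lit 2197) L) (nat_lit 13983917) (nat_lit 2198) (N L (nat_lit 13988914) (nat_lit 2199) L)) (nat_lit 13992630) (nat_lit 2200) 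
(N (N (N L (nat_lit 13997609) (nat_lit 2201) L) (nat_lit 14003080) (nat_lit 2202) L) (nat_lit 14009429) (nat_lit 2203) (N L (nat_lit 14012618) (nat_lit 2204) L))) (nat_lit 14027482) (nat_lit 2205) (N 
(N (N (N L (nat_lit 14032453) (nat_lit 2206) L) (nat_lit 14033892) (nat_lit 2207) L) (nat_lit 14044217) (nat_lit 2208) (N L (nat_lit 14047398) (nat_lit 2209) L)) (nat_lit 14050567) (nat_lit 2210) 
(N (N (N L (nat_lit 14053784) (nat_lit 2211) L) (nat_lit 14059292) (nat_lit 2212) L) (nat_lit 14062467) (nat_lit 2213) (N L (nat_lit 14069282) (nat_lit 2214) L))))) (nat_lit 14079328) (nat_lit 2215) (N (N (N 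
(N (N (N L (nat_lit 14084289) (nat_lit 2216) L) (nat_lit 14091721) (nat_lit 2217) L) (nat_lit 14094678) (nat_lit 2218) (N L (nat_lit 14104680) (nat_lit 2219) L)) (nat_lit 14107434) (nat_lit 2220) 
(N (N (N L (nat_lit 14117396) (nat_lit 2221) L) (nat_lit 14125071) (nat_lit 2222) L) (nat_lit 14130320) (nat_lit 2223) (N L (nat_lit 14131505) (nat_lit 2224) L))) (nat_lit 14161611) (nat_lit 2225) (N 
(N (N (N L (nat_lit 14166890) (nat_lit 2226) L) (nat_lit 14173367) (nat_lit 2227) L) (nat_lit 14183817) (nat_lit 2228) (N L (nat_lit 14186774) (nat_lit 2229) L)) (nat_lit 14192530) (nat_lit 2230) 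
(N (N (N L (nat_lit 14195469) (nat_lit 2231) L) (nat_lit 14198444) (nat_lit 2232) L) (nat_lit 14201395) (nat_lit 2233) (N L (nat_lit 14207345) (nat_lit 2234) L)))) (nat_lit 14213199) (nat_lit 2235) (N (N 
(N (N (N L (nat_lit 14218448) (nat_lit 2236) L) (nat_lit 14224711) (nat_lit 2237) L) (nat_lit 14227928) (nat_lit 2238) (N L (nat_lit 14230649) (nat_lit 2239) L)) (nat_lit 14233830) (nat_lit 2240) 
(N (N (N L (nat_lit 14240676) (nat_lit 2241) L) (nat_lit 14246554) (nat_lit 2242) L) (nat_lit 14251525) (nat_lit 2243) (N L (nat_lit 14259230) (nat_lit 2244) L))) (nat_lit 14269728) (nat_lit 2245) (N 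
(N (N (N L (nat_lit 14272098) (nat_lit 2246) L) (nat_lit 14289133) (nat_lit 2247) L) (nat_lit 14294130) (nat_lit 2248) (N L (nat_lit 14295507) (nat_lit 2249) L)) (nat_lit 14300492) (nat_lit 2250) 
(N (N (N L (nat_lit 14306830) (nat_lit 2251) L) (nat_lit 14310033) (nat_lit 2252) L) (nat_lit 14313264) (nat_lit 2253) (N L (nat_lit 14320939) (nat_lit 2254) L)))))))) (nat_lit 14324148) (nat_lit 2255) (N (N (N (N (N (N 
(N (N (N L (nat_lit 14330901) (nat_lit 2256) L) (nat_lit 14334090) (nat_lit 2257) L) (nat_lit 14336968) (nat_lit 2258) (N (N L (nat_lit 14357345) (nat_lit 2259) L) (nat_lit 14364352) (nat_lit 2260) L)) (nat_lit 14369053) (nat_lit 2261) 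
(N (N (N L (nat_lit 14374274) (nat_lit 2262) L) (nat_lit 14379043) (nat_lit 2263) L) (nat_lit 14387768) (nat_lit 2264) (N L (nat_lit 14394118) (nat_lit 2265) L))) (nat_lit 14407748) (nat_lit 2266) (N 
(N (N (N L (nat_lit 14418873) (nat_lit 2267) L) (nat_lit 14423846) (nat_lit 2268) L) (nat_lit 14428807) (nat_lit 2269) (N L (nat_lit 14433816) (nat_lit 2270) L)) (nat_lit 14435674) (nat_lit 2271) 
(N (N (N L (nat_lit 14438853) (nat_lit 2272) L) (nat_lit 14445668) (nat_lit 2273) L) (nat_lit 14457568) (nat_lit 2274) (N L (nat_lit 14460737) (nat_lit 2275) L)))) (nat_lit 14469276) (nat_lit 2276) (N (N 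
(N (N (N L (nat_lit 14474243) (nat_lit 2277) L) (nat_lit 14475682) (nat_lit 2278) L) (nat_lit 14486698) (nat_lit 2279) (N L (nat_lit 14489653) (nat_lit 2280) L)) (nat_lit 14493076) (nat_lit 2281) 
(N (N (N L (nat_lit 14496011) (nat_lit 2282) L) (nat_lit 14502473) (nat_lit 2283) L) (nat_lit 14516588) (nat_lit 2284) (N L (nat_lit 14526546) (nat_lit 2285) L))) (nat_lit 14537488) (nat_lit 2286) (N 
(N (N (N L (nat_lit 14557246) (nat_lit 2287) L) (nat_lit 14562465) (nat_lit 2288) L) (nat_lit 14578242) (nat_lit 2289) (N L (nat_lit 14582982) (nat_lit 2290) L)) (nat_lit 14585945) (nat_lit 2291) 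
(N (N (N L (nat_lit 14598693) (nat_lit 2292) L) (nat_lit 14616083) (nat_lit 2293) L) (nat_lit 14619276) (nat_lit 2294) (N L (nat_lit 14631152) (nat_lit 2295) L))))) (nat_lit 14672904) (nat_lit 2296) (N (N (N 
(N (N (N L (nat_lit 14687693) (nat_lit 2297) L) (nat_lit 14693619) (nat_lit 2298) L) (nat_lit 14700465) (nat_lit 2299) (N L (nat_lit 14703406) (nat_lit 2300) L)) (nat_lit 14706319) (nat_lit 2301) 
(N (N (N L (nat_lit 14724522) (nat_lit 2302) L) (nat_lit 14727477) (nat_lit 2303) L) (nat_lit 14729847) (nat_lit 2304) (N L (nat_lit 14735080) (nat_lit 2305) L))) (nat_lit 14740297) (nat_lit 2306) (N 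
(N (N (N L (nat_lit 14750430) (nat_lit 2307) L) (nat_lit 14760928) (nat_lit 2308) L) (nat_lit 14767165) (nat_lit 2309) (N L (nat_lit 14772636) (nat_lit 2310) L)) (nat_lit 14777603) (nat_lit 2311) 
(N (N (N L (nat_lit 14781319) (nat_lit 2312) L) (nat_lit 14786328) (nat_lit 2313) L) (nat_lit 14787257) (nat_lit 2314) (N L (nat_lit 14792230) (nat_lit 2315) L)))) (nat_lit 14798180) (nat_lit 2316) (N (N 
(N (N (N L (nat_lit 14804058) (nat_lit 2317) L) (nat_lit 14807237) (nat_lit 2318) L) (nat_lit 14812139) (nat_lit 2319) (N L (nat_lit 14817140) (nat_lit 2320) L)) (nat_lit 14822101) (nat_lit 2321) 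
(N (N (N L (nat_lit 14827082) (nat_lit 2322) L) (nat_lit 14832023) (nat_lit 2323) L) (nat_lit 14838838) (nat_lit 2324) (N L (nat_lit 14842025) (nat_lit 2325) L))) (nat_lit 14847533) (nat_lit 2326) (N 
(N (N (N L (nat_lit 14850738) (nat_lit 2327) L) (nat_lit 14853907) (nat_lit 2328) L) (nat_lit 14857100) (nat_lit 2329) (N L (nat_lit 14862542) (nat_lit 2330) L)) (nat_lit 14867537) (nat_lit 2331) 
(N (N (N L (nat_lit 14868976) (nat_lit 2332) L) (nat_lit 14879992) (nat_lit 2333) L) (nat_lit 14882919) (nat_lit 2334) (N L (nat_lit 14886342) (nat_lit 2335) L)))))) (nat_lit 14889305) (nat_lit 2336) (N (N (N (N 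
(N (N (N L (nat_lit 14895643) (nat_lit 2337) L) (nat_lit 14900868) (nat_lit 2338) L) (nat_lit 14902053) (nat_lit 2339) (N L (nat_lit 14909758) (nat_lit 2340) L)) (nat_lit 14914977) (nat_lit 2341) 
(N (N (N L (nat_lit 14930754) (nat_lit 2342) L) (nat_lit 14944447) (nat_lit 2343) L) (nat_lit 14955806) (nat_lit 2344) (N L (nat_lit 14962268) (nat_lit 2345) L))) (nat_lit 14965443) (nat_lit 2346) (N 
(N (N (N L (nat_lit 14968674) (nat_lit 2347) L) (nat_lit 14976377) (nat_lit 2348) L) (nat_lit 14979558) (nat_lit 2349) (N L (nat_lit 14986311) (nat_lit 2350) L)) (nat_lit 14989528) (nat_lit 2351) 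
(N (N (N L (nat_lit 14992282) (nat_lit 2352) L) (nat_lit 14997253) (nat_lit 2353) L) (nat_lit 15002276) (nat_lit 2354) (N L (nat_lit 15009708) (nat_lit 2355) L)))) (nat_lit 15012659) (nat_lit 2356) (N (N 
(N (N (N L (nat_lit 15019666) (nat_lit 2357) L) (nat_lit 15022605) (nat_lit 2358) L) (nat_lit 15024463) (nat_lit 2359) (N L (nat_lit 15029712) (nat_lit 2360) L)) (nat_lit 15034481) (nat_lit 2361) 
(N (N (N L (nat_lit 15043178) (nat_lit 2362) L) (nat_lit 15049556) (nat_lit 2363) L) (nat_lit 15060105) (nat_lit 2364) (N L (nat_lit 15063062) (nat_lit 2365) L))) (nat_lit 15069480) (nat_lit 2366) (N 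
(N (N (N L (nat_lit 15079065) (nat_lit 2367) L) (nat_lit 15084344) (nat_lit 2368) L) (nat_lit 15090917) (nat_lit 2369) (N L (nat_lit 15093882) (nat_lit 2370) L)) (nat_lit 15104324) (nat_lit 2371) 
(N (N (N L (nat_lit 15110080) (nat_lit 2372) L) (nat_lit 15118945) (nat_lit 2373) L) (nat_lit 15124771) (nat_lit 2374) (N L (nat_lit 15130653) (nat_lit 2375) L))))) (nat_lit 15135874) (nat_lit 2376) (N (N (N 
(N (N (N L (nat_lit 15142165) (nat_lit 2377) L) (nat_lit 15145354) (nat_lit 2378) L) (nat_lit 15148075) (nat_lit 2379) (N L (nat_lit 15151284) (nat_lit 2380) L)) (nat_lit 15164104) (nat_lit 2381) 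
(N (N (N L (nat_lit 15171795) (nat_lit 2382) L) (nat_lit 15176780) (nat_lit 2383) L) (nat_lit 15189552) (nat_lit 2384) (N L (nat_lit 15212055) (nat_lit 2385) L))) (nat_lit 15213494) (nat_lit 2386) (N 
(N (N (N L (nat_lit 15218473) (nat_lit 2387) L) (nat_lit 15223915) (nat_lit 2388) L) (nat_lit 15227124) (nat_lit 2389) (N L (nat_lit 15230293) (nat_lit 2390) L)) (nat_lit 15233482) (nat_lit 2391) 
(N (N (N L (nat_lit 15238990) (nat_lit 2392) L) (nat_lit 15242193) (nat_lit 2393) L) (nat_lit 15249008) (nat_lit 2394) (N L (nat_lit 15253933) (nat_lit 2395) L)))) (nat_lit 15258930) (nat_lit 2396) (N (N 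
(N (N (N L (nat_lit 15263891) (nat_lit 2397) L) (nat_lit 15268876) (nat_lit 2398) L) (nat_lit 15271323) (nat_lit 2399) (N L (nat_lit 15281317) (nat_lit 2400) L)) (nat_lit 15284282) (nat_lit 2401) 
(N (N (N L (nat_lit 15287160) (nat_lit 2402) L) (nat_lit 15297094) (nat_lit 2403) L) (nat_lit 15304797) (nat_lit 2404) (N L (nat_lit 15310018) (nat_lit 2405) L))) (nat_lit 15311203) (nat_lit 2406) (N 
(N (N (N L (nat_lit 15325729) (nat_lit 2407) L) (nat_lit 15329152) (nat_lit 2408) L) (nat_lit 15340718) (nat_lit 2409) (N L (nat_lit 15345935) (nat_lit 2410) L)) (nat_lit 15351184) (nat_lit 2411) 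
(N (N (N L (nat_lit 15353554) (nat_lit 2412) L) (nat_lit 15356493) (nat_lit 2413) L) (nat_lit 15374696) (nat_lit 2414) (N L (nat_lit 15377609) (nat_lit 2415) L))))))) (nat_lit 15380566) (nat_lit 2416) (N (N (N (N (N 
(N (N (N L (nat_lit 15387412) (nat_lit 2417) L) (nat_lit 15393322) (nat_lit 2418) L) (nat_lit 15404834) (nat_lit 2419) (N (N L (nat_lit 15410716) (nat_lit 2420) L) (nat_lit 15413891) (nat_lit 2421) L)) (nat_lit 15419841) (nat_lit 2422) 
(N (N (N L (nat_lit 15430752) (nat_lit 2423) L) (nat_lit 15434468) (nat_lit 2424) L) (nat_lit 15451143) (nat_lit 2425) (N L (nat_lit 15454360) (nat_lit 2426) L))) (nat_lit 15469413) (nat_lit 2427) (N 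
(N (N (N L (nat_lit 15475291) (nat_lit 2428) L) (nat_lit 15480516) (nat_lit 2429) L) (nat_lit 15486342) (nat_lit 2430) (N L (nat_lit 15489305) (nat_lit 2431) L)) (nat_lit 15492280) (nat_lit 2432) 
(N (N (N L (nat_lit 15495207) (nat_lit 2433) L) (nat_lit 15500963) (nat_lit 2434) L) (nat_lit 15503932) (nat_lit 2435) (N L (nat_lit 15514370) (nat_lit 2436) L)))) (nat_lit 15533174) (nat_lit 2437) (N (N 
(N (N (N L (nat_lit 15536361) (nat_lit 2438) L) (nat_lit 15543624) (nat_lit 2439) L) (nat_lit 15549077) (nat_lit 2440) (N L (nat_lit 15554058) (nat_lit 2441) L)) (nat_lit 15567280) (nat_lit 2442) 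
(N (N (N L (nat_lit 15573134) (nat_lit 2443) L) (nat_lit 15578129) (nat_lit 2444) L) (nat_lit 15598044) (nat_lit 2445) (N L (nat_lit 15603011) (nat_lit 2446) L))) (nat_lit 15608034) (nat_lit 2447) (N 
(N (N (N L (nat_lit 15618976) (nat_lit 2448) L) (nat_lit 15625729) (nat_lit 2449) L) (nat_lit 15633434) (nat_lit 2450) (N L (nat_lit 15636613) (nat_lit 2451) L)) (nat_lit 15639844) (nat_lit 2452) 
(N (N (N L (nat_lit 15669840) (nat_lit 2453) L) (nat_lit 15681580) (nat_lit 2454) L) (nat_lit 15687954) (nat_lit 2455) (N L (nat_lit 15696649) (nat_lit 2456) L))))) (nat_lit 15732454) (nat_lit 2457) (N (N (N 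
(N (N (N L (nat_lit 15735417) (nat_lit 2458) L) (nat_lit 15738840) (nat_lit 2459) L) (nat_lit 15741767) (nat_lit 2460) (N L (nat_lit 15752346) (nat_lit 2461) L)) (nat_lit 15753531) (nat_lit 2462) 
(N (N (N L (nat_lit 15758756) (nat_lit 2463) L) (nat_lit 15772190) (nat_lit 2464) L) (nat_lit 15777409) (nat_lit 2465) (N L (nat_lit 15779267) (nat_lit 2466) L))) (nat_lit 15782236) (nat_lit 2467) (N 
(N (N (N L (nat_lit 15792226) (nat_lit 2468) L) (nat_lit 15794677) (nat_lit 2469) L) (nat_lit 15799658) (nat_lit 2470) (N L (nat_lit 15804619) (nat_lit 2471) L)) (nat_lit 15809620) (nat_lit 2472) 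
(N (N (N L (nat_lit 15812374) (nat_lit 2473) L) (nat_lit 15815561) (nat_lit 2474) L) (nat_lit 15822376) (nat_lit 2475) (N L (nat_lit 15830067) (nat_lit 2476) L)))) (nat_lit 15833260) (nat_lit 2477) (N (N 
(N (N (N L (nat_lit 15836429) (nat_lit 2478) L) (nat_lit 15839634) (nat_lit 2479) L) (nat_lit 15846096) (nat_lit 2480) (N L (nat_lit 15860831) (nat_lit 2481) L)) (nat_lit 15871329) (nat_lit 2482) 
(N (N (N L (nat_lit 15876796) (nat_lit 2483) L) (nat_lit 15881763) (nat_lit 2484) L) (nat_lit 15887234) (nat_lit 2485) (N L (nat_lit 15894937) (nat_lit 2486) L))) (nat_lit 15899910) (nat_lit 2487) (N 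
(N (N (N L (nat_lit 15900839) (nat_lit 2488) L) (nat_lit 15905848) (nat_lit 2489) L) (nat_lit 15918660) (nat_lit 2490) (N L (nat_lit 15928140) (nat_lit 2491) L)) (nat_lit 15934066) (nat_lit 2492) 
(N (N (N L (nat_lit 15948080) (nat_lit 2493) L) (nat_lit 15950993) (nat_lit 2494) L) (nat_lit 15953934) (nat_lit 2495) (N L (nat_lit 15959690) (nat_lit 2496) L)))))) (nat_lit 15962645) (nat_lit 2497) (N (N (N (N 
(N (N (N L (nat_lit 15974505) (nat_lit 2498) L) (nat_lit 15994635) (nat_lit 2499) L) (nat_lit 15997844) (nat_lit 2500) (N L (nat_lit 16000565) (nat_lit 2501) L)) (nat_lit 16003754) (nat_lit 2502) 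
(N (N (N L (nat_lit 16009704) (nat_lit 2503) L) (nat_lit 16015574) (nat_lit 2504) L) (nat_lit 16020553) (nat_lit 2505) (N L (nat_lit 16024269) (nat_lit 2506) L))) (nat_lit 16029266) (nat_lit 2507) (N 
(N (N (N L (nat_lit 16041006) (nat_lit 2508) L) (nat_lit 16044209) (nat_lit 2509) L) (nat_lit 16051472) (nat_lit 2510) (N L (nat_lit 16061575) (nat_lit 2511) L)) (nat_lit 16066854) (nat_lit 2512) 
(N (N (N L (nat_lit 16077412) (nat_lit 2513) L) (nat_lit 16095553) (nat_lit 2514) L) (nat_lit 16098528) (nat_lit 2515) (N L (nat_lit 16114179) (nat_lit 2516) L)))) (nat_lit 16123314) (nat_lit 2517) (N (N 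
(N (N (N L (nat_lit 16126253) (nat_lit 2518) L) (nat_lit 16133260) (nat_lit 2519) L) (nat_lit 16136211) (nat_lit 2520) (N L (nat_lit 16139089) (nat_lit 2521) L)) (nat_lit 16156788) (nat_lit 2522) 
(N (N (N L (nat_lit 16163146) (nat_lit 2523) L) (nat_lit 16177672) (nat_lit 2524) L) (nat_lit 16190113) (nat_lit 2525) (N L (nat_lit 16201472) (nat_lit 2526) L))) (nat_lit 16206914) (nat_lit 2527) (N 
(N (N (N L (nat_lit 16236932) (nat_lit 2528) L) (nat_lit 16256316) (nat_lit 2529) L) (nat_lit 16259491) (nat_lit 2530) (N L (nat_lit 16265373) (nat_lit 2531) L)) (nat_lit 16277312) (nat_lit 2532) 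
(N (N (N L (nat_lit 16278241) (nat_lit 2533) L) (nat_lit 16285946) (nat_lit 2534) L) (nat_lit 16290917) (nat_lit 2535) (N L (nat_lit 16296388) (nat_lit 2536) L))))) (nat_lit 16303641) (nat_lit 2537) (N (N (N 
(N (N (N L (nat_lit 16306822) (nat_lit 2538) L) (nat_lit 16319023) (nat_lit 2539) L) (nat_lit 16324272) (nat_lit 2540) (N L (nat_lit 16329489) (nat_lit 2541) L)) (nat_lit 16336076) (nat_lit 2542) 
(N (N (N L (nat_lit 16339027) (nat_lit 2543) L) (nat_lit 16364104) (nat_lit 2544) L) (nat_lit 16369930) (nat_lit 2545) (N L (nat_lit 16375860) (nat_lit 2546) L))) (nat_lit 16385925) (nat_lit 2547) (N 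
(N (N (N L (nat_lit 16388890) (nat_lit 2548) L) (nat_lit 16398884) (nat_lit 2549) L) (nat_lit 16400742) (nat_lit 2550) (N L (nat_lit 16410712) (nat_lit 2551) L)) (nat_lit 16419395) (nat_lit 2552) 
(N (N (N L (nat_lit 16436384) (nat_lit 2553) L) (nat_lit 16445697) (nat_lit 2554) L) (nat_lit 16451734) (nat_lit 2555) (N L (nat_lit 16456713) (nat_lit 2556) L)))) (nat_lit 16458152) (nat_lit 2557) (N (N 
(N (N (N L (nat_lit 16483664) (nat_lit 2558) L) (nat_lit 16518353) (nat_lit 2559) L) (nat_lit 16521294) (nat_lit 2560) (N L (nat_lit 16527728) (nat_lit 2561) L)) (nat_lit 16534066) (nat_lit 2562) 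
(N (N (N L (nat_lit 16540428) (nat_lit 2563) L) (nat_lit 16548119) (nat_lit 2564) L) (nat_lit 16553352) (nat_lit 2565) (N L (nat_lit 16558121) (nat_lit 2566) L))) (nat_lit 16581570) (nat_lit 2567) (N 
(N (N (N L (nat_lit 16598305) (nat_lit 2568) L) (nat_lit 16611456) (nat_lit 2569) L) (nat_lit 16616964) (nat_lit 2570) (N L (nat_lit 16647784) (nat_lit 2571) L)) (nat_lit 16662667) (nat_lit 2572) 
(N (N (N L (nat_lit 16667668) (nat_lit 2573) L) (nat_lit 16687760) (nat_lit 2574) L) (nat_lit 16719941) (nat_lit 2575) (N L (nat_lit 16748578) (nat_lit 2576) L)))))))))))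

end CA.M24
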