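import Cfsg.Agent.M24.Fisch1
import Cfsg.Agent.M24.O6

/-! The centralizer of a permutation of order three with six fixed points: the action on the glue. -/

set_option autoImplicit false
set_option maxRecDepth 100000

namespace CA.M24.Fisch

open Cfsg Subgroup Equiv CA.Fi CA.M24.O6 Cfsg.Agent.Orth

noncomputable section

local notation "Λ" => leechLattice

attribute [local instance] O6.normal_Z

abbrev HH : Subgroup Co0 := centralizer {pC (perm r3A)}

def ca (j : ℕ) : ℕ := pick (nat_lit 444831808) (nat_lit 5) (nat_lit 31) j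

def sF (f : ℕ → ℤ) (i : ℕ) : ℤ := Int.add (f i) (Int.add (f (dig r3A i)) (f (dig r3A (dig r3A i))))

/-- the glue map -/
def gam (v : Vec) : V6 := fun j => (sF (fun i => v (pt i)) (ca j) : ZMod 3)

def NN (v : Vec) : Vec := nV (pC (perm r3A)⁻¹) v 3

theorem NN_apply {v : Vec} (hv : v ∈ Λ) (p : Pt) : NN v p = sF (fun i => v (pt i)) (idx p) := by
  have := nV_vecF r3A_in.perm_mem (f := fun i => v (pt i)) ((vecF_idx v).symm ▸ hv) 3
  rw [vecF_idx, r3A_in.code_perm] at this
  rw [NN, this]
  exact congrArg (Int.add _) (congrArg (Int.add _) (Int.add_zero _))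

theorem nV_comm {h y : Co0} (c : Commute h y) {v : Vec} (hv : v ∈ Λ) (n : ℕ) :
    act h (nV y v n) = nV y (act h v) n := by
  induction n with
  | zero => exact act_zero h
  | succ n ih => rw [nV, nV, act_add _ hv (act_mem _ (nV_mem y hv n)), ← act_mul, c.eq, act_mul, ih]

theorem NN_act (h : HH) {v : Vec} (hv : v ∈ Λ) : NN (act h v) = act h (NN v) :=
  (nV_comm (pC_inv r3A_in.perm_mem ▸ (mem_cent_iff.1 h.2).inv_right) hv 3).symm

theorem ca_lt : ∀ j : Fin 6, ca j < 24 := by decide +kernel

theorem gam_eq {v : Vec} (hv : v ∈ Λ) (j : Fin 6) : gam v j = (NN v (pt (ca j)) : ZMod 3) := by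
  rw [NN_apply hv, idx_pt (ca_lt j)]
  rfl

theorem gam_add (v w : Vec) : gam (v + w) = gam v + gam w := by
  funext j
  show ((_ + _ + (_ + _ + (_ + _)) : ℤ) : ZMod 3) = ((_ + (_ + _) : ℤ) : ZMod 3) + ((_ + (_ + _) : ℤ) : ZMod 3)
  push_cast
  ring

theorem dvd_of_gam {v : Vec} (hv : v ∈ Λ) (h : gam v = 0) (p : Pt) : 3 ∣ NN v p := by
  have key : ∀ i < 24, dig r3A i = i ∨ ∃ j : Fin 6, dig r3A (dig r3A (dig r3A (ca j))) = ca j ∧
      (i = ca j ∨ i = dig r3A (ca j) ∨ i = dig r3A (dig r3A (ca j))) := by decide +kernel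
  have ea : ∀ a b : ℤ, Int.add a b = a + b := fun _ _ => rfl
  rw [NN_apply hv]
  rcases key _ (idx_lt p) with e | ⟨j, e, e'⟩
  · rw [sF, e, e]
    exact ⟨v (pt (idx p)), by rw [ea, ea]; ring⟩
  · have h1 : 3 ∣ sF (fun i => v (pt i)) (ca j) := (ZMod.intCast_zmod_eq_zero_iff_dvd _ 3).1 (congrFun h j)
    rcases e' with e' | e' | e' <;> rw [e']
    · exact h1
    all_goals
      rw [sF, ea, ea] at h1
      rw [sF, e, ea, ea]
      convert h1 using 1
      ring

theorem gam_act_zero (h : HH) {v : Vec} (hv : v ∈ Λ) (e : gam v = 0) : gam (act h v) = 0 := by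
  choose w hw using dvd_of_gam hv e
  have h1 : NN v = (3 : ℤ) • w := funext hw
  have h2 : w ∈ Λ := by
    have := sub_mem (zsmul_mem (nV_mem (pC (perm r3A)⁻¹) hv 3) 3) (eight_mul_mem w)
    refine (show _ = w from funext fun i => ?_) ▸ this
    show 3 * NN v i - 8 * w i = w i
    rw [hw]
    ring
  funext j
  rw [gam_eq (act_mem _ hv), NN_act h hv, h1, act_zsmul _ h2]
  exact (ZMod.intCast_zmod_eq_zero_iff_dvd _ 3).2 ⟨_, rfl⟩

theorem sum_key (f : ℕ → ℤ) : ∑ i ∈ Finset.range 24, f i * sF f i =
    ∑ j : Fin 6, sF f (ca j) * sF f (ca j) + 3 * (f 4 * f 4 + f 10 * f 10 + f 14 * f 14 + f 17 * f 17 + f 18 * f 18 + f 21 * f 21) := by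
  have e0 : dig r3A 0 = 1 := by decide +kernel
  have e1 : dig r3A 1 = 23 := by decide +kernel
  have e2 : dig r3A 2 = 3 := by decide +kernel
  have e3 : dig r3A 3 = 5 := by decide +kernel
  have e4 : dig r3A 4 = 4 := by decide +kernel
  have e5 : dig r3A 5 = 2 := by decide +kernel
  have e6 : dig r3A 6 = 12 := by decide +kernel
  have e7 : dig r3A 7 = 22 := by decide +kernel
  have e8 : dig r3A 8 = 16 := by decide +kernel
  have e9 : dig r3A 9 = 6 := by decide +kernel
  have e10 : dig r3A 10 = 10 := by decide +kernel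
  have e11 : dig r3A 11 = 7 := by decide +kernel
  have e12 : dig r3A 12 = 9 := by decide +kernel
  have e13 : dig r3A 13 = 19 := by decide +kernel
  have e14 : dig r3A 14 = 14 := by decide +kernel
  have e15 : dig r3A 15 = 13 := by decide +kernel
  have e16 : dig r3A 16 = 20 := by decide +kernel
  have e17 : dig r3A 17 = 17 := by decide +kernel
  have e18 : dig r3A 18 = 18 := by decide +kernel
  have e19 : dig r3A 19 = 15 := by decide +kernel
  have e20 : dig r3A 20 = 8 := by decide +kernel
  have e21 : dig r3A 21 = 21 := by decide +kernel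
  have e22 : dig r3A 22 = 11 := by decide +kernel
  have e23 : dig r3A 23 = 0 := by decide +kernel
  have c0 : ca 0 = 0 := by decide +kernel
  have c1 : ca 1 = 2 := by decide +kernel
  have c2 : ca 2 = 6 := by decide +kernel
  have c3 : ca 3 = 7 := by decide +kernel
  have c4 : ca 4 = 8 := by decide +kernel
  have c5 : ca 5 = 13 := by decide +kernel
  have e : ∀ a b : ℤ, Int.add a b = a + b := fun _ _ => rfl
  rw [Fin.sum_univ_eq_sum_range (fun j => sF f (ca j) * sF f (ca j))]
  simp only [Finset.sum_range_succ, Finset.sum_range_zero, sF, e, c0, c1, c2, c3, c4, c5, e0, e1, e2, e3, e4, e5, e6, e7, e8, e9, e10, e11, e12, e13, e14, e15, e16, e17, e18, e19, e20, e21, e22, e23]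
  ring

theorem Q_gam {v : Vec} (hv : v ∈ Λ) : Q6 (gam v) = (dotInt v (NN v) : ZMod 3) := by
  have h1 : dotInt v (NN v) = ∑ p : Pt, (fun i => v (pt i) * sF (fun i => v (pt i)) i) (idx p) :=
    Finset.sum_congr rfl fun p _ => by rw [NN_apply hv]; exact congrArg (fun q => v q * _) (pt_idx p).symm
  have h3 : ((3 : ℤ) : ZMod 3) = 0 := rfl
  rw [h1.trans (sum_idx fun i => v (pt i) * sF (fun i => v (pt i)) i), sum_key, Q6_apply, Int.cast_add, Int.cast_mul, h3, zero_mul, add_zero, Int.cast_sum]
  exact Finset.sum_congr rfl fun j _ => (Int.cast_mul _ _).symm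

def Gam : Λ →+ V6 := AddMonoidHom.mk' (fun v => gam v) fun v w => gam_add v w

theorem gam_neg (v : Vec) : gam (-v) = -gam v :=
  eq_neg_of_add_eq_zero_left (by rw [← gam_add, neg_add_cancel]; rfl)

theorem gam_e8 : ∀ j : Fin 6, gam (-e8 (pt (ca j))) = fun i => if j = i then 1 else 0 := by decide +kernel

theorem Gam_surj : Function.Surjective Gam := fun u => by
  refine ⟨∑ j : Fin 6, (u j).val • ⟨-e8 (pt (ca j)), neg_mem (e8_mem _)⟩, ?_⟩
  rw [map_sum]
  refine Eq.trans (Finset.sum_congr rfl fun j _ => ?_) (pi_eq_sum_univ u).symm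
  rw [map_nsmul, ← Nat.cast_smul_eq_nsmul (ZMod 3), ZMod.natCast_zmod_val]
  exact congrArg _ (gam_e8 j)

theorem gam_surj (u : V6) : ∃ v ∈ Λ, gam v = u := by
  obtain ⟨v, e⟩ := Gam_surj u
  exact ⟨v, v.2, e⟩

theorem exists_lin (h : HH) : ∃ g : V6 →ₗ[ZMod 3] V6, ∀ v ∈ Λ, gam (act h v) = g (gam v) := by
  let A : Λ →+ V6 := AddMonoidHom.mk' (fun v => gam (act h v)) fun v w => by
    rw [AddSubgroup.coe_add, act_add _ v.2 w.2, gam_add]
  exact ⟨(Gam.liftOfRightInverse _ (Function.rightInverse_surjInv Gam_surj)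
    ⟨A, fun v e => gam_act_zero h v.2 e⟩).toZModLinearMap 3, fun v hv =>
      (Gam.liftOfRightInverse_comp_apply _ (Function.rightInverse_surjInv Gam_surj)
        ⟨A, fun v e => gam_act_zero h v.2 e⟩ ⟨v, hv⟩).symm⟩

theorem exists_tau : ∃ τ : HH →* OG Q6, ∀ h g, τ h = g ↔ ∀ v ∈ Λ, gam (act h v) = g.1 (gam v) := by
  refine exists_hom_of_rel (fun (h : HH) (g : OG Q6) => ∀ v ∈ Λ, gam (act h v) = g.1 (gam v))
    (fun d y d' y' e e' v hv => ?_) (fun d y e v hv => ?_) (fun h => ?_) fun y e => OG.ext fun u => ?_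
  · rw [coe_mul, act_mul, e _ (act_mem _ hv), e' v hv, OG.mul_apply]
  · have := e _ (act_mem (d⁻¹ : HH) hv)
    rw [coe_inv, act_act_inv] at this
    rw [this, OG.inv_apply_self]
    rfl
  · obtain ⟨g, e⟩ := exists_lin h
    obtain ⟨g', e'⟩ := exists_lin h⁻¹
    refine ⟨mkOG g g' (fun u => ?_) (fun u => ?_) fun u => ?_, e⟩ <;> obtain ⟨v, hv, rfl⟩ := gam_surj u
    · rw [← e' v hv, ← e _ (act_mem _ hv), coe_inv, act_act_inv]
    · rw [← e v hv, ← e' _ (act_mem _ hv), coe_inv, act_inv_act]
    · rw [← e v hv, Q_gam hv, Q_gam (act_mem _ hv), NN_act h hv, dot_act _ hv (show NN v ∈ Λ from nV_mem _ hv 3)]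
  · obtain ⟨v, hv, rfl⟩ := gam_surj u
    rw [← e v hv, coe_one, act_one, OG.one_apply]

def gluChk (l : Word) (M : ℕ) : Bool :=
  band (band (wordOk l) (comChk l r3A r3A)) (allR (fun j => wordGo l (fun P => allR (fun i =>
    zeq (Int.add (sF (vecN P) (ca i)) (Int.ofNat (pick M 2 3 (6 * i + j))) % 3) 0) 6) (e8N (ca j))) 6)

theorem gluChk_spec {τ : HH →* OG Q6} (hτ : ∀ h g, τ h = g ↔ ∀ v ∈ Λ, gam (act h v) = g.1 (gam v))
    {l : Word} {M : ℕ} (h : gluChk l M = true) : ∃ h : HH, h = wordC l ∧ ∀ u, (τ h).1 u = app M u := by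
  simp only [gluChk, band_eq_true, allR_eq_true] at h
  refine ⟨⟨_, mem_cent_iff.2 (comChk_spec r3A_in.perm_mem r3A_in.perm_mem h.1.1
    (r3A_in.code_perm.symm ▸ h.1.2))⟩, rfl, fun u => ?_⟩
  generalize hk : (⟨wordC l, _⟩ : HH) = k
  have e0 : (k : Co0) = wordC l := hk ▸ rfl
  refine (LinearMap.pi_apply_eq_sum_univ (τ k).1.toLinearMap u).trans (funext fun i => ?_)
  rw [Finset.sum_apply]
  refine Finset.sum_congr rfl fun j _ => ?_
  have e1 := vN_e8N (pt (ca j))
  rw [idx_pt (ca_lt j)] at e1
  obtain ⟨P, e2, h2⟩ := wordGo_spec h.1.1 (h.2 j j.2) (e1 ▸ e8_mem _)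
  have h3 := zeq_eq_true.1 (allR_eq_true.1 h2 i i.2)
  have h4 : gam (vN P) i = (sF (vecN P) (ca i) : ZMod 3) := by
    have l1 := ca_lt i
    have l0 : ∀ k < 24, dig r3A k < 24 := by decide +kernel
    have l2 := l0 _ l1
    have l3 := l0 _ l2
    show ((Int.add (vecN P (idx (pt _))) (Int.add (vecN P (idx (pt _))) (vecN P (idx (pt _)))) : ℤ) : ZMod 3) = _
    rw [idx_pt l1, idx_pt l2, idx_pt l3]
    rfl
  have h5 := (ZMod.intCast_zmod_eq_zero_iff_dvd _ 3).2 (Int.dvd_of_emod_eq_zero h3)
  rw [show ∀ a b : ℤ, Int.add a b = a + b from fun _ _ => rfl, Int.cast_add, ← h4] at h5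
  rw [← gam_e8 j, Pi.smul_apply, smul_eq_mul, mul_comm]
  refine congrArg (· * u j) ?_
  show (τ k).1 _ i = _
  rw [← (hτ k _).1 rfl _ (neg_mem (e8_mem _)), act_neg _ (e8_mem _), e0, ← e1, e2, gam_neg, Pi.neg_apply]
  exact (eq_neg_of_add_eq_zero_right h5).symm

def GG : List (Word × ℕ) := [([(nat_lit 553244093939601509243196961596657199, nat_lit 4845570, true), (nat_lit 16496666973571792825301505463716951, nat_lit 1687640, false)], nat_lit 691867767930301196288),
  ([(nat_lit 93894941168901780370878854167140515, nat_lit 0, false)], nat_lit 1170953512482308100),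
  ([(nat_lit 228630988168394197840140235935691874, nat_lit 0, false)], nat_lit 1157442697498198020),
  ([(nat_lit 984818244535754528103549039458486304, nat_lit 832080, false)], nat_lit 2361255303427443933185)]

def RE : List (ℕ × ℕ × ℕ) := [(nat_lit 691867767930301196288, nat_lit 1, nat_lit 8), (nat_lit 1170953512482308100, nat_lit 1, nat_lit 1024), (nat_lit 691867767930301196288, nat_lit 8, nat_lit 1440), (nat_lit 1170953512482308100, nat_lit 8, nat_lit 2), (nat_lit 1170953512482308100, nat_lit 1024, nat_lit 16), (nat_lit 1157442697498198020, nat_lit 1024, nat_lit 4), (nat_lit 2361255303427443933185, nat_lit 1024, nat_lit 2048), (nat_lit 691867767930301196288, nat_lit 1440, nat_lit 418), (nat_lit 1170953512482308100, nat_lit 1440, nat_lit 600), (nat_lit 1157442697498198020, nat_lit 1440, nat_lit 612), (nat_lit 2361255303427443933185, nat_lit 1440, nat_lit 2448), (nat_lit 691867767930301196288, nat_lit 16, nat_lit 1360), (nat_lit 1157442697498198020, nat_lit 16, nat_lit 256), (nat_lit 2361255303427443933185,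 nat_lit 16, nat_lit 32), (nat_lit 691867767930301196288, nat_lit 4, nat_lit 2640), (nat_lit 691867767930301196288, nat_lit 418, nat_lit 420), (nat_lit 1170953512482308100, nat_lit 418, nat_lit 2632), (nat_lit 1157442697498198020, nat_lit 418, nat_lit 2656), (nat_lit 2361255303427443933185, nat_lit 418, nat_lit 402), (nat_lit 1170953512482308100, nat_lit 600, nat_lit 390), (nat_lit 2361255303427443933185, nat_lit 600, nat_lit 616), (nat_lit 691867767930301196288, nat_lit 612, nat_lit 512), (nat_lit 1170953512482308100, nat_lit 612, nat_lit 393), (nat_lit 1157442697498198020, nat_lit 612, nat_lit 657), (nat_lit 2361255303427443933185, nat_lit 612, nat_lit 596), (nat_lit 691867767930301196288, nat_lit 2448, nat_lit 2129), (nat_lit 1157442697498198020, nat_lit 2448, nat_lit 360), (nat_lit 691867767930301196288, nat_lit 1360, nat_lit 1314), (nat_lit 1170953512482308100, nat_lit 1360, nat_lit 340), (nat_lit 2361255303427443933185, nat_lit 1360, nat_lit 2400), (nat_lit 1170953512482308100, nat_lit 256,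 nat_lit 64), (nat_lit 691867767930301196288, nat_lit 32, nat_lit 2720), (nat_lit 691867767930301196288, nat_lit 2640, nat_lit 593), (nat_lit 1157442697498198020, nat_lit 2640, nat_lit 408), (nat_lit 2361255303427443933185, nat_lit 2640, nat_lit 1632), (nat_lit 1170953512482308100, nat_lit 420, nat_lit 585), (nat_lit 1157442697498198020, nat_lit 420, nat_lit 609), (nat_lit 2361255303427443933185, nat_lit 420, nat_lit 404), (nat_lit 691867767930301196288, nat_lit 2632, nat_lit 673), (nat_lit 1157442697498198020, nat_lit 2632, nat_lit 154), (nat_lit 2361255303427443933185, nat_lit 2632, nat_lit 1608), (nat_lit 691867767930301196288, nat_lit 2656, nat_lit 1185), (nat_lit 1170953512482308100, nat_lit 2656, nat_lit 424), (nat_lit 1157442697498198020, nat_lit 2656, nat_lit 664), (nat_lit 2361255303427443933185, nat_lit 2656, nat_lit 1616), (nat_lit 691867767930301196288, nat_lit 402, nat_lit 2132), (nat_lit 1170953512482308100, nat_lit 402, nat_lit 2628), (nat_lit 1170953512482308100, nat_lit 390, nat_lit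 2625), (nat_lit 1157442697498198020, nat_lit 390, nat_lit 2145), (nat_lit 691867767930301196288, nat_lit 616, nat_lit 2384), (nat_lit 1170953512482308100, nat_lit 616, nat_lit 394), (nat_lit 1157442697498198020, nat_lit 616, nat_lit 658), (nat_lit 691867767930301196288, nat_lit 512, nat_lit 1680), (nat_lit 1170953512482308100, nat_lit 512, nat_lit 128), (nat_lit 691867767930301196288, nat_lit 393, nat_lit 2216), (nat_lit 1170953512482308100, nat_lit 393, nat_lit 1602), (nat_lit 1157442697498198020, nat_lit 393, nat_lit 1122), (nat_lit 691867767930301196288, nat_lit 657, nat_lit 1416), (nat_lit 1170953512482308100, nat_lit 657, nat_lit 1668), (nat_lit 691867767930301196288, nat_lit 596, nat_lit 2464), (nat_lit 1170953512482308100, nat_lit 596, nat_lit 389), (nat_lit 1157442697498198020, nat_lit 596, nat_lit 401), (nat_lit 691867767930301196288, nat_lit 2129, nat_lit 2185), (nat_lit 1170953512482308100, nat_lit 2129, nat_lit 1316), (nat_lit 1157442697498198020, nat_lit 2129, nat_lit 1304), (nat_lit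 2361255303427443933185, nat_lit 2129, nat_lit 1121), (nat_lit 1170953512482308100, nat_lit 360, nat_lit 330), (nat_lit 1157442697498198020, nat_lit 360, nat_lit 594), (nat_lit 2361255303427443933185, nat_lit 360, nat_lit 344), (nat_lit 691867767930301196288, nat_lit 1314, nat_lit 1046), (nat_lit 1170953512482308100, nat_lit 1314, nat_lit 2136), (nat_lit 2361255303427443933185, nat_lit 1314, nat_lit 2322), (nat_lit 1170953512482308100, nat_lit 340, nat_lit 325), (nat_lit 1157442697498198020, nat_lit 340, nat_lit 337), (nat_lit 2361255303427443933185, nat_lit 340, nat_lit 356), (nat_lit 691867767930301196288, nat_lit 2720, nat_lit 2577), (nat_lit 1170953512482308100, nat_lit 2720, nat_lit 680), (nat_lit 1170953512482308100, nat_lit 593, nat_lit 1412), (nat_lit 1157442697498198020, nat_lit 593, nat_lit 1424), (nat_lit 1170953512482308100, nat_lit 408, nat_lit 582), (nat_lit 1157442697498198020, nat_lit 408, nat_lit 354), (nat_lit 691867767930301196288, nat_lit 1632, nat_lit 1186), (nat_lit 1157442697498198020,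 nat_lit 1632, nat_lit 660), (nat_lit 1170953512482308100, nat_lit 585, nat_lit 1410), (nat_lit 1157442697498198020, nat_lit 585, nat_lit 1170), (nat_lit 691867767930301196288, nat_lit 609, nat_lit 1192), (nat_lit 691867767930301196288, nat_lit 404, nat_lit 1696), (nat_lit 1170953512482308100, nat_lit 404, nat_lit 581), (nat_lit 1157442697498198020, nat_lit 404, nat_lit 353), (nat_lit 691867767930301196288, nat_lit 673, nat_lit 2584), (nat_lit 1170953512482308100, nat_lit 673, nat_lit 1672), (nat_lit 691867767930301196288, nat_lit 154, nat_lit 1172), (nat_lit 1170953512482308100, nat_lit 154, nat_lit 2566), (nat_lit 1157442697498198020, nat_lit 154, nat_lit 2338), (nat_lit 2361255303427443933185, nat_lit 154, nat_lit 170), (nat_lit 691867767930301196288, nat_lit 1608, nat_lit 674), (nat_lit 1157442697498198020, nat_lit 1608, nat_lit 150), (nat_lit 691867767930301196288, nat_lit 1185, nat_lit 1098), (nat_lit 1170953512482308100, nat_lit 1185, nat_lit 1560), (nat_lit 1157442697498198020, nat_lit 1185,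 nat_lit 1572), (nat_lit 2361255303427443933185, nat_lit 1185, nat_lit 2193), (nat_lit 1170953512482308100, nat_lit 424, nat_lit 586), (nat_lit 1157442697498198020, nat_lit 424, nat_lit 610), (nat_lit 1170953512482308100, nat_lit 664, nat_lit 646), (nat_lit 691867767930301196288, nat_lit 2132, nat_lit 1553), (nat_lit 1170953512482308100, nat_lit 2132, nat_lit 293), (nat_lit 1157442697498198020, nat_lit 2132, nat_lit 281), (nat_lit 2361255303427443933185, nat_lit 2132, nat_lit 1124), (nat_lit 691867767930301196288, nat_lit 2628, nat_lit 1105), (nat_lit 1170953512482308100, nat_lit 2628, nat_lit 417), (nat_lit 1157442697498198020, nat_lit 2628, nat_lit 153), (nat_lit 2361255303427443933185, nat_lit 2628, nat_lit 1604), (nat_lit 691867767930301196288, nat_lit 2625, nat_lit 2313), (nat_lit 1157442697498198020, nat_lit 2625, nat_lit 1176), (nat_lit 2361255303427443933185, nat_lit 2625, nat_lit 1601), (nat_lit 1170953512482308100, nat_lit 2145, nat_lit 1320), (nat_lit 691867767930301196288, nat_lit 2384,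 nat_lit 1313), (nat_lit 2361255303427443933185, nat_lit 2384, nat_lit 1376), (nat_lit 691867767930301196288, nat_lit 394, nat_lit 2212), (nat_lit 1170953512482308100, nat_lit 394, nat_lit 2626), (nat_lit 1157442697498198020, nat_lit 394, nat_lit 2146), (nat_lit 1170953512482308100, nat_lit 658, nat_lit 2692), (nat_lit 691867767930301196288, nat_lit 2216, nat_lit 2337), (nat_lit 1170953512482308100, nat_lit 2216, nat_lit 554), (nat_lit 691867767930301196288, nat_lit 1602, nat_lit 2310), (nat_lit 1157442697498198020, nat_lit 1602, nat_lit 2196), (nat_lit 691867767930301196288, nat_lit 1122, nat_lit 278), (nat_lit 1170953512482308100, nat_lit 1122, nat_lit 2328), (nat_lit 1157442697498198020, nat_lit 1122, nat_lit 2580), (nat_lit 2361255303427443933185, nat_lit 1122, nat_lit 2130), (nat_lit 691867767930301196288, nat_lit 1416, nat_lit 2210), (nat_lit 1157442697498198020, nat_lit 1416, nat_lit 102), (nat_lit 2361255303427443933185, nat_lit 1416, nat_lit 2440), (nat_lit 691867767930301196288, nat_lit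 1668, nat_lit 2690), (nat_lit 1157442697498198020, nat_lit 1668, nat_lit 165), (nat_lit 1170953512482308100, nat_lit 2185, nat_lit 1570), (nat_lit 1157442697498198020, nat_lit 2185, nat_lit 1066), (nat_lit 2361255303427443933185, nat_lit 2185, nat_lit 1161), (nat_lit 1170953512482308100, nat_lit 1316, nat_lit 89), (nat_lit 2361255303427443933185, nat_lit 1316, nat_lit 2324), (nat_lit 1170953512482308100, nat_lit 1304, nat_lit 86), (nat_lit 1157442697498198020, nat_lit 1304, nat_lit 326), (nat_lit 2361255303427443933185, nat_lit 1304, nat_lit 2344), (nat_lit 691867767930301196288, nat_lit 1121, nat_lit 282), (nat_lit 1157442697498198020, nat_lit 1121, nat_lit 1556), (nat_lit 691867767930301196288, nat_lit 330, nat_lit 1348), (nat_lit 1170953512482308100, nat_lit 330, nat_lit 2370), (nat_lit 1170953512482308100, nat_lit 594, nat_lit 2436), (nat_lit 691867767930301196288, nat_lit 344, nat_lit 2704), (nat_lit 1157442697498198020, nat_lit 344, nat_lit 338), (nat_lit 691867767930301196288, nat_lit 1046,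 nat_lit 166), (nat_lit 1170953512482308100, nat_lit 1046, nat_lit 2069), (nat_lit 1157442697498198020, nat_lit 1046, nat_lit 2309), (nat_lit 2361255303427443933185, nat_lit 1046, nat_lit 2086), (nat_lit 1170953512482308100, nat_lit 2136, nat_lit 294), (nat_lit 2361255303427443933185, nat_lit 2136, nat_lit 1128), (nat_lit 691867767930301196288, nat_lit 2322, nat_lit 645), (nat_lit 1170953512482308100, nat_lit 2322, nat_lit 2148), (nat_lit 1157442697498198020, nat_lit 2322, nat_lit 2376), (nat_lit 691867767930301196288, nat_lit 325, nat_lit 2600), (nat_lit 1170953512482308100, nat_lit 325, nat_lit 1345), (nat_lit 1170953512482308100, nat_lit 356, nat_lit 329), (nat_lit 691867767930301196288, nat_lit 2577, nat_lit 2089), (nat_lit 1170953512482308100, nat_lit 2577, nat_lit 1188), (nat_lit 2361255303427443933185, nat_lit 2577, nat_lit 1569), (nat_lit 1170953512482308100, nat_lit 680, nat_lit 650), (nat_lit 1157442697498198020, nat_lit 1412, nat_lit 101), (nat_lit 691867767930301196288, nat_lit 582,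 nat_lit 1108), (nat_lit 1170953512482308100, nat_lit 582, nat_lit 2433), (nat_lit 691867767930301196288, nat_lit 1186, nat_lit 1094), (nat_lit 1157442697498198020, nat_lit 1186, nat_lit 2596), (nat_lit 2361255303427443933185, nat_lit 1186, nat_lit 2194), (nat_lit 2361255303427443933185, nat_lit 660, nat_lit 676), (nat_lit 691867767930301196288, nat_lit 1410, nat_lit 1542), (nat_lit 2361255303427443933185, nat_lit 1410, nat_lit 2434), (nat_lit 691867767930301196288, nat_lit 1170, nat_lit 550), (nat_lit 1157442697498198020, nat_lit 1170, nat_lit 2340), (nat_lit 1170953512482308100, nat_lit 1192, nat_lit 538), (nat_lit 2361255303427443933185, nat_lit 1192, nat_lit 2200), (nat_lit 691867767930301196288, nat_lit 1696, nat_lit 2578), (nat_lit 691867767930301196288, nat_lit 581, nat_lit 1112), (nat_lit 1170953512482308100, nat_lit 581, nat_lit 1409), (nat_lit 1157442697498198020, nat_lit 581, nat_lit 1169), (nat_lit 1170953512482308100, nat_lit 353, nat_lit 1352), (nat_lit 2361255303427443933185, nat_lit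 2584, nat_lit 1576), (nat_lit 691867767930301196288, nat_lit 1672, nat_lit 1298), (nat_lit 2361255303427443933185, nat_lit 1672, nat_lit 2696), (nat_lit 1170953512482308100, nat_lit 1172, nat_lit 533), (nat_lit 1170953512482308100, nat_lit 2566, nat_lit 2209), (nat_lit 691867767930301196288, nat_lit 2338, nat_lit 1045), (nat_lit 1170953512482308100, nat_lit 2338, nat_lit 2152), (nat_lit 1170953512482308100, nat_lit 170, nat_lit 2570), (nat_lit 1157442697498198020, nat_lit 170, nat_lit 2594), (nat_lit 691867767930301196288, nat_lit 150, nat_lit 2372), (nat_lit 1170953512482308100, nat_lit 150, nat_lit 2565), (nat_lit 691867767930301196288, nat_lit 1098, nat_lit 2070), (nat_lit 2361255303427443933185, nat_lit 1098, nat_lit 2122), (nat_lit 691867767930301196288, nat_lit 2193, nat_lit 553), (nat_lit 1170953512482308100, nat_lit 646, nat_lit 2689), (nat_lit 691867767930301196288, nat_lit 1553, nat_lit 2090), (nat_lit 2361255303427443933185, nat_lit 1553, nat_lit 2593), (nat_lit 1170953512482308100,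 nat_lit 293, nat_lit 1097), (nat_lit 2361255303427443933185, nat_lit 293, nat_lit 277), (nat_lit 1157442697498198020, nat_lit 281, nat_lit 1346), (nat_lit 2361255303427443933185, nat_lit 281, nat_lit 297), (nat_lit 691867767930301196288, nat_lit 1105, nat_lit 2186), (nat_lit 1170953512482308100, nat_lit 1105, nat_lit 1300), (nat_lit 2361255303427443933185, nat_lit 153, nat_lit 169), (nat_lit 691867767930301196288, nat_lit 1604, nat_lit 1106), (nat_lit 1157442697498198020, nat_lit 1604, nat_lit 149), (nat_lit 691867767930301196288, nat_lit 2313, nat_lit 537), (nat_lit 2361255303427443933185, nat_lit 2313, nat_lit 1289), (nat_lit 1170953512482308100, nat_lit 1176, nat_lit 534), (nat_lit 691867767930301196288, nat_lit 1601, nat_lit 2314), (nat_lit 1170953512482308100, nat_lit 1320, nat_lit 90), (nat_lit 691867767930301196288, nat_lit 1313, nat_lit 1050), (nat_lit 2361255303427443933185, nat_lit 1313, nat_lit 2321), (nat_lit 691867767930301196288, nat_lit 2337, nat_lit 1049), (nat_lit 2361255303427443933185,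 nat_lit 2337, nat_lit 1297), (nat_lit 691867767930301196288, nat_lit 2310, nat_lit 1157), (nat_lit 1157442697498198020, nat_lit 2310, nat_lit 2121), (nat_lit 2361255303427443933185, nat_lit 2310, nat_lit 1286), (nat_lit 691867767930301196288, nat_lit 2196, nat_lit 2369), (nat_lit 1170953512482308100, nat_lit 2196, nat_lit 549), (nat_lit 1170953512482308100, nat_lit 278, nat_lit 2117), (nat_lit 691867767930301196288, nat_lit 2130, nat_lit 2181), (nat_lit 691867767930301196288, nat_lit 2210, nat_lit 1093), (nat_lit 1157442697498198020, nat_lit 2440, nat_lit 106), (nat_lit 2361255303427443933185, nat_lit 2690, nat_lit 1666), (nat_lit 1170953512482308100, nat_lit 165, nat_lit 1545), (nat_lit 1170953512482308100, nat_lit 1066, nat_lit 2074), (nat_lit 1170953512482308100, nat_lit 1161, nat_lit 1554), (nat_lit 1157442697498198020, nat_lit 1161, nat_lit 1062), (nat_lit 2361255303427443933185, nat_lit 89, nat_lit 105), (nat_lit 1170953512482308100, nat_lit 282, nat_lit 2118), (nat_lit 2361255303427443933185,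 nat_lit 282, nat_lit 298), (nat_lit 1157442697498198020, nat_lit 1348, nat_lit 85), (nat_lit 1170953512482308100, nat_lit 166, nat_lit 2569), (nat_lit 1170953512482308100, nat_lit 2069, nat_lit 1061), (nat_lit 2361255303427443933185, nat_lit 2309, nat_lit 1285), (nat_lit 1170953512482308100, nat_lit 645, nat_lit 1665), (nat_lit 1157442697498198020, nat_lit 2089, nat_lit 1546), (nat_lit 1157442697498198020, nat_lit 2596, nat_lit 649), (nat_lit 691867767930301196288, nat_lit 2434, nat_lit 1541), (nat_lit 1170953512482308100, nat_lit 538, nat_lit 2182), (nat_lit 691867767930301196288, nat_lit 2578, nat_lit 2085), (nat_lit 1170953512482308100, nat_lit 553, nat_lit 1162), (nat_lit 1170953512482308100, nat_lit 537, nat_lit 1158), (nat_lit 2361255303427443933185, nat_lit 2314, nat_lit 1290), (nat_lit 691867767930301196288, nat_lit 2121, nat_lit 2073), (nat_lit 691867767930301196288, nat_lit 2181, nat_lit 1065)]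

theorem RR_le {τ : HH →* OG Q6} (hτ : ∀ h g, τ h = g ↔ ∀ v ∈ Λ, gam (act h v) = g.1 (gam v)) :
    RR Q6 1 ≤ τ.range := by
  have h1 : allL (fun d => gluChk d.1 d.2) GG = true := by decide +kernel
  have h2 := reach_spec (Ms := GG.map (·.2)) (fun v => refl Q6 v ∈ τ.range) (fun M hM v hv => by
    obtain ⟨d, hd, rfl⟩ := List.mem_map.1 hM
    obtain ⟨h, -, e⟩ := gluChk_spec hτ (allL_eq_true.1 h1 d hd)
    rw [← e, ← refl_conj]
    exact mul_mem (mul_mem ⟨h, rfl⟩ hv) (inv_mem ⟨h, rfl⟩)) RE 2 fun a ha => by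
      obtain rfl : 1 = a := by
        rw [tb_eq_true, show 2 = 2 ^ 1 from rfl, Nat.testBit_two_pow] at ha
        exact of_decide_eq_true ha
      obtain ⟨h, -, e⟩ := gluChk_spec hτ (l := [(pone, nat_lit 10765331, false)]) (M := nat_lit 1180663682709764194306)
        (by decide +kernel)
      refine ⟨h, OG.ext fun u => ?_⟩
      have key : ∀ a b c d e f : ZMod 3, app (nat_lit 1180663682709764194306) ![a, b, c, d, e, f] = ![a, b, c, d, e, f] -
        ((-∑ j, ![a, b, c, d, e, f] j * dec3 1 j) / ∑ j, dec3 1 j * dec3 1 j) • dec3 1 := by decide +kernel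
      have : ![u 0, u 1, u 2, u 3, u 4, u 5] = u := by
        funext i
        fin_cases i <;> rfl
      rw [e, Agent.Orth.refl_apply, polar_Q6, Q6_apply]
      exact this ▸ key _ _ _ _ _ _
  refine (closure_le _).2 ?_
  rintro _ ⟨v, hv, rfl⟩
  obtain ⟨a, ha, rfl⟩ := forall_norm_one (s := reach (GG.map (·.2)) RE 2) (by
    rw [show reach (GG.map (·.2)) RE 2 = nat_lit 0x100010116000000010001011600000116011606600000000000000000000000010001011600000001000101160000011601160660000000000000000000000116011606600000011601160660000006600660000100000000000000000000000000000000000000000000000000000000000000000000000000000000000000010001011600000001000101160000011601160660000000000000000000000001000101160000000100010116000001160116066000000000000000000000011601160660000001160116066000000660066000010000000000000000000000000000000000000000000000000000000000000000000000000000000000000116011606600000011601160660000006600660000100000000000000000000011601160660000001160116066000000660066000010000000000000000000006600660000100000660066000010000000100010116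 by decide +kernel]
    decide +kernel) hv
  exact h2 a ha

theorem rho_of_inK {h : HH} (e : InK (pC (perm r3A)) h) : crd.rho h = 1 :=
  crd.rho_eq_one fun v hv e' => e.fix hv e'

theorem nine_le {τ : HH →* OG Q6} (hτ : ∀ h g, τ h = g ↔ ∀ v ∈ Λ, gam (act h v) = g.1 (gam v))
    {x : HH} (hx : x = pC (perm r3A)) (hx1 : τ x = 1) (hx3 : orderOf x = 3) : 9 ≤ Nat.card τ.ker := by
  rw [← card_eq_ker_mul_map crd.rho τ.ker]
  refine Nat.mul_le_mul (m₁ := 3) (n₁ := 3) ?_ ?_
  · exact ((Nat.card_zpowers x).trans hx3).ge.trans <| card_le_of_le (zpowers_le.2 ⟨rho_of_inK ⟨1, Or.inl (by rw [hx, pow_one])⟩, hx1⟩)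
  · obtain ⟨h, e1, e2⟩ := gluChk_spec hτ (l := [(nat_lit 355758667180340584519407424351786640, nat_lit 4845570, true), (nat_lit 9276998915499351305682893953076311, nat_lit 16265373, false), (nat_lit 103239075984793894027378211338705059, nat_lit 3216208, false)]) (M := nat_lit 1180663682709764194305)
      (by decide +kernel)
    obtain ⟨h', e3, e4⟩ := genChk_spec r3A_in.perm_mem crd bas (l := [(nat_lit 355758667180340584519407424351786640, nat_lit 4845570, true), (nat_lit 9276998915499351305682893953076311, nat_lit 16265373, false), (nat_lit 103239075984793894027378211338705059, nat_lit 3216208, false)]) (T := nat_lit 121643488013013857706781779258267861425718785393763615523)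
      (by rw [r3A_in.code_perm]; decide +kernel)
    obtain rfl : h = h' := Subtype.ext (e1.trans e3.symm)
    have key : ∀ a b c d e f : ZMod 3, app (nat_lit 1180663682709764194305) ![a, b, c, d, e, f] = ![a, b, c, d, e, f] := by
      decide +kernel
    have h1 : τ h = 1 := OG.ext fun u => by
      have : ![u 0, u 1, u 2, u 3, u 4, u 5] = u := by
        funext i
        fin_cases i <;> rfl
      rw [e2, OG.one_apply]
      exact this ▸ key _ _ _ _ _ _
    refine le_trans ?_ (card_le_of_le (zpowers_le.2 (mem_map_of_mem crd.rho (K := τ.ker) h1)))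
    rw [Nat.card_zpowers]
    by_contra hlt
    have h2 := orderOf_pos (crd.rho h)
    have h3 : crd.rho h ^ 2 = 1 := orderOf_dvd_iff_pow_eq_one.1 (by
      generalize orderOf (crd.rho h) = n at hlt h2
      interval_cases n <;> simp at hlt ⊢)
    have h4 := e4 (crd.rho h ⟨1, by norm_num⟩)
    rw [← Perm.mul_apply, ← pow_two, h3, e4] at h4
    exact absurd h4 (by decide +kernel)

theorem orb_iff (a : Fin (2 ^ 12)) : a ∈ crd.orbE (e8 none) ↔ lb LL a = 0 := by
  obtain ⟨s, -, e⟩ := bfsChk_spec bfs crd.rho ⊤ (fun T hT => by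
    obtain ⟨d, hd, rfl⟩ := List.mem_map.1 hT
    obtain ⟨h, -, e⟩ := genChk_spec r3A_in.perm_mem crd bas (hD d hd)
    exact ⟨h, mem_top _, e⟩) a
  refine ⟨fun ha => hroots_of crd (fixC_e8 r3A_in.perm_mem) (short_roots crd (fixC_e8 r3A_in.perm_mem)
    (by decide +kernel)) _ ((crd.orbE_rho s).2 ha) _ e.symm, fun h => (crd.orbE_rho s).1 ⟨1, ?_⟩⟩
  rw [map_one]
  refine Fin.ext (Eq.trans ?_ (h ▸ e).symm)
  exact (congrArg (crdV us) (vN_e8N none).symm).trans ((crdV_vecF _ _).trans (by decide +kernel))

theorem card_orb : (crd.orbE (e8 none)).ncard = 1701 := by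
  rw [← show cntR (fun a => Nat.beq (lb LL a) 0) (2 ^ 12) = 1701 by decide +kernel, ← ncard_fin]
  exact congrArg _ (Set.ext fun a => (orb_iff a).trans beq_iff.symm)

theorem fix_all {h : HH} (e : ∀ a ∈ crd.orbE (e8 none), crd.rho h a = a) {v : Vec} (hv : v ∈ Λ)
    (hx : FixC (pC (perm r3A)) v) : FixC h v := by
  have h0 : allR (fun j => force (getL [nat_lit 28, nat_lit 5, nat_lit 1, nat_lit 21, nat_lit 5, nat_lit 12, nat_lit 1, nat_lit 5, nat_lit 5, nat_lit 5, nat_lit 10, nat_lit 1] 0 j) fun a => force (Nat.xor a (Nat.shiftLeft 1 j)) fun b =>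
      band (band (band (blt' a (2 ^ 12)) (blt' b (2 ^ 12))) (band (Nat.beq (lb LL a) 0) (Nat.beq (lb LL b) 0)))
        (pkGo (cmbF ws a 12) fun P => pkGo (cmbF ws b 12) fun P' =>
          congChk (fun i => Int.add (vecN P i) (vecN P' i)) (vecN (getL ws 0 j)))) 12 = true := by decide +kernel
  have h1 : ∀ a < 2 ^ 12, lb LL a = 0 → FixC h (cmbV ws 12 a) := fun a ha e' => by
    have := crd.cong_rho h ⟨a, ha⟩
    rw [e ⟨a, ha⟩ ((orb_iff ⟨a, ha⟩).2 e')] at this
    exact this
  have h2 : ∀ v w, w ∈ Λ → Cong v w → FixC h w → FixC h v := fun v w hw e1 e2 =>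
    ((e1.act hw h).trans e2).trans e1.symm
  have h3 : ∀ v ∈ Λ, ∀ w ∈ Λ, FixC h v → FixC h w → FixC h (v + w) := fun v hv w hw e1 e2 => by
    unfold FixC
    rw [act_add _ hv hw]
    exact Cong.add e1 e2
  obtain ⟨hw, -, -⟩ := basChk_spec bas
  refine h2 _ _ (crd.mem _) (crd.cong v hv hx) (cmbV_ind (fun v => v ∈ Λ ∧ FixC h v)
    ⟨zero_mem _, by rw [FixC, act_zero]; exact Cong.refl _⟩
    (fun v w a b => ⟨add_mem a.1 b.1, h3 _ a.1 _ b.1 a.2 b.2⟩) (fun j hj => ⟨hw j hj, ?_⟩) _).2
  have h4 := allR_eq_true.1 h0 j hj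
  simp only [force_eq, band_eq_true, blt'_eq_true, beq_iff] at h4
  obtain ⟨P, e1, h5⟩ := pkGo_spec h4.2
  obtain ⟨P', e2, h6⟩ := pkGo_spec h5
  have h7 : Cong (vN P + vN P') (vN (getL ws 0 j)) := cong_of_congChk h6
  rw [e1, e2] at h7
  exact h2 _ _ (add_mem (crd.mem _) (crd.mem _)) h7.symm
    (h3 _ (crd.mem _) _ (crd.mem _) (h1 _ h4.1.1.1 h4.1.2.1) (h1 _ h4.1.1.2 h4.1.2.2))

theorem faith {h : Co0} (hh : h ∈ HH) (e : ∀ v ∈ Λ, FixC (pC (perm r3A)) v → FixC h v) :
    InK (pC (perm r3A)) h := by
  have hA : ∀ i ∈ unmask 2507792, perm r3A i = i := fun i hi => by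
    have : ∀ p : Pt, p ∈ unmask 2507792 → dig r3A (idx p) = idx p := by decide +kernel
    rw [← pt_idx i, apply_pt _ (idx_lt i), r3A_in.code_perm, this i hi]
  have h1 := pm_on (g := h) (unmask 2507792) (by decide +kernel)
    (fun i hi j hj hij => pm_of_cong (vp_mem i j) (by rw [sqNorm_vp hij]; norm_num) (e _ (vp_mem i j) (by
      rw [FixC, act_pC r3A_in.perm_mem (vp_mem i j), prm_vp, hA i hi, hA j hj]
      exact Cong.refl _)))
    (fun i hi j hj hij => pm_of_cong (vm_mem i j) (by rw [sqNorm_vm hij]; norm_num) (e _ (vm_mem i j) (by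
      rw [FixC, act_pC r3A_in.perm_mem (vm_mem i j), prm_vm, hA i hi, hA j hj]
      exact Cong.refl _)))
  obtain ⟨c, hc, e1, σ, hσ, rfl⟩ := exists_of_cent_mon r3A_in.perm_mem hh
    (mem_Mon.2 (e _ (e8_mem _) (fixC_e8 r3A_in.perm_mem)))
  simp only [act_mono_e8 hσ.1 hc] at h1
  have h2 : ∀ i ∈ unmask 2507792, σ i = i := fun i hi => by
    rcases sgn_e8 c (σ i) with e2 | e2 <;> rcases h1 with h1 | h1 <;> have h3 := e2.symm.trans (h1 i hi)
    exacts [e8_inj h3, absurd h3 (e8_ne_neg _ _), absurd h3.symm (e8_ne_neg _ _), e8_inj (neg_inj.1 h3)]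
  have h3 : c = ∅ ∨ c = Finset.univ := by
    obtain ⟨j, hj, rfl⟩ := fcChk_spec fc hc e1
    have key : ∀ j < 64, ((∀ p ∈ unmask 2507792, p ∉ unmask (xorSel FB j 0)) → xorSel FB j 0 = 0) ∧
        ((∀ p ∈ unmask 2507792, p ∈ unmask (xorSel FB j 0)) → xorSel FB j 0 = full) := by decide +kernel
    have e8p : ∀ p, e8 p p = 8 := fun p => by rw [e8, ind_single_self, mul_one]
    rcases h1 with h1 | h1
    · rw [(key j hj).1 fun p hp hp' => ?_, unmask_zero]
      · exact Or.inl rfl
      have := congrFun (h1 p hp) p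
      rw [h2 p hp, sgn_of_mem _ hp', e8p] at this
      omega
    · rw [(key j hj).2 fun p hp => by_contra fun hp' => ?_, ← mask_univ, unmask_mask]
      · exact Or.inr rfl
      have := congrFun (h1 p hp) p
      rw [h2 p hp, sgn_of_notMem _ hp', Pi.neg_apply, e8p] at this
      omega
  have h4 : ∃ n : ℕ, σ = perm r3A ^ n := by
    obtain ⟨w, hw, e2, a1, a2, a3, a4, a5⟩ := w5_pt (a := 4) (b := 10) (c := 14) (d := 17) (e := 18)
      (by decide) (by decide)
    have key : enum5 4 10 14 17 18 (fun y => force (pmul y (w5 4 10 14 17 18)) fun s => bimp (commB s r3A)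
      (bor (Nat.beq s pone) (bor (Nat.beq s r3A) (Nat.beq s (pmul r3A r3A))))) = true := by decide +kernel
    have h5 : ∀ i j, i < 24 → j < 24 → w (pt i) = pt j → pt i ∈ unmask 2507792 → dig (code (σ * w⁻¹)) j = i := by
      intro i j hi hj e3 e4
      rw [dig_code _ hj, ← e3, Perm.mul_apply, Perm.inv_def, symm_apply_apply, h2 _ e4, idx_pt hi]
    have h6 := enum5_spec key (mul_mem hσ.1 (inv_mem hw))
      (h5 _ _ (by norm_num) (by norm_num) a1 (by decide +kernel))
      (h5 _ _ (by norm_num) (by norm_num) a2 (by decide +kernel))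
      (h5 _ _ (by norm_num) (by norm_num) a3 (by decide +kernel))
      (h5 _ _ (by norm_num) (by norm_num) a4 (by decide +kernel))
      (h5 _ _ (by norm_num) (by norm_num) a5 (by decide +kernel))
    rw [force_eq, ← e2, pmul_code, inv_mul_cancel_right, bimp_eq_true, ← r3A_in.code_perm, commB_code,
      pmul_code, ← code_one, bor_eq_true, bor_eq_true, beq_iff, beq_iff, beq_iff] at h6
    rcases h6 (mem_cent_iff.1 hσ.2) with h6 | h6 | h6
    exacts [⟨0, code_inj h6⟩, ⟨1, (code_inj h6).trans (pow_one _).symm⟩, ⟨2, (code_inj h6).trans (pow_two _).symm⟩]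
  obtain ⟨n, rfl⟩ := h4
  have h5 : pC (perm r3A ^ n) = pC (perm r3A) ^ n := map_pow pHom ⟨_, r3A_in.perm_mem⟩ n
  refine ⟨n, h3.imp ?_ ?_⟩ <;> rintro rfl
  · rw [eps_empty, one_mul, h5]
  · rw [h5, ng_comm]
    rfl

abbrev YY : Type := HH ⧸ crd.rho.ker

theorem ker_iff (h : HH) : QuotientGroup.mk' crd.rho.ker h = 1 ↔ InK (pC (perm r3A)) h :=
  (QuotientGroup.eq_one_iff h).trans ⟨fun e => faith h.2 fun v hv e' => fix_all (fun a _ => by
    rw [show crd.rho h = 1 from e]; rfl) hv e', rho_of_inK⟩

theorem main : ∃ f : HH →* YY, Function.Surjective f ∧ (∀ h, f h = 1 ↔ InK (pC (perm r3A)) h) ∧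
    (∀ h ∈ HH, (∀ v ∈ Λ, FixC (pC (perm r3A)) v → FixC h v) → InK (pC (perm r3A)) h) ∧
    ∀ T : Subgroup YY, T.Normal → IsPGroup 2 T → T = ⊥ :=
  ⟨_, QuotientGroup.mk'_surjective _, ker_iff, fun _ => faith,
    crd.O2_eq_bot _ (QuotientGroup.mk'_surjective _) (fun h e => rho_of_inK ((ker_iff h).1 e))
      (fun h e => (ker_iff h).2 (faith h.2 fun _ => fix_all e)) (by rw [card_orb])⟩

theorem exists_psi : Nat.card YY = 19595520 ∧ ∃ ψ : YY →* OG Q6 ⧸ zpowers (negOne Q6),
    ψ.range = (RR Q6 1).map (QuotientGroup.mk' _) := by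
  obtain ⟨τ, hτ⟩ := exists_tau
  let x : HH := ⟨pC (perm r3A), mem_cent_iff.2 (Commute.refl _)⟩
  let n : HH := ⟨ng, mem_cent_iff.2 (ng_comm _).symm⟩
  have hx3 : orderOf x = 3 := by
    rw [Subgroup.orderOf_mk, ← order, ← Subgroup.orderOf_mk _ r3A_in.perm_mem]
    exact orderOf_injective pHom ((injective_iff_map_eq_one _).2 fun a ha =>
      Subtype.ext (eq_one_of_pC_mem_Sg a.2 ((show pC a = 1 from ha) ▸ one_mem _))) ⟨_, r3A_in.perm_mem⟩
  have hn2 : orderOf n = 2 := by rw [Subgroup.orderOf_mk, orderOf_ng]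
  have hx1 : τ x = 1 := (hτ _ _).2 fun v hv => funext fun j => by
    have e : NN v = v + act (x : Co0)⁻¹ (v + act (x : Co0)⁻¹ v) := by
      rw [NN, nV, nV, nV, nV, act_zero, add_zero, pC_inv r3A_in.perm_mem]
    have e4 : (x : Co0)⁻¹ * (x : Co0)⁻¹ = x := by
      have : x * x * x = 1 := by rw [← pow_three', ← hx3, pow_orderOf_eq_one]
      rw [← mul_inv_rev]
      exact inv_eq_of_mul_eq_one_right (congrArg Subtype.val this)
    rw [OG.one_apply, gam_eq hv, gam_eq (act_mem _ hv), NN_act x hv, e,
      act_add _ hv (act_mem _ (add_mem hv (act_mem _ hv))), act_act_inv,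
      act_add _ hv (act_mem _ hv), ← act_mul, e4, add_comm (act x v), add_assoc]
  have hn1 : τ n = negOne Q6 := (hτ _ _).2 fun v hv => by rw [negOne_apply, ← gam_neg, ← act_ng hv]
  have c1 : Commute x n := Subtype.ext (ng_comm _)
  have ho : orderOf (x * n) = 6 := by
    rw [c1.orderOf_mul_eq_mul_orderOf_of_coprime (by rw [hx3, hn2]; decide), hx3, hn2]
  have hK : ∀ h : HH, InK (pC (perm r3A)) h → ∃ k : ℕ, h = x ^ k ∨ h = x ^ k * n := fun h ⟨k, e⟩ =>
    ⟨k, e.imp (fun e => Subtype.ext e) fun e => Subtype.ext e⟩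
  have hk : crd.rho.ker = zpowers (x * n) := by
    refine le_antisymm (fun h e => ?_) (zpowers_le.2 (rho_of_inK ⟨1, Or.inr (by rw [pow_one]; rfl)⟩))
    have e1 : n ∈ zpowers (x * n) := ⟨(3 : ℕ), by
      show (x * n) ^ ((3 : ℕ) : ℤ) = n
      rw [zpow_natCast, c1.mul_pow, ← hx3, pow_orderOf_eq_one, one_mul, hx3, pow_succ, ← hn2, pow_orderOf_eq_one,
        one_mul]⟩
    have e2 : x ∈ zpowers (x * n) := by
      have := mul_mem (mem_zpowers (x * n)) (inv_mem e1)
      rwa [mul_inv_cancel_right] at this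
    obtain ⟨k, rfl | rfl⟩ := hK h ((ker_iff h).1 ((QuotientGroup.eq_one_iff h).2 e))
    exacts [pow_mem e2 k, mul_mem (pow_mem e2 k) e1]
  haveI : Finite (OG Q6) := Nat.finite_of_card_ne_zero (by rw [card_OG]; norm_num)
  have h1 := crd.card_H (fixC_e8 r3A_in.perm_mem)
  have h2 := τ.ker.card_mul_index
  have h3 := nine_le hτ (x := x) rfl hx1 hx3
  have h4 := card_le_of_le (RR_le hτ)
  have h5 := mon_le
  rw [index_ker] at h2
  rw [card_orb] at h1
  rw [card_RR] at h4
  have h6 : Nat.card τ.range ≤ 13063680 := by nlinarith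
  have h7 : τ.range = RR Q6 1 := (eq_of_le_of_card_ge (RR_le hτ) (card_RR ▸ h6)).symm
  have h8 := crd.rho.ker.card_mul_index
  rw [hk, Nat.card_zpowers, ho, ← hk] at h8
  refine ⟨?_, QuotientGroup.map _ _ τ fun h e => ?_, ?_⟩
  · have : 9 * 13063680 ≤ Nat.card HH := h2 ▸ Nat.mul_le_mul h3 h4
    have h9 : Nat.card HH ≤ 1701 * (64 * 1080) := h1 ▸ Nat.mul_le_mul_left _ h5
    show crd.rho.ker.index = _
    generalize crd.rho.ker.index = a at h8
    generalize Nat.card HH = b at h8 h9 this
    clear * - h8 h9 this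
    omega
  · obtain ⟨k, rfl | rfl⟩ := hK h ((ker_iff h).1 ((QuotientGroup.eq_one_iff h).2 e))
    · rw [mem_comap, map_pow, hx1, one_pow]
      exact one_mem _
    · rw [mem_comap, map_mul, map_pow, hx1, one_pow, one_mul, hn1]
      exact mem_zpowers _
  · rw [← h7]
    ext y
    constructor
    · rintro ⟨a, rfl⟩
      obtain ⟨a, rfl⟩ := QuotientGroup.mk_surjective a
      exact ⟨_, ⟨a, rfl⟩, rfl⟩
    · rintro ⟨_, ⟨a, rfl⟩, rfl⟩
      exact ⟨a, rfl⟩

theorem final {D : Type*} [Group D] [Finite D] {R : Subgroup D} [R.Normal] (e : D ⧸ R ≃* YY) :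
    ∃ (N M : Subgroup D) (_ : N.Normal) (_ : M.Normal), R ≤ N ∧ N ≤ M ∧ Nat.card N = 3 * Nat.card R ∧
      (∃ (K : Type) (_ : Field K) (_ : Fintype K), Fintype.card K = 9 ∧
        Nonempty (M ⧸ N.subgroupOf M ≃* PSU 4 K 3)) ∧ M.index = 2 := by
  obtain ⟨h1, ψ, h2⟩ := exists_psi
  let F := ψ.comp (e.toMonoidHom.comp (QuotientGroup.mk' R))
  have h3 : F.range = (RR Q6 1).map (QuotientGroup.mk' _) := by
    rw [MonoidHom.range_comp, MonoidHom.range_eq_top.2 (e.surjective.comp (QuotientGroup.mk'_surjective R)),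
      ← MonoidHom.range_eq_map, h2]
  let W := (_root_.commutator (OG Q6)).map (QuotientGroup.mk' (zpowers (negOne Q6)))
  haveI : W.Normal := Normal.map inferInstance _ (QuotientGroup.mk'_surjective _)
  have h4 : W ≤ F.range := h3 ▸ map_mono comm_le
  have h5 := card_map_Z (comm_le negOne_mem)
  have h6 := card_map_Z negOne_mem
  rw [card_RR, ← h3] at h5
  rw [card_comm] at h6
  haveI := fact9
  obtain ⟨e1⟩ := equiv_PSU
  have hs : Function.Surjective (F.subgroupComap W) := fun w => by
    obtain ⟨d, e⟩ := h4 w.2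
    exact ⟨⟨d, by rw [mem_comap, e]; exact w.2⟩, Subtype.ext e⟩
  have hk : F.ker.subgroupOf (W.comap F) = (F.subgroupComap W).ker := by
    ext d
    rw [mem_subgroupOf, MonoidHom.mem_ker, MonoidHom.mem_ker, Subtype.ext_iff]
    rfl
  letI : Fintype K9 := Fintype.ofEquiv _ (QuadraticAlgebra.equivProd (-1 : ZMod 3) 0).symm
  refine ⟨F.ker, W.comap F, inferInstance, inferInstance, fun r hr => ?_, fun d hd => ?_, ?_,
    ⟨K9, inferInstance, inferInstance, ?_, ⟨(QuotientGroup.quotientMulEquivOfEq hk).trans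
      ((QuotientGroup.quotientKerEquivOfSurjective _ hs).trans e1)⟩⟩, ?_⟩
  · show ψ (e (r : D ⧸ R)) = 1
    rw [(QuotientGroup.eq_one_iff r).2 hr, map_one, map_one]
  · rw [mem_comap, show F d = 1 from hd]
    exact one_mem _
  · have a1 := F.ker.card_mul_index
    have a2 := R.card_mul_index
    rw [index_ker] at a1
    rw [show R.index = 19595520 from (Nat.card_congr e.toEquiv).trans h1] at a2
    rw [show Nat.card F.range = 6531840 by omega] at a1
    omega
  · rw [Fintype.ofEquiv_card, Fintype.card_prod, ZMod.card]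
  · have a1 := (W.subgroupOf F.range).card_mul_index
    rw [Nat.card_congr (subgroupOfEquivOfLe h4).toEquiv] at a1
    rw [index_comap, relIndex]
    have : Nat.card W = 3265920 := Nat.eq_of_mul_eq_mul_left (by norm_num) h6
    rw [this] at a1
    omega

end

end CA.M24.Fisch

theorem CA.M24.realizeEqnsFisch2 : True := by
  have := @CA.M24.Fisch.gam.eq_1
  have := @CA.M24.Fisch.gam.eq_def
  have := @CA.M24.Fisch.gam.congr_simp
  have := @CA.M24.Fisch.sF.eq_1
  have := @CA.M24.Fisch.sF.eq_def
  have := @CA.M24.Fisch.sF.congr_simp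
  have := @CA.M24.Fisch.Gam.eq_1
  have := @CA.M24.Fisch.Gam.eq_def
  have := @CA.M24.Fisch.Gam.congr_simp
  have := @CA.M24.Fisch.HH.eq_1
  have := @CA.M24.Fisch.HH.eq_def
  have := @CA.M24.Fisch.HH.congr_simp
  have := @CA.M24.Fisch.ca.eq_1
  have := @CA.M24.Fisch.ca.eq_def
  have := @CA.M24.Fisch.ca.congr_simp
  have := @CA.M24.Fisch.RE.eq_1
  have := @CA.M24.Fisch.RE.eq_def
  have := @CA.M24.Fisch.RE.congr_simp
  have := @CA.M24.Fisch.NN.eq_1
  have := @CA.M24.Fisch.NN.eq_def
  have := @CA.M24.Fisch.NN.congr_simp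
  have := @CA.M24.Fisch.GG.eq_1
  have := @CA.M24.Fisch.GG.eq_def
  have := @CA.M24.Fisch.GG.congr_simp
  have := @CA.M24.Fisch.YY.eq_1
  have := @CA.M24.Fisch.YY.eq_def
  have := @CA.M24.Fisch.YY.congr_simp
  have := @CA.M24.Fisch.gluChk.eq_1
  have := @CA.M24.Fisch.gluChk.eq_def
  have := @CA.M24.Fisch.gluChk.congr_simp
  trivial
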