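import Cfsg.Agent.M24.Misc

/-! Pairs of octads. -/

set_option autoImplicit false
set_option maxRecDepth 100000

namespace CA.M24

open Cfsg Equiv
open scoped Pointwise symmDiff

noncomputable section

def labOO : ℕ := nat_lit 0x30930730930a20530720730930720430430830820620430820830830620430830730b20530630730a20720820720830830730a30730420730630920820830a20930830520820830830920420830630a30a30a20720330430520220920520820720830930b20620620730930520820530620620630820830930620a30830b20830730930530720530820820630930920620530830920a30330a20330820a30820820530730930820220630920320520a20620820220730a30630520620720530630720820830920920730930b30620420630930730420830820830720620830830920830930620720430820720320920420730820820630920430620720820720730830720620920930730830830920730920720230520920620730730630320720820620320620820820730730620620920920730520730620630520820630830a20820520620920630720620920520330b20720920620a20800020620820630830620820620630720830730a20420420620920720830720820b20530730710430630830510430a20530630a10130930930530930730510530830830710430930930720930a30a30610230830a30620630730730920720730820630830630330830630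b30a10330930930630930920910330730930920530830730a30530910330a30420730930930810230830a30730730530430a20530710330820630830730a30620820630a30630730830920730930710530530530830830630820830730820930710420930a30830830930830730720930a30830630730920930720930530810320530630820930730830930630930730620720620830930720730520820630520620530830430930b30830830230930820830930930a20830920820630910220730810530830730a30930720810530830930930530a30730730530810420830830830930330920720820730830720710230630830930830930530630930820730730930830830a30810530a20930730a20930820830830510430430630830a30630730920730720830630930930920820810330730230930830430830420630630a30330a30920430820730620620920730820830730630830930820730830830520530420810430820920720730920430830630820430630710330930a30a30630530730830920720630930830930830630830530830830920610430620430730420520830a30630730630530930530930910430a20820830330920120730830920720530620830a20820730820930110130730430830a30920630520930730630920730920730830820830730630930730230820130730430930930920730610420730630730820930920720930820730720520820430830a20920730a10420830920730730830930730730730a30630820720720630730430a30730620530a20820920930720720320520630530930230a20730a20810030930930630930120730930a20830330b30920830730320320520930420820a20720820530930920620720730720520820730920920730730730820830530820730b308305208207208307306307309206205300204200000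
def Q0 : ℕ := nat_lit 337856
def Q4 : ℕ := nat_lit 5279
def Q2 : ℕ := nat_lit 15777

theorem chkOO : orbChk setC.act octT gensO labOO [O0, Q0, Q4, Q2] = true := by decide +kernel

theorem onumOO : octT.all (fun o => force (pcnt (Nat.land O0 o)) fun n => force (onum octT labOO o) fun j =>
    band (bimp (Nat.beq n 0) (Nat.beq j 1)) (band (bimp (Nat.beq n 4) (Nat.beq j 2))
      (bimp (Nat.beq n 2) (Nat.beq j 3)))) = true := by decide +kernel

theorem Q0_spec : unmask Q0 ∈ octads ∧ (orb (St (unmask O0)) (unmask Q0)).ncard = 30 ∧
    ∀ x ∈ octads, (unmask O0 ∩ x).card = 0 → x ∈ orb (St (unmask O0)) (unmask Q0) := by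
  obtain ⟨h1, h2, h3⟩ := rootChk_spec setC octT_good chkOO gensO_in StO_le (r := Q0) (j := 1) (n := 30)
    (by decide +kernel)
  rw [← octads_eq] at h1 h3
  refine ⟨h1, h2, fun x hx h => (h3 x).2 ⟨hx, ?_⟩⟩
  have := forall_octads onumOO hx
  simp only [force_eq, band_eq_true, bimp_eq_true, beq_iff] at this
  exact this.1 (by rw [← mask_O0, ← mask_inter, pcnt_mask, h])

theorem Q4_spec : unmask Q4 ∈ octads ∧ (orb (St (unmask O0)) (unmask Q4)).ncard = 280 ∧
    ∀ x ∈ octads, (unmask O0 ∩ x).card = 4 → x ∈ orb (St (unmask O0)) (unmask Q4) := by
  obtain ⟨h1, h2, h3⟩ := rootChk_spec setC octT_good chkOO gensO_in StO_le (r := Q4) (j := 2) (n := 280)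
    (by decide +kernel)
  rw [← octads_eq] at h1 h3
  refine ⟨h1, h2, fun x hx h => (h3 x).2 ⟨hx, ?_⟩⟩
  have := forall_octads onumOO hx
  simp only [force_eq, band_eq_true, bimp_eq_true, beq_iff] at this
  exact this.2.1 (by rw [← mask_O0, ← mask_inter, pcnt_mask, h])

theorem Q2_spec : unmask Q2 ∈ octads ∧ (orb (St (unmask O0)) (unmask Q2)).ncard = 448 ∧
    ∀ x ∈ octads, (unmask O0 ∩ x).card = 2 → x ∈ orb (St (unmask O0)) (unmask Q2) := by
  obtain ⟨h1, h2, h3⟩ := rootChk_spec setC octT_good chkOO gensO_in StO_le (r := Q2) (j := 3) (n := 448)
    (by decide +kernel)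
  rw [← octads_eq] at h1 h3
  refine ⟨h1, h2, fun x hx h => (h3 x).2 ⟨hx, ?_⟩⟩
  have := forall_octads onumOO hx
  simp only [force_eq, band_eq_true, bimp_eq_true, beq_iff] at this
  exact this.2.2 (by rw [← mask_O0, ← mask_inter, pcnt_mask, h])

theorem pair_normal {q : Finset Pt} {n : ℕ}
    (hq : ∀ x ∈ octads, (unmask O0 ∩ x).card = n → x ∈ orb (St (unmask O0)) q)
    {o o' : Finset Pt} (ho : o ∈ octads) (ho' : o' ∈ octads) (h : (o ∩ o').card = n) :
    ∃ k ∈ M24, k • unmask O0 = o ∧ k • q = o' := by
  obtain ⟨k, hk, rfl⟩ := octad_transitive O0_mem ho
  obtain ⟨g, hg, e⟩ := hq (k⁻¹ • o') (smul_mem_octads (inv_mem hk) ho') (by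
    rw [← Finset.card_smul_finset k, Finset.smul_finset_inter, smul_inv_smul, h])
  refine ⟨k * g, mul_mem hk hg.1, ?_, ?_⟩
  · rw [mul_smul, show g • unmask O0 = unmask O0 from hg.2]
  · rw [mul_smul, e, smul_inv_smul]

theorem card_pair {q : Finset Pt} {n m l : ℕ}
    (hq : q ∈ octads ∧ (orb (St (unmask O0)) q).ncard = m ∧
      ∀ x ∈ octads, (unmask O0 ∩ x).card = n → x ∈ orb (St (unmask O0)) q) (hm : 0 < m)
    (e : m * l = 322560) {o o' : Finset Pt} (ho : o ∈ octads) (ho' : o' ∈ octads)
    (h : (o ∩ o').card = n) :
    Nat.card ↥(MulAction.stabilizer M24 o ⊓ MulAction.stabilizer M24 o') = l := by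
  obtain ⟨k, hk, rfl, rfl⟩ := pair_normal hq.2.2 ho ho' h
  rw [card_inf_stab_eq, St_inf, ← Prod.smul_mk, card_St_smul _ hk, ← St_inf]
  exact card_stab_of_orb (card_stab_octad O0_mem) hq.2.1 hm e

end

end CA.M24

theorem CA.M24.realizeEqnsOctPair : True := by
  have := @CA.M24.labOO.eq_1
  have := @CA.M24.labOO.eq_def
  have := @CA.M24.labOO.congr_simp
  have := @CA.M24.Q0.eq_1
  have := @CA.M24.Q0.eq_def
  have := @CA.M24.Q0.congr_simp
  have := @CA.M24.Q4.eq_1
  have := @CA.M24.Q4.eq_def
  have := @CA.M24.Q4.congr_simp
  have := @CA.M24.Q2.eq_1
  have := @CA.M24.Q2.eq_def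
  have := @CA.M24.Q2.congr_simp
  trivial
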