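import Cfsg.Agent.M24.Util

set_option autoImplicit false
set_option maxRecDepth 100000

namespace CA.M24

local notation "L" => Tr.leaf
local notation "N" => Tr.node

noncomputable def octT : Tr :=(N (N (N (N (N (N (N 
(N (N (N L (nat_lit 5279) (nat_lit 1) L) (nat_lit 10558) (nat_lit 2) L) (nat_lit 15777) (nat_lit 3) (N (N L (nat_lit 18147) (nat_lit 4) L) (nat_lit 21116) (nat_lit 5) L)) (nat_lit 31554) (nat_lit 6) 
(N (N (N L (nat_lit 36294) (nat_lit 7) L) (nat_lit 39257) (nat_lit 8) L) (nat_lit 42232) (nat_lit 9) (N (N L (nat_lit 45159) (nat_lit 10) L) (nat_lit 52005) (nat_lit 11) L))) (nat_lit 57883) (nat_lit 12) (N 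
(N (N (N L (nat_lit 63108) (nat_lit 13) L) (nat_lit 69395) (nat_lit 14) L) (nat_lit 72588) (nat_lit 15) (N (N L (nat_lit 75309) (nat_lit 16) L) (nat_lit 78514) (nat_lit 17) L)) (nat_lit 84464) (nat_lit 18) 
(N (N (N L (nat_lit 90318) (nat_lit 19) L) (nat_lit 95313) (nat_lit 20) L) (nat_lit 99029) (nat_lit 21) (N (N L (nat_lit 104010) (nat_lit 22) L) (nat_lit 115766) (nat_lit 23) L)))) (nat_lit 118953) (nat_lit 24) (N (N 
(N (N (N L (nat_lit 126216) (nat_lit 25) L) (nat_lit 133817) (nat_lit 26) L) (nat_lit 138790) (nat_lit 27) (N (N L (nat_lit 140167) (nat_lit 28) L) (nat_lit 145176) (nat_lit 29) L)) (nat_lit 150618) (nat_lit 30) 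
(N (N (N L (nat_lit 153797) (nat_lit 31) L) (nat_lit 157028) (nat_lit 32) L) (nat_lit 168928) (nat_lit 33) (N (N L (nat_lit 175681) (nat_lit 34) L) (nat_lit 180636) (nat_lit 35) L))) (nat_lit 185603) (nat_lit 36) (N 
(N (N (N L (nat_lit 190626) (nat_lit 37) L) (nat_lit 198058) (nat_lit 38) L) (nat_lit 201013) (nat_lit 39) (N (N L (nat_lit 208020) (nat_lit 40) L) (nat_lit 210955) (nat_lit 41) L)) (nat_lit 213833) (nat_lit 42) 
(N (N (N L (nat_lit 231532) (nat_lit 43) L) (nat_lit 237906) (nat_lit 44) L) (nat_lit 252432) (nat_lit 45) (N (N L (nat_lit 262637) (nat_lit 46) L) (nat_lit 267634) (nat_lit 47) L))))) (nat_lit 272595) (nat_lit 48) (N (N (N 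
(N (N (N L (nat_lit 277580) (nat_lit 49) L) (nat_lit 280334) (nat_lit 50) L) (nat_lit 283537) (nat_lit 51) (N (N L (nat_lit 290352) (nat_lit 52) L) (nat_lit 298027) (nat_lit 53) L)) (nat_lit 301236) (nat_lit 54) 
(N (N (N L (nat_lit 304405) (nat_lit 55) L) (nat_lit 307594) (nat_lit 56) L) (nat_lit 314056) (nat_lit 57) (N (N L (nat_lit 334433) (nat_lit 58) L) (nat_lit 337856) (nat_lit 59) L))) (nat_lit 346141) (nat_lit 60) (N 
(N (N (N L (nat_lit 351362) (nat_lit 61) L) (nat_lit 352547) (nat_lit 62) L) (nat_lit 361272) (nat_lit 63) (N (N L (nat_lit 371206) (nat_lit 64) L) (nat_lit 381252) (nat_lit 65) L)) (nat_lit 396116) (nat_lit 66) 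
(N (N (N L (nat_lit 402026) (nat_lit 67) L) (nat_lit 416040) (nat_lit 68) L) (nat_lit 418953) (nat_lit 69) (N (N L (nat_lit 421910) (nat_lit 70) L) (nat_lit 427666) (nat_lit 71) L)))) (nat_lit 430605) (nat_lit 72) (N (N 
(N (N (N L (nat_lit 442481) (nat_lit 73) L) (nat_lit 459847) (nat_lit 74) L) (nat_lit 463064) (nat_lit 75) (N (N L (nat_lit 475812) (nat_lit 76) L) (nat_lit 493953) (nat_lit 77) L)) (nat_lit 504864) (nat_lit 78) 
(N (N (N L (nat_lit 525274) (nat_lit 79) L) (nat_lit 530245) (nat_lit 80) L) (nat_lit 535268) (nat_lit 81) (N (N L (nat_lit 542009) (nat_lit 82) L) (nat_lit 545190) (nat_lit 83) L))) (nat_lit 551943) (nat_lit 84) (N 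
(N (N (N L (nat_lit 555160) (nat_lit 85) L) (nat_lit 560668) (nat_lit 86) L) (nat_lit 563843) (nat_lit 87) (N (N L (nat_lit 567074) (nat_lit 88) L) (nat_lit 580704) (nat_lit 89) L)) (nat_lit 582081) (nat_lit 90) 
(N (N (N L (nat_lit 593097) (nat_lit 91) L) (nat_lit 596054) (nat_lit 92) L) (nat_lit 602472) (nat_lit 93) (N L (nat_lit 608810) (nat_lit 94) L)))))) (nat_lit 615188) (nat_lit 95) (N (N (N (N 
(N (N (N L (nat_lit 622863) (nat_lit 96) L) (nat_lit 628112) (nat_lit 97) L) (nat_lit 632881) (nat_lit 98) (N (N L (nat_lit 657763) (nat_lit 99) L) (nat_lit 663645) (nat_lit 100) L)) (nat_lit 668866) (nat_lit 101) 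
(N (N (N L (nat_lit 675712) (nat_lit 102) L) (nat_lit 684577) (nat_lit 103) L) (nat_lit 689317) (nat_lit 104) (N (N L (nat_lit 692282) (nat_lit 105) L) (nat_lit 702724) (nat_lit 106) L))) (nat_lit 705094) (nat_lit 107) (N 
(N (N (N L (nat_lit 722544) (nat_lit 108) L) (nat_lit 737427) (nat_lit 109) L) (nat_lit 742412) (nat_lit 110) (N (N L (nat_lit 762504) (nat_lit 111) L) (nat_lit 786999) (nat_lit 112) L)) (nat_lit 792232) (nat_lit 113) 
(N (N (N L (nat_lit 797449) (nat_lit 114) L) (nat_lit 804052) (nat_lit 115) L) (nat_lit 806987) (nat_lit 116) (N (N L (nat_lit 832080) (nat_lit 117) L) (nat_lit 837906) (nat_lit 118) L)))) (nat_lit 843820) (nat_lit 119) (N (N 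
(N (N (N L (nat_lit 855332) (nat_lit 120) L) (nat_lit 861210) (nat_lit 121) L) (nat_lit 864389) (nat_lit 122) (N (N L (nat_lit 884962) (nat_lit 123) L) (nat_lit 902657) (nat_lit 124) L)) (nat_lit 919694) (nat_lit 125) 
(N (N (N L (nat_lit 924689) (nat_lit 126) L) (nat_lit 926128) (nat_lit 127) L) (nat_lit 951624) (nat_lit 128) (N (N L (nat_lit 987906) (nat_lit 129) L) (nat_lit 1009728) (nat_lit 130) L))) (nat_lit 1050548) (nat_lit 131) (N 
(N (N (N L (nat_lit 1053483) (nat_lit 132) L) (nat_lit 1060490) (nat_lit 133) L) (nat_lit 1063445) (nat_lit 134) (N (N L (nat_lit 1065303) (nat_lit 135) L) (nat_lit 1070536) (nat_lit 136) L)) (nat_lit 1075305) (nat_lit 137) 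
(N (N (N L (nat_lit 1084018) (nat_lit 138) L) (nat_lit 1090380) (nat_lit 139) L) (nat_lit 1100945) (nat_lit 140) (N (N L (nat_lit 1103886) (nat_lit 141) L) (nat_lit 1110320) (nat_lit 142) L))))) (nat_lit 1116327) (nat_lit 143) (N (N (N 
(N (N (N L (nat_lit 1121336) (nat_lit 144) L) (nat_lit 1122713) (nat_lit 145) L) (nat_lit 1127686) (nat_lit 146) (N (N L (nat_lit 1134148) (nat_lit 147) L) (nat_lit 1148257) (nat_lit 148) L)) (nat_lit 1161408) (nat_lit 149) 
(N (N (N L (nat_lit 1164162) (nat_lit 150) L) (nat_lit 1182989) (nat_lit 151) L) (nat_lit 1186194) (nat_lit 152) (N (N L (nat_lit 1188915) (nat_lit 153) L) (nat_lit 1192108) (nat_lit 154) L))) (nat_lit 1204944) (nat_lit 155) (N 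
(N (N (N L (nat_lit 1212619) (nat_lit 156) L) (nat_lit 1217620) (nat_lit 157) L) (nat_lit 1230376) (nat_lit 158) (N (N L (nat_lit 1245726) (nat_lit 159) L) (nat_lit 1250945) (nat_lit 160) L)) (nat_lit 1256224) (nat_lit 161) 
(N (N (N L (nat_lit 1265762) (nat_lit 162) L) (nat_lit 1302533) (nat_lit 163) L) (nat_lit 1312345) (nat_lit 164) (N (N L (nat_lit 1315526) (nat_lit 165) L) (nat_lit 1327290) (nat_lit 166) L)))) (nat_lit 1332261) (nat_lit 167) (N (N 
(N (N (N L (nat_lit 1337732) (nat_lit 168) L) (nat_lit 1351424) (nat_lit 169) L) (nat_lit 1352353) (nat_lit 170) (N (N L (nat_lit 1369154) (nat_lit 171) L) (nat_lit 1378634) (nat_lit 172) L)) (nat_lit 1384564) (nat_lit 173) 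
(N (N (N L (nat_lit 1405448) (nat_lit 174) L) (nat_lit 1410188) (nat_lit 175) L) (nat_lit 1413139) (nat_lit 176) (N (N L (nat_lit 1445088) (nat_lit 177) L) (nat_lit 1454401) (nat_lit 178) L))) (nat_lit 1460739) (nat_lit 179) (N 
(N (N (N L (nat_lit 1474854) (nat_lit 180) L) (nat_lit 1484824) (nat_lit 181) L) (nat_lit 1525008) (nat_lit 182) (N (N L (nat_lit 1573998) (nat_lit 183) L) (nat_lit 1577201) (nat_lit 184) L)) (nat_lit 1584464) (nat_lit 185) 
(N (N (N L (nat_lit 1589901) (nat_lit 186) L) (nat_lit 1594898) (nat_lit 187) L) (nat_lit 1608104) (nat_lit 188) (N L (nat_lit 1613974) (nat_lit 189) L))))))) (nat_lit 1618953) (nat_lit 190) (N (N (N (N (N 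
(N (N (N L (nat_lit 1647171) (nat_lit 191) L) (nat_lit 1661185) (nat_lit 192) L) (nat_lit 1664160) (nat_lit 193) (N (N L (nat_lit 1675812) (nat_lit 194) L) (nat_lit 1687640) (nat_lit 195) L)) (nat_lit 1710664) (nat_lit 196) 
(N (N (N L (nat_lit 1722420) (nat_lit 197) L) (nat_lit 1728778) (nat_lit 198) L) (nat_lit 1737489) (nat_lit 199) (N (N L (nat_lit 1769924) (nat_lit 200) L) (nat_lit 1805314) (nat_lit 201) L))) (nat_lit 1836419) (nat_lit 202) (N 
(N (N (N L (nat_lit 1839388) (nat_lit 203) L) (nat_lit 1849378) (nat_lit 204) L) (nat_lit 1852256) (nat_lit 205) (N (N L (nat_lit 1869893) (nat_lit 206) L) (nat_lit 1903248) (nat_lit 207) L)) (nat_lit 1975812) (nat_lit 208) 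
(N (N (N L (nat_lit 2019456) (nat_lit 209) L) (nat_lit 2031657) (nat_lit 210) L) (nat_lit 2101096) (nat_lit 211) (N (N L (nat_lit 2106966) (nat_lit 212) L) (nat_lit 2110153) (nat_lit 213) L)))) (nat_lit 2115979) (nat_lit 214) (N (N 
(N (N (N L (nat_lit 2120980) (nat_lit 215) L) (nat_lit 2121909) (nat_lit 216) L) (nat_lit 2126890) (nat_lit 217) (N (N L (nat_lit 2130606) (nat_lit 218) L) (nat_lit 2135601) (nat_lit 219) L)) (nat_lit 2141072) (nat_lit 220) 
(N (N (N L (nat_lit 2147405) (nat_lit 221) L) (nat_lit 2150610) (nat_lit 222) L) (nat_lit 2162811) (nat_lit 223) (N (N L (nat_lit 2168036) (nat_lit 224) L) (nat_lit 2173253) (nat_lit 225) L))) (nat_lit 2180760) (nat_lit 226) (N 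
(N (N (N L (nat_lit 2183687) (nat_lit 227) L) (nat_lit 2201890) (nat_lit 228) L) (nat_lit 2204803) (nat_lit 229) (N (N L (nat_lit 2207772) (nat_lit 230) L) (nat_lit 2220640) (nat_lit 231) L)) (nat_lit 2229713) (nat_lit 232) 
(N (N (N L (nat_lit 2232654) (nat_lit 233) L) (nat_lit 2242672) (nat_lit 234) L) (nat_lit 2245426) (nat_lit 235) (N (N L (nat_lit 2255372) (nat_lit 236) L) (nat_lit 2263063) (nat_lit 237) L))))) (nat_lit 2268296) (nat_lit 238) (N (N (N 
(N (N (N L (nat_lit 2269481) (nat_lit 239) L) (nat_lit 2296514) (nat_lit 240) L) (nat_lit 2313249) (nat_lit 241) (N (N L (nat_lit 2322816) (nat_lit 242) L) (nat_lit 2328324) (nat_lit 243) L)) (nat_lit 2363013) (nat_lit 244) 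
(N (N (N L (nat_lit 2365978) (nat_lit 245) L) (nat_lit 2372388) (nat_lit 246) L) (nat_lit 2377830) (nat_lit 247) (N (N L (nat_lit 2384216) (nat_lit 248) L) (nat_lit 2392899) (nat_lit 249) L))) (nat_lit 2409888) (nat_lit 250) (N 
(N (N (N L (nat_lit 2422785) (nat_lit 251) L) (nat_lit 2425238) (nat_lit 252) L) (nat_lit 2430217) (nat_lit 253) (N (N L (nat_lit 2435240) (nat_lit 254) L) (nat_lit 2460752) (nat_lit 255) L)) (nat_lit 2491452) (nat_lit 256) 
(N (N (N L (nat_lit 2494627) (nat_lit 257) L) (nat_lit 2501890) (nat_lit 258) L) (nat_lit 2512448) (nat_lit 259) (N (N L (nat_lit 2531524) (nat_lit 260) L) (nat_lit 2564625) (nat_lit 261) L)))) (nat_lit 2605066) (nat_lit 262) (N (N 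
(N (N (N L (nat_lit 2624690) (nat_lit 263) L) (nat_lit 2627629) (nat_lit 264) L) (nat_lit 2631052) (nat_lit 265) (N (N L (nat_lit 2634003) (nat_lit 266) L) (nat_lit 2640465) (nat_lit 267) L)) (nat_lit 2654580) (nat_lit 268) 
(N (N (N L (nat_lit 2664522) (nat_lit 269) L) (nat_lit 2675464) (nat_lit 270) L) (nat_lit 2687905) (nat_lit 271) (N (N L (nat_lit 2702848) (nat_lit 272) L) (nat_lit 2704706) (nat_lit 273) L))) (nat_lit 2738308) (nat_lit 274) (N 
(N (N (N L (nat_lit 2754059) (nat_lit 275) L) (nat_lit 2757268) (nat_lit 276) L) (nat_lit 2769128) (nat_lit 277) (N (N L (nat_lit 2810896) (nat_lit 278) L) (nat_lit 2820376) (nat_lit 279) L)) (nat_lit 2826278) (nat_lit 280) 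
(N (N (N L (nat_lit 2854977) (nat_lit 281) L) (nat_lit 2890176) (nat_lit 282) L) (nat_lit 2892897) (nat_lit 283) (N L (nat_lit 2908802) (nat_lit 284) L)))))) (nat_lit 2916505) (nat_lit 285) (N (N (N (N 
(N (N (N L (nat_lit 2921478) (nat_lit 286) L) (nat_lit 2949708) (nat_lit 287) L) (nat_lit 2969648) (nat_lit 288) (N (N L (nat_lit 3031301) (nat_lit 289) L) (nat_lit 3050016) (nat_lit 290) L)) (nat_lit 3147996) (nat_lit 291) 
(N (N (N L (nat_lit 3152963) (nat_lit 292) L) (nat_lit 3154402) (nat_lit 293) L) (nat_lit 3168928) (nat_lit 294) (N (N L (nat_lit 3172097) (nat_lit 295) L) (nat_lit 3179802) (nat_lit 296) L))) (nat_lit 3182981) (nat_lit 297) (N 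
(N (N (N L (nat_lit 3189796) (nat_lit 298) L) (nat_lit 3216208) (nat_lit 299) L) (nat_lit 3227948) (nat_lit 300) (N (N L (nat_lit 3237906) (nat_lit 301) L) (nat_lit 3246601) (nat_lit 302) L)) (nat_lit 3277413) (nat_lit 303) 
(N (N (N L (nat_lit 3294342) (nat_lit 304) L) (nat_lit 3297305) (nat_lit 305) L) (nat_lit 3322370) (nat_lit 306) (N (N L (nat_lit 3328320) (nat_lit 307) L) (nat_lit 3351624) (nat_lit 308) L)))) (nat_lit 3375280) (nat_lit 309) (N (N 
(N (N (N L (nat_lit 3410225) (nat_lit 310) L) (nat_lit 3416079) (nat_lit 311) L) (nat_lit 3421328) (nat_lit 312) (N (N L (nat_lit 3444840) (nat_lit 313) L) (nat_lit 3457556) (nat_lit 314) L)) (nat_lit 3474978) (nat_lit 315) 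
(N (N (N L (nat_lit 3489985) (nat_lit 316) L) (nat_lit 3539848) (nat_lit 317) L) (nat_lit 3610628) (nat_lit 318) (N (N L (nat_lit 3672838) (nat_lit 319) L) (nat_lit 3678776) (nat_lit 320) L))) (nat_lit 3698756) (nat_lit 321) (N 
(N (N (N L (nat_lit 3704512) (nat_lit 322) L) (nat_lit 3719203) (nat_lit 323) L) (nat_lit 3736597) (nat_lit 324) (N (N L (nat_lit 3739786) (nat_lit 325) L) (nat_lit 3806496) (nat_lit 326) L)) (nat_lit 3811457) (nat_lit 327) 
(N (N (N L (nat_lit 3951624) (nat_lit 328) L) (nat_lit 4038912) (nat_lit 329) L) (nat_lit 4063314) (nat_lit 330) (N (N L (nat_lit 4196943) (nat_lit 331) L) (nat_lit 4202192) (nat_lit 332) L))))) (nat_lit 4203377) (nat_lit 333) (N (N (N 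
(N (N (N L (nat_lit 4213932) (nat_lit 334) L) (nat_lit 4216883) (nat_lit 335) L) (nat_lit 4220306) (nat_lit 336) (N (N L (nat_lit 4223245) (nat_lit 337) L) (nat_lit 4229001) (nat_lit 338) L)) (nat_lit 4231958) (nat_lit 339) 
(N (N (N L (nat_lit 4241960) (nat_lit 340) L) (nat_lit 4243818) (nat_lit 341) L) (nat_lit 4253780) (nat_lit 342) (N (N L (nat_lit 4261212) (nat_lit 343) L) (nat_lit 4264387) (nat_lit 344) L))) (nat_lit 4271202) (nat_lit 345) (N 
(N (N (N L (nat_lit 4282144) (nat_lit 346) L) (nat_lit 4287105) (nat_lit 347) L) (nat_lit 4294810) (nat_lit 348) (N (N L (nat_lit 4299781) (nat_lit 349) L) (nat_lit 4301220) (nat_lit 350) L)) (nat_lit 4325622) (nat_lit 351) 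
(N (N (N L (nat_lit 4330601) (nat_lit 352) L) (nat_lit 4336072) (nat_lit 353) L) (nat_lit 4343317) (nat_lit 354) (N (N L (nat_lit 4346506) (nat_lit 355) L) (nat_lit 4361520) (nat_lit 356) L)))) (nat_lit 4367374) (nat_lit 357) (N (N 
(N (N (N L (nat_lit 4370577) (nat_lit 358) L) (nat_lit 4403780) (nat_lit 359) L) (nat_lit 4409606) (nat_lit 360) (N (N L (nat_lit 4415544) (nat_lit 361) L) (nat_lit 4424227) (nat_lit 362) L)) (nat_lit 4441280) (nat_lit 363) 
(N (N (N L (nat_lit 4459426) (nat_lit 364) L) (nat_lit 4465308) (nat_lit 365) L) (nat_lit 4470275) (nat_lit 366) (N (N L (nat_lit 4476225) (nat_lit 367) L) (nat_lit 4485344) (nat_lit 368) L))) (nat_lit 4490852) (nat_lit 369) (N 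
(N (N (N L (nat_lit 4505735) (nat_lit 370) L) (nat_lit 4510744) (nat_lit 371) L) (nat_lit 4523185) (nat_lit 372) (N (N L (nat_lit 4526126) (nat_lit 373) L) (nat_lit 4536592) (nat_lit 374) L)) (nat_lit 4538962) (nat_lit 375) 
(N (N (N L (nat_lit 4563017) (nat_lit 376) L) (nat_lit 4587803) (nat_lit 377) L) (nat_lit 4593028) (nat_lit 378) (N L (nat_lit 4597797) (nat_lit 379) L)))))))) (nat_lit 4626498) (nat_lit 380) (N (N (N (N (N (N 
(N (N (N L (nat_lit 4645632) (nat_lit 381) L) (nat_lit 4656648) (nat_lit 382) L) (nat_lit 4721045) (nat_lit 383) (N (N L (nat_lit 4726026) (nat_lit 384) L) (nat_lit 4726955) (nat_lit 385) L)) (nat_lit 4731956) (nat_lit 386) 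
(N (N (N L (nat_lit 4744776) (nat_lit 387) L) (nat_lit 4752467) (nat_lit 388) L) (nat_lit 4755660) (nat_lit 389) (N (N L (nat_lit 4768432) (nat_lit 390) L) (nat_lit 4785798) (nat_lit 391) L))) (nat_lit 4788761) (nat_lit 392) (N 
(N (N (N L (nat_lit 4800613) (nat_lit 393) L) (nat_lit 4819776) (nat_lit 394) L) (nat_lit 4845570) (nat_lit 395) (N (N L (nat_lit 4850476) (nat_lit 396) L) (nat_lit 4860434) (nat_lit 397) L)) (nat_lit 4870480) (nat_lit 398) 
(N (N (N L (nat_lit 4900873) (nat_lit 399) L) (nat_lit 4921504) (nat_lit 400) L) (nat_lit 4924673) (nat_lit 401) (N (N L (nat_lit 4982904) (nat_lit 402) L) (nat_lit 4989254) (nat_lit 403) L)))) (nat_lit 5003780) (nat_lit 404) (N (N 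
(N (N (N L (nat_lit 5017889) (nat_lit 405) L) (nat_lit 5024896) (nat_lit 406) L) (nat_lit 5063048) (nat_lit 407) (N (N L (nat_lit 5112513) (nat_lit 408) L) (nat_lit 5129250) (nat_lit 409) L)) (nat_lit 5210132) (nat_lit 410) 
(N (N (N L (nat_lit 5249380) (nat_lit 411) L) (nat_lit 5252293) (nat_lit 412) L) (nat_lit 5255258) (nat_lit 413) (N (N L (nat_lit 5262104) (nat_lit 414) L) (nat_lit 5268006) (nat_lit 415) L))) (nat_lit 5275709) (nat_lit 416) (N 
(N (N (N L (nat_lit 5280930) (nat_lit 417) L) (nat_lit 5286147) (nat_lit 418) L) (nat_lit 5296705) (nat_lit 419) (N (N L (nat_lit 5309160) (nat_lit 420) L) (nat_lit 5325835) (nat_lit 421) L)) (nat_lit 5329044) (nat_lit 422) 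
(N (N (N L (nat_lit 5350928) (nat_lit 423) L) (nat_lit 5375810) (nat_lit 424) L) (nat_lit 5390753) (nat_lit 425) (N (N L (nat_lit 5405696) (nat_lit 426) L) (nat_lit 5409412) (nat_lit 427) L))))) (nat_lit 5441617) (nat_lit 428) (N (N (N 
(N (N (N L (nat_lit 5476616) (nat_lit 429) L) (nat_lit 5508118) (nat_lit 430) L) (nat_lit 5511305) (nat_lit 431) (N (N L (nat_lit 5514536) (nat_lit 432) L) (nat_lit 5538256) (nat_lit 433) L)) (nat_lit 5571333) (nat_lit 434) 
(N (N (N L (nat_lit 5621792) (nat_lit 435) L) (nat_lit 5640752) (nat_lit 436) L) (nat_lit 5652556) (nat_lit 437) (N (N L (nat_lit 5709954) (nat_lit 438) L) (nat_lit 5770785) (nat_lit 439) L))) (nat_lit 5780352) (nat_lit 440) (N 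
(N (N (N L (nat_lit 5785794) (nat_lit 441) L) (nat_lit 5817604) (nat_lit 442) L) (nat_lit 5833010) (nat_lit 443) (N (N L (nat_lit 5842956) (nat_lit 444) L) (nat_lit 5899416) (nat_lit 445) L)) (nat_lit 5902343) (nat_lit 446) 
(N (N (N L (nat_lit 5939296) (nat_lit 447) L) (nat_lit 6053905) (nat_lit 448) L) (nat_lit 6062602) (nat_lit 449) (N (N L (nat_lit 6100032) (nat_lit 450) L) (nat_lit 6292775) (nat_lit 451) L)))) (nat_lit 6295992) (nat_lit 452) (N (N 
(N (N (N L (nat_lit 6302745) (nat_lit 453) L) (nat_lit 6305926) (nat_lit 454) L) (nat_lit 6308804) (nat_lit 455) (N (N L (nat_lit 6326497) (nat_lit 456) L) (nat_lit 6337856) (nat_lit 457) L)) (nat_lit 6344194) (nat_lit 458) 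
(N (N (N L (nat_lit 6359604) (nat_lit 459) L) (nat_lit 6365962) (nat_lit 460) L) (nat_lit 6379592) (nat_lit 461) (N (N L (nat_lit 6406417) (nat_lit 462) L) (nat_lit 6429441) (nat_lit 463) L))) (nat_lit 6432416) (nat_lit 464) (N 
(N (N (N L (nat_lit 6447171) (nat_lit 465) L) (nat_lit 6455896) (nat_lit 466) L) (nat_lit 6475812) (nat_lit 467) (N (N L (nat_lit 6488205) (nat_lit 468) L) (nat_lit 6493202) (nat_lit 469) L)) (nat_lit 6554826) (nat_lit 470) 
(N (N (N L (nat_lit 6557781) (nat_lit 471) L) (nat_lit 6570537) (nat_lit 472) L) (nat_lit 6588684) (nat_lit 473) (N L (nat_lit 6594610) (nat_lit 474) L)))))) (nat_lit 6644740) (nat_lit 475) (N (N (N (N 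
(N (N (N L (nat_lit 6656640) (nat_lit 476) L) (nat_lit 6703248) (nat_lit 477) L) (nat_lit 6750560) (nat_lit 478) (N (N L (nat_lit 6820450) (nat_lit 479) L) (nat_lit 6832158) (nat_lit 480) L)) (nat_lit 6837377) (nat_lit 481) 
(N (N (N L (nat_lit 6842656) (nat_lit 482) L) (nat_lit 6857221) (nat_lit 483) L) (nat_lit 6889680) (nat_lit 484) (N (N L (nat_lit 6915112) (nat_lit 485) L) (nat_lit 6949956) (nat_lit 486) L))) (nat_lit 6979970) (nat_lit 487) (N 
(N (N (N L (nat_lit 7079696) (nat_lit 488) L) (nat_lit 7145475) (nat_lit 489) L) (nat_lit 7221256) (nat_lit 490) (N (N L (nat_lit 7340691) (nat_lit 491) L) (nat_lit 7345676) (nat_lit 492) L)) (nat_lit 7357552) (nat_lit 493) 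
(N (N (N L (nat_lit 7397512) (nat_lit 494) L) (nat_lit 7409024) (nat_lit 495) L) (nat_lit 7417889) (nat_lit 496) (N (N L (nat_lit 7438406) (nat_lit 497) L) (nat_lit 7473194) (nat_lit 498) L)))) (nat_lit 7479572) (nat_lit 499) (N (N 
(N (N (N L (nat_lit 7612992) (nat_lit 500) L) (nat_lit 7622914) (nat_lit 501) L) (nat_lit 7767041) (nat_lit 502) (N (N L (nat_lit 7864649) (nat_lit 503) L) (nat_lit 7903248) (nat_lit 504) L)) (nat_lit 8077824) (nat_lit 505) 
(N (N (N L (nat_lit 8126628) (nat_lit 506) L) (nat_lit 8391797) (nat_lit 507) L) (nat_lit 8394986) (nat_lit 508) (N (N L (nat_lit 8398155) (nat_lit 509) L) (nat_lit 8401364) (nat_lit 510) L))) (nat_lit 8407702) (nat_lit 511) (N 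
(N (N (N L (nat_lit 8412681) (nat_lit 512) L) (nat_lit 8414120) (nat_lit 513) L) (nat_lit 8421811) (nat_lit 514) (N (N L (nat_lit 8426796) (nat_lit 515) L) (nat_lit 8431757) (nat_lit 516) L)) (nat_lit 8436754) (nat_lit 517) 
(N (N (N L (nat_lit 8439632) (nat_lit 518) L) (nat_lit 8455014) (nat_lit 519) L) (nat_lit 8464984) (nat_lit 520) (N (N L (nat_lit 8471941) (nat_lit 521) L) (nat_lit 8474906) (nat_lit 522) L))))) (nat_lit 8484900) (nat_lit 523) (N (N (N 
(N (N (N L (nat_lit 8490656) (nat_lit 524) L) (nat_lit 8499969) (nat_lit 525) L) (nat_lit 8505411) (nat_lit 526) (N (N L (nat_lit 8521420) (nat_lit 527) L) (nat_lit 8524371) (nat_lit 528) L)) (nat_lit 8536111) (nat_lit 529) 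
(N (N (N L (nat_lit 8541360) (nat_lit 530) L) (nat_lit 8546577) (nat_lit 531) L) (nat_lit 8555274) (nat_lit 532) (N (N L (nat_lit 8561204) (nat_lit 533) L) (nat_lit 8581192) (nat_lit 534) L))) (nat_lit 8592704) (nat_lit 535) (N 
(N (N (N L (nat_lit 8593633) (nat_lit 536) L) (nat_lit 8611330) (nat_lit 537) L) (nat_lit 8619033) (nat_lit 538) (N (N L (nat_lit 8622214) (nat_lit 539) L) (nat_lit 8654232) (nat_lit 540) L)) (nat_lit 8657159) (nat_lit 541) 
(N (N (N L (nat_lit 8660134) (nat_lit 542) L) (nat_lit 8663097) (nat_lit 543) L) (nat_lit 8675909) (nat_lit 544) (N (N L (nat_lit 8683614) (nat_lit 545) L) (nat_lit 8688833) (nat_lit 546) L)))) (nat_lit 8694112) (nat_lit 547) (N (N 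
(N (N (N L (nat_lit 8704546) (nat_lit 548) L) (nat_lit 8716939) (nat_lit 549) L) (nat_lit 8721940) (nat_lit 550) (N (N L (nat_lit 8733800) (nat_lit 551) L) (nat_lit 8773776) (nat_lit 552) L)) (nat_lit 8783649) (nat_lit 553) 
(N (N (N L (nat_lit 8796800) (nat_lit 554) L) (nat_lit 8798658) (nat_lit 555) L) (nat_lit 8834052) (nat_lit 556) (N (N L (nat_lit 8849458) (nat_lit 557) L) (nat_lit 8855820) (nat_lit 558) L))) (nat_lit 8919856) (nat_lit 559) (N 
(N (N (N L (nat_lit 8922769) (nat_lit 560) L) (nat_lit 8925710) (nat_lit 561) L) (nat_lit 8931660) (nat_lit 562) (N (N L (nat_lit 8937586) (nat_lit 563) L) (nat_lit 8946281) (nat_lit 564) L)) (nat_lit 8963210) (nat_lit 565) 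
(N (N (N L (nat_lit 8966165) (nat_lit 566) L) (nat_lit 8978620) (nat_lit 567) L) (nat_lit 8983587) (nat_lit 568) (N L (nat_lit 8989058) (nat_lit 569) L))))))) (nat_lit 8999616) (nat_lit 570) (N (N (N (N (N 
(N (N (N L (nat_lit 9020484) (nat_lit 571) L) (nat_lit 9045270) (nat_lit 572) L) (nat_lit 9048457) (nat_lit 573) (N (N L (nat_lit 9055272) (nat_lit 574) L) (nat_lit 9078992) (nat_lit 575) L)) (nat_lit 9112069) (nat_lit 576) 
(N (N (N L (nat_lit 9158944) (nat_lit 577) L) (nat_lit 9178690) (nat_lit 578) L) (nat_lit 9193633) (nat_lit 579) (N (N L (nat_lit 9204992) (nat_lit 580) L) (nat_lit 9208708) (nat_lit 581) L))) (nat_lit 9240913) (nat_lit 582) (N 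
(N (N (N L (nat_lit 9279496) (nat_lit 583) L) (nat_lit 9310308) (nat_lit 584) L) (nat_lit 9323032) (nat_lit 585) (N (N L (nat_lit 9347075) (nat_lit 586) L) (nat_lit 9440193) (nat_lit 587) L)) (nat_lit 9451104) (nat_lit 588) 
(N (N (N L (nat_lit 9456930) (nat_lit 589) L) (nat_lit 9462812) (nat_lit 590) L) (nat_lit 9465987) (nat_lit 591) (N (N L (nat_lit 9471495) (nat_lit 592) L) (nat_lit 9474712) (nat_lit 593) L)))) (nat_lit 9486564) (nat_lit 594) (N (N 
(N (N (N L (nat_lit 9503954) (nat_lit 595) L) (nat_lit 9506893) (nat_lit 596) L) (nat_lit 9519665) (nat_lit 597) (N (N L (nat_lit 9537812) (nat_lit 598) L) (nat_lit 9543722) (nat_lit 599) L)) (nat_lit 9568632) (nat_lit 600) 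
(N (N (N L (nat_lit 9578566) (nat_lit 601) L) (nat_lit 9589508) (nat_lit 602) L) (nat_lit 9607201) (nat_lit 603) (N (N L (nat_lit 9610624) (nat_lit 604) L) (nat_lit 9652360) (nat_lit 605) L))) (nat_lit 9701932) (nat_lit 606) (N 
(N (N (N L (nat_lit 9708306) (nat_lit 607) L) (nat_lit 9721936) (nat_lit 608) L) (nat_lit 9748745) (nat_lit 609) (N (N L (nat_lit 9769376) (nat_lit 610) L) (nat_lit 9776129) (nat_lit 611) L)) (nat_lit 9830549) (nat_lit 612) 
(N (N (N L (nat_lit 9835530) (nat_lit 613) L) (nat_lit 9929280) (nat_lit 614) L) (nat_lit 9963547) (nat_lit 615) (N (N L (nat_lit 9968772) (nat_lit 616) L) (nat_lit 9969957) (nat_lit 617) L))))) (nat_lit 9998658) (nat_lit 618) (N (N (N 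
(N (N (N L (nat_lit 10021376) (nat_lit 619) L) (nat_lit 10028808) (nat_lit 620) L) (nat_lit 10093218) (nat_lit 621) (N (N L (nat_lit 10110017) (nat_lit 622) L) (nat_lit 10170384) (nat_lit 623) L)) (nat_lit 10232008) (nat_lit 624) 
(N (N (N L (nat_lit 10257456) (nat_lit 625) L) (nat_lit 10305542) (nat_lit 626) L) (nat_lit 10486557) (nat_lit 627) (N (N L (nat_lit 10491778) (nat_lit 628) L) (nat_lit 10496547) (nat_lit 629) L))) (nat_lit 10506593) (nat_lit 630) (N 
(N (N (N L (nat_lit 10513600) (nat_lit 631) L) (nat_lit 10525252) (nat_lit 632) L) (nat_lit 10537016) (nat_lit 633) (N (N L (nat_lit 10543366) (nat_lit 634) L) (nat_lit 10554382) (nat_lit 635) L)) (nat_lit 10557585) (nat_lit 636) 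
(N (N (N L (nat_lit 10560816) (nat_lit 637) L) (nat_lit 10584520) (nat_lit 638) L) (nat_lit 10619300) (nat_lit 639) (N (N L (nat_lit 10625178) (nat_lit 640) L) (nat_lit 10630149) (nat_lit 641) L)))) (nat_lit 10650722) (nat_lit 642) (N (N 
(N (N (N L (nat_lit 10666625) (nat_lit 643) L) (nat_lit 10687016) (nat_lit 644) L) (nat_lit 10698836) (nat_lit 645) (N (N L (nat_lit 10748656) (nat_lit 646) L) (nat_lit 10765331) (nat_lit 647) L)) (nat_lit 10768524) (nat_lit 648) 
(N (N (N L (nat_lit 10790408) (nat_lit 649) L) (nat_lit 10825794) (nat_lit 650) L) (nat_lit 10832640) (nat_lit 651) (N (N L (nat_lit 10846245) (nat_lit 652) L) (nat_lit 10881097) (nat_lit 653) L))) (nat_lit 10916112) (nat_lit 654) (N 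
(N (N (N L (nat_lit 11010247) (nat_lit 655) L) (nat_lit 11015256) (nat_lit 656) L) (nat_lit 11028004) (nat_lit 657) (N (N L (nat_lit 11046145) (nat_lit 658) L) (nat_lit 11055264) (nat_lit 659) L)) (nat_lit 11100169) (nat_lit 660) 
(N (N (N L (nat_lit 11108882) (nat_lit 661) L) (nat_lit 11150144) (nat_lit 662) L) (nat_lit 11163650) (nat_lit 663) (N L (nat_lit 11272490) (nat_lit 664) L)))))) (nat_lit 11282452) (nat_lit 665) (N (N (N (N 
(N (N (N L (nat_lit 11469952) (nat_lit 666) L) (nat_lit 11535529) (nat_lit 667) L) (nat_lit 11538486) (nat_lit 668) (N (N L (nat_lit 11548936) (nat_lit 669) L) (nat_lit 11551306) (nat_lit 670) L)) (nat_lit 11575377) (nat_lit 671) 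
(N (N (N L (nat_lit 11608708) (nat_lit 672) L) (nat_lit 11654144) (nat_lit 673) L) (nat_lit 11669008) (nat_lit 674) (N (N L (nat_lit 11731203) (nat_lit 675) L) (nat_lit 11797828) (nat_lit 676) L))) (nat_lit 11831426) (nat_lit 677) (N 
(N (N (N L (nat_lit 11952160) (nat_lit 678) L) (nat_lit 12075408) (nat_lit 679) L) (nat_lit 12126304) (nat_lit 680) (N (N L (nat_lit 12222476) (nat_lit 681) L) (nat_lit 12325377) (nat_lit 682) L)) (nat_lit 12584506) (nat_lit 683) 
(N (N (N L (nat_lit 12587685) (nat_lit 684) L) (nat_lit 12594948) (nat_lit 685) L) (nat_lit 12599513) (nat_lit 686) (N (N L (nat_lit 12604486) (nat_lit 687) L) (nat_lit 12624578) (nat_lit 688) L)))) (nat_lit 12638592) (nat_lit 689) (N (N 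
(N (N (N L (nat_lit 12641313) (nat_lit 690) L) (nat_lit 12650793) (nat_lit 691) L) (nat_lit 12656663) (nat_lit 692) (N (N L (nat_lit 12661896) (nat_lit 693) L) (nat_lit 12685424) (nat_lit 694) L)) (nat_lit 12698124) (nat_lit 695) 
(N (N (N L (nat_lit 12717187) (nat_lit 696) L) (nat_lit 12720156) (nat_lit 697) L) (nat_lit 12726562) (nat_lit 698) (N (N L (nat_lit 12733024) (nat_lit 699) L) (nat_lit 12747077) (nat_lit 700) L))) (nat_lit 12780432) (nat_lit 701) (N 
(N (N (N L (nat_lit 12849992) (nat_lit 702) L) (nat_lit 12861748) (nat_lit 703) L) (nat_lit 12871690) (nat_lit 704) (N (N L (nat_lit 12880401) (nat_lit 705) L) (nat_lit 12912836) (nat_lit 706) L)) (nat_lit 12944642) (nat_lit 707) 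
(N (N (N L (nat_lit 12985424) (nat_lit 708) L) (nat_lit 13009064) (nat_lit 709) L) (nat_lit 13062145) (nat_lit 710) (N (N L (nat_lit 13108704) (nat_lit 711) L) (nat_lit 13121601) (nat_lit 712) L))))) (nat_lit 13124355) (nat_lit 713) (N (N (N 
(N (N (N L (nat_lit 13142054) (nat_lit 714) L) (nat_lit 13148440) (nat_lit 715) L) (nat_lit 13192208) (nat_lit 716) (N (N L (nat_lit 13262980) (nat_lit 717) L) (nat_lit 13276672) (nat_lit 718) L)) (nat_lit 13303882) (nat_lit 719) 
(N (N (N L (nat_lit 13370381) (nat_lit 720) L) (nat_lit 13373586) (nat_lit 721) L) (nat_lit 13443616) (nat_lit 722) (N (N L (nat_lit 13631886) (nat_lit 723) L) (nat_lit 13636881) (nat_lit 724) L))) (nat_lit 13641904) (nat_lit 725) (N 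
(N (N (N L (nat_lit 13667400) (nat_lit 726) L) (nat_lit 13703682) (nat_lit 727) L) (nat_lit 13721920) (nat_lit 728) (N (N L (nat_lit 13771273) (nat_lit 729) L) (nat_lit 13811730) (nat_lit 730) L)) (nat_lit 13829156) (nat_lit 731) 
(N (N (N L (nat_lit 13893731) (nat_lit 732) L) (nat_lit 13911680) (nat_lit 733) L) (nat_lit 13938692) (nat_lit 734) (N (N L (nat_lit 14156372) (nat_lit 735) L) (nat_lit 14176296) (nat_lit 736) L)))) (nat_lit 14254209) (nat_lit 737) (N (N 
(N (N (N L (nat_lit 14551296) (nat_lit 738) L) (nat_lit 14682450) (nat_lit 739) L) (nat_lit 14688364) (nat_lit 740) (N (N L (nat_lit 14709264) (nat_lit 741) L) (nat_lit 14714004) (nat_lit 742) L)) (nat_lit 14716939) (nat_lit 743) 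
(N (N (N L (nat_lit 14747201) (nat_lit 744) L) (nat_lit 14762146) (nat_lit 745) L) (nat_lit 14828808) (nat_lit 746) (N (N L (nat_lit 14919680) (nat_lit 747) L) (nat_lit 14949408) (nat_lit 748) L))) (nat_lit 14950785) (nat_lit 749) (N 
(N (N (N L (nat_lit 15073798) (nat_lit 750) L) (nat_lit 15207048) (nat_lit 751) L) (nat_lit 15274244) (nat_lit 752) (N (N L (nat_lit 15335473) (nat_lit 753) L) (nat_lit 15515712) (nat_lit 754) L)) (nat_lit 15747077) (nat_lit 755) 
(N (N (N L (nat_lit 15762208) (nat_lit 756) L) (nat_lit 15864000) (nat_lit 757) L) (nat_lit 16056344) (nat_lit 758) (N L (nat_lit 16262146) (nat_lit 759) L)))))))))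

end CA.M24
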