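import Cfsg.Agent.M24.Gens
import Cfsg.Agent.M24.OctT

set_option autoImplicit false
set_option maxRecDepth 100000

namespace CA.M24

open Cfsg Equiv
open scoped Pointwise symmDiff

noncomputable section

theorem octT_good : setC.good octT = true := by decide +kernel

def octTLab : ℕ := nat_lit 0x400a00a00800c00a00600900600a00900800800900800400800600900400600a00700800900800800900b00800a00700b00700c00b00800900800b00900b00800800700a00600900900b00800900800700a00a00500700a00a00700600800600a00700900b00a00500900700a00a00800800800700a00900900600a00a00800900600700a00a00a00800900a00800200800900a00a00a00900800900500b00500a00900a00800900900700500c00600700900500800800900900800900900700b00b00a00800600700400b00a00900a00600800900700b00900700800800800900900800600600900800900a00900800900800b00700900a00900900900b00800600900a00400a00c00700800700a00b00800600200a00800a00a00500400800800700a00900a00900800900800600a00800900a00b00a00700500a00a00900900700800700a00900600a00500800800b00b00a00500900700000800800800700b00600b00900900900700700c00a00700800900900900700900900700b00a00800700800b00900a00500900a00900600a00900b00700a00700a00800700800b00a00600b00800900800b00900900800800700600900400b00a00600800900a00900300b00900900900900900a00a00900a00800800800a00a00500a00800900900500800600600300b00b00100800800900b00400300700a00a00800800b00500900b00800800900600800800a00a00c002006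00700a00700800a00800b00900a00800800900900800a00600800600900a00b00900700700900900800700a00900a00900b00900a00800900a00600b00b00a00900700900700900900b00600800800700300600600700900900900a00900900900700800800b00700900900900a00a00800800800800a00900700a00900800800b00900a00800900900700900900500700900b00a00a00800900100700800600700a00a00600a00900900b00a00900800900700a00600900600400b00b00900900a00500500700900900700900800400900800a00900800700800a00900400700900700900900500500800900700400600500500800900a00900800b00b00800800800800a00700a00800700800800700700900b00b00a00800800900700700700b00700500a00800700900a00700700a00900a00900a00800900a00800a00900c00900900a00a00a00b00900500800800800900a00700900800a00a00900500700700900a00a00300800900a00900900a00600a00700800500700700600a00700700500a00600300700800500600700b00400700600700700b00500900600900800900600800a00a00a00900200900400800700900a00900800900800800700700a00900900300700600b00500600600300600600a00a00a00800800700a00700a00b00700b00a00900a00800c00800700800900600500b00800900a00a00a00a00900600a00400b00900900800900600a00b00b00800800b00a00800a00b00400b00800600a00b00900900a00a00800900800900900900700800a00a00a00800800a00800500900900800900800700900800800a00800b00a00900800a000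

theorem octT_orb : orbChk setC.act octT gens24 octTLab [O0] = true := by decide +kernel

theorem octT_onum : octT.all (fun k => Nat.beq (onum octT octTLab k) 0) = true := by decide +kernel

end

end CA.M24
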