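import Cfsg.Agent.EqAll
import Cfsg.Prelude.Def_Sporadic_a

/-! Kernel-efficient arithmetic codes for permutations and subsets of the 24 points (unrolled). -/

set_option autoImplicit false

namespace CA.M24

/-- digit `i` (5 bits) of `c` -/
def dig (c i : ℕ) : ℕ := Nat.land (Nat.shiftRight c (Nat.mul (nat_lit 5) i)) (nat_lit 31)

/-- product of two permutation codes -/
def pmul (p q : ℕ) : ℕ :=
  (Nat.lor (Nat.lor (Nat.lor (Nat.lor (Nat.lor (Nat.lor (Nat.lor (Nat.lor (Nat.lor (Nat.lor (Nat.lor (Nat.lor (Nat.lor (Nat.lor (Nat.lor (Nat.lor (Nat.lor (Nat.lor (Nat.lor (Nat.lor (Nat.lor (Nat.lor (Nat.lor (Nat.shiftLeft (Nat.land (Nat.shiftRight p (Nat.mul (nat_lit 5) (Nat.land q (nat_lit 31)))) (nat_lit 31)) (nat_lit 0))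
    (Nat.shiftLeft (Nat.land (Nat.shiftRight p (Nat.mul (nat_lit 5) (Nat.land (Nat.shiftRight q (nat_lit 5)) (nat_lit 31)))) (nat_lit 31)) (nat_lit 5)))
    (Nat.shiftLeft (Nat.land (Nat.shiftRight p (Nat.mul (nat_lit 5) (Nat.land (Nat.shiftRight q (nat_lit 10)) (nat_lit 31)))) (nat_lit 31)) (nat_lit 10)))
    (Nat.shiftLeft (Nat.land (Nat.shiftRight p (Nat.mul (nat_lit 5) (Nat.land (Nat.shiftRight q (nat_lit 15)) (nat_lit 31)))) (nat_lit 31)) (nat_lit 15)))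
    (Nat.shiftLeft (Nat.land (Nat.shiftRight p (Nat.mul (nat_lit 5) (Nat.land (Nat.shiftRight q (nat_lit 20)) (nat_lit 31)))) (nat_lit 31)) (nat_lit 20)))
    (Nat.shiftLeft (Nat.land (Nat.shiftRight p (Nat.mul (nat_lit 5) (Nat.land (Nat.shiftRight q (nat_lit 25)) (nat_lit 31)))) (nat_lit 31)) (nat_lit 25)))
    (Nat.shiftLeft (Nat.land (Nat.shiftRight p (Nat.mul (nat_lit 5) (Nat.land (Nat.shiftRight q (nat_lit 30)) (nat_lit 31)))) (nat_lit 31)) (nat_lit 30)))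
    (Nat.shiftLeft (Nat.land (Nat.shiftRight p (Nat.mul (nat_lit 5) (Nat.land (Nat.shiftRight q (nat_lit 35)) (nat_lit 31)))) (nat_lit 31)) (nat_lit 35)))
    (Nat.shiftLeft (Nat.land (Nat.shiftRight p (Nat.mul (nat_lit 5) (Nat.land (Nat.shiftRight q (nat_lit 40)) (nat_lit 31)))) (nat_lit 31)) (nat_lit 40)))
    (Nat.shiftLeft (Nat.land (Nat.shiftRight p (Nat.mul (nat_lit 5) (Nat.land (Nat.shiftRight q (nat_lit 45)) (nat_lit 31)))) (nat_lit 31)) (nat_lit 45)))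
    (Nat.shiftLeft (Nat.land (Nat.shiftRight p (Nat.mul (nat_lit 5) (Nat.land (Nat.shiftRight q (nat_lit 50)) (nat_lit 31)))) (nat_lit 31)) (nat_lit 50)))
    (Nat.shiftLeft (Nat.land (Nat.shiftRight p (Nat.mul (nat_lit 5) (Nat.land (Nat.shiftRight q (nat_lit 55)) (nat_lit 31)))) (nat_lit 31)) (nat_lit 55)))
    (Nat.shiftLeft (Nat.land (Nat.shiftRight p (Nat.mul (nat_lit 5) (Nat.land (Nat.shiftRight q (nat_lit 60)) (nat_lit 31)))) (nat_lit 31)) (nat_lit 60)))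
    (Nat.shiftLeft (Nat.land (Nat.shiftRight p (Nat.mul (nat_lit 5) (Nat.land (Nat.shiftRight q (nat_lit 65)) (nat_lit 31)))) (nat_lit 31)) (nat_lit 65)))
    (Nat.shiftLeft (Nat.land (Nat.shiftRight p (Nat.mul (nat_lit 5) (Nat.land (Nat.shiftRight q (nat_lit 70)) (nat_lit 31)))) (nat_lit 31)) (nat_lit 70)))
    (Nat.shiftLeft (Nat.land (Nat.shiftRight p (Nat.mul (nat_lit 5) (Nat.land (Nat.shiftRight q (nat_lit 75)) (nat_lit 31)))) (nat_lit 31)) (nat_lit 75)))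
    (Nat.shiftLeft (Nat.land (Nat.shiftRight p (Nat.mul (nat_lit 5) (Nat.land (Nat.shiftRight q (nat_lit 80)) (nat_lit 31)))) (nat_lit 31)) (nat_lit 80)))
    (Nat.shiftLeft (Nat.land (Nat.shiftRight p (Nat.mul (nat_lit 5) (Nat.land (Nat.shiftRight q (nat_lit 85)) (nat_lit 31)))) (nat_lit 31)) (nat_lit 85)))
    (Nat.shiftLeft (Nat.land (Nat.shiftRight p (Nat.mul (nat_lit 5) (Nat.land (Nat.shiftRight q (nat_lit 90)) (nat_lit 31)))) (nat_lit 31)) (nat_lit 90)))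
    (Nat.shiftLeft (Nat.land (Nat.shiftRight p (Nat.mul (nat_lit 5) (Nat.land (Nat.shiftRight q (nat_lit 95)) (nat_lit 31)))) (nat_lit 31)) (nat_lit 95)))
    (Nat.shiftLeft (Nat.land (Nat.shiftRight p (Nat.mul (nat_lit 5) (Nat.land (Nat.shiftRight q (nat_lit 100)) (nat_lit 31)))) (nat_lit 31)) (nat_lit 100)))
    (Nat.shiftLeft (Nat.land (Nat.shiftRight p (Nat.mul (nat_lit 5) (Nat.land (Nat.shiftRight q (nat_lit 105)) (nat_lit 31)))) (nat_lit 31)) (nat_lit 105)))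
    (Nat.shiftLeft (Nat.land (Nat.shiftRight p (Nat.mul (nat_lit 5) (Nat.land (Nat.shiftRight q (nat_lit 110)) (nat_lit 31)))) (nat_lit 31)) (nat_lit 110)))
    (Nat.shiftLeft (Nat.land (Nat.shiftRight p (Nat.mul (nat_lit 5) (Nat.land (Nat.shiftRight q (nat_lit 115)) (nat_lit 31)))) (nat_lit 31)) (nat_lit 115)))

/-- inverse of a permutation code -/
def pinv (c : ℕ) : ℕ :=
  (Nat.lor (Nat.lor (Nat.lor (Nat.lor (Nat.lor (Nat.lor (Nat.lor (Nat.lor (Nat.lor (Nat.lor (Nat.lor (Nat.lor (Nat.lor (Nat.lor (Nat.lor (Nat.lor (Nat.lor (Nat.lor (Nat.lor (Nat.lor (Nat.lor (Nat.lor (Nat.lor (Nat.shiftLeft (nat_lit 0) (Nat.mul (nat_lit 5) (Nat.land c (nat_lit 31))))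
    (Nat.shiftLeft (nat_lit 1) (Nat.mul (nat_lit 5) (Nat.land (Nat.shiftRight c (nat_lit 5)) (nat_lit 31)))))
    (Nat.shiftLeft (nat_lit 2) (Nat.mul (nat_lit 5) (Nat.land (Nat.shiftRight c (nat_lit 10)) (nat_lit 31)))))
    (Nat.shiftLeft (nat_lit 3) (Nat.mul (nat_lit 5) (Nat.land (Nat.shiftRight c (nat_lit 15)) (nat_lit 31)))))
    (Nat.shiftLeft (nat_lit 4) (Nat.mul (nat_lit 5) (Nat.land (Nat.shiftRight c (nat_lit 20)) (nat_lit 31)))))
    (Nat.shiftLeft (nat_lit 5) (Nat.mul (nat_lit 5) (Nat.land (Nat.shiftRight c (nat_lit 25)) (nat_lit 31)))))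
    (Nat.shiftLeft (nat_lit 6) (Nat.mul (nat_lit 5) (Nat.land (Nat.shiftRight c (nat_lit 30)) (nat_lit 31)))))
    (Nat.shiftLeft (nat_lit 7) (Nat.mul (nat_lit 5) (Nat.land (Nat.shiftRight c (nat_lit 35)) (nat_lit 31)))))
    (Nat.shiftLeft (nat_lit 8) (Nat.mul (nat_lit 5) (Nat.land (Nat.shiftRight c (nat_lit 40)) (nat_lit 31)))))
    (Nat.shiftLeft (nat_lit 9) (Nat.mul (nat_lit 5) (Nat.land (Nat.shiftRight c (nat_lit 45)) (nat_lit 31)))))
    (Nat.shiftLeft (nat_lit 10) (Nat.mul (nat_lit 5) (Nat.land (Nat.shiftRight c (nat_lit 50)) (nat_lit 31)))))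
    (Nat.shiftLeft (nat_lit 11) (Nat.mul (nat_lit 5) (Nat.land (Nat.shiftRight c (nat_lit 55)) (nat_lit 31)))))
    (Nat.shiftLeft (nat_lit 12) (Nat.mul (nat_lit 5) (Nat.land (Nat.shiftRight c (nat_lit 60)) (nat_lit 31)))))
    (Nat.shiftLeft (nat_lit 13) (Nat.mul (nat_lit 5) (Nat.land (Nat.shiftRight c (nat_lit 65)) (nat_lit 31)))))
    (Nat.shiftLeft (nat_lit 14) (Nat.mul (nat_lit 5) (Nat.land (Nat.shiftRight c (nat_lit 70)) (nat_lit 31)))))
    (Nat.shiftLeft (nat_lit 15) (Nat.mul (nat_lit 5) (Nat.land (Nat.shiftRight c (nat_lit 75)) (nat_lit 31)))))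
    (Nat.shiftLeft (nat_lit 16) (Nat.mul (nat_lit 5) (Nat.land (Nat.shiftRight c (nat_lit 80)) (nat_lit 31)))))
    (Nat.shiftLeft (nat_lit 17) (Nat.mul (nat_lit 5) (Nat.land (Nat.shiftRight c (nat_lit 85)) (nat_lit 31)))))
    (Nat.shiftLeft (nat_lit 18) (Nat.mul (nat_lit 5) (Nat.land (Nat.shiftRight c (nat_lit 90)) (nat_lit 31)))))
    (Nat.shiftLeft (nat_lit 19) (Nat.mul (nat_lit 5) (Nat.land (Nat.shiftRight c (nat_lit 95)) (nat_lit 31)))))
    (Nat.shiftLeft (nat_lit 20) (Nat.mul (nat_lit 5) (Nat.land (Nat.shiftRight c (nat_lit 100)) (nat_lit 31)))))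
    (Nat.shiftLeft (nat_lit 21) (Nat.mul (nat_lit 5) (Nat.land (Nat.shiftRight c (nat_lit 105)) (nat_lit 31)))))
    (Nat.shiftLeft (nat_lit 22) (Nat.mul (nat_lit 5) (Nat.land (Nat.shiftRight c (nat_lit 110)) (nat_lit 31)))))
    (Nat.shiftLeft (nat_lit 23) (Nat.mul (nat_lit 5) (Nat.land (Nat.shiftRight c (nat_lit 115)) (nat_lit 31)))))

/-- image of a mask under a permutation code -/
def mapp (c m : ℕ) : ℕ :=
  (Nat.lor (Nat.lor (Nat.lor (Nat.lor (Nat.lor (Nat.lor (Nat.lor (Nat.lor (Nat.lor (Nat.lor (Nat.lor (Nat.lor (Nat.lor (Nat.lor (Nat.lor (Nat.lor (Nat.lor (Nat.lor (Nat.lor (Nat.lor (Nat.lor (Nat.lor (Nat.lor (Nat.shiftLeft (Nat.land m (nat_lit 1)) (Nat.land c (nat_lit 31)))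
    (Nat.shiftLeft (Nat.land (Nat.shiftRight m (nat_lit 1)) (nat_lit 1)) (Nat.land (Nat.shiftRight c (nat_lit 5)) (nat_lit 31))))
    (Nat.shiftLeft (Nat.land (Nat.shiftRight m (nat_lit 2)) (nat_lit 1)) (Nat.land (Nat.shiftRight c (nat_lit 10)) (nat_lit 31))))
    (Nat.shiftLeft (Nat.land (Nat.shiftRight m (nat_lit 3)) (nat_lit 1)) (Nat.land (Nat.shiftRight c (nat_lit 15)) (nat_lit 31))))
    (Nat.shiftLeft (Nat.land (Nat.shiftRight m (nat_lit 4)) (nat_lit 1)) (Nat.land (Nat.shiftRight c (nat_lit 20)) (nat_lit 31))))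
    (Nat.shiftLeft (Nat.land (Nat.shiftRight m (nat_lit 5)) (nat_lit 1)) (Nat.land (Nat.shiftRight c (nat_lit 25)) (nat_lit 31))))
    (Nat.shiftLeft (Nat.land (Nat.shiftRight m (nat_lit 6)) (nat_lit 1)) (Nat.land (Nat.shiftRight c (nat_lit 30)) (nat_lit 31))))
    (Nat.shiftLeft (Nat.land (Nat.shiftRight m (nat_lit 7)) (nat_lit 1)) (Nat.land (Nat.shiftRight c (nat_lit 35)) (nat_lit 31))))
    (Nat.shiftLeft (Nat.land (Nat.shiftRight m (nat_lit 8)) (nat_lit 1)) (Nat.land (Nat.shiftRight c (nat_lit 40)) (nat_lit 31))))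
    (Nat.shiftLeft (Nat.land (Nat.shiftRight m (nat_lit 9)) (nat_lit 1)) (Nat.land (Nat.shiftRight c (nat_lit 45)) (nat_lit 31))))
    (Nat.shiftLeft (Nat.land (Nat.shiftRight m (nat_lit 10)) (nat_lit 1)) (Nat.land (Nat.shiftRight c (nat_lit 50)) (nat_lit 31))))
    (Nat.shiftLeft (Nat.land (Nat.shiftRight m (nat_lit 11)) (nat_lit 1)) (Nat.land (Nat.shiftRight c (nat_lit 55)) (nat_lit 31))))
    (Nat.shiftLeft (Nat.land (Nat.shiftRight m (nat_lit 12)) (nat_lit 1)) (Nat.land (Nat.shiftRight c (nat_lit 60)) (nat_lit 31))))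
    (Nat.shiftLeft (Nat.land (Nat.shiftRight m (nat_lit 13)) (nat_lit 1)) (Nat.land (Nat.shiftRight c (nat_lit 65)) (nat_lit 31))))
    (Nat.shiftLeft (Nat.land (Nat.shiftRight m (nat_lit 14)) (nat_lit 1)) (Nat.land (Nat.shiftRight c (nat_lit 70)) (nat_lit 31))))
    (Nat.shiftLeft (Nat.land (Nat.shiftRight m (nat_lit 15)) (nat_lit 1)) (Nat.land (Nat.shiftRight c (nat_lit 75)) (nat_lit 31))))
    (Nat.shiftLeft (Nat.land (Nat.shiftRight m (nat_lit 16)) (nat_lit 1)) (Nat.land (Nat.shiftRight c (nat_lit 80)) (nat_lit 31))))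
    (Nat.shiftLeft (Nat.land (Nat.shiftRight m (nat_lit 17)) (nat_lit 1)) (Nat.land (Nat.shiftRight c (nat_lit 85)) (nat_lit 31))))
    (Nat.shiftLeft (Nat.land (Nat.shiftRight m (nat_lit 18)) (nat_lit 1)) (Nat.land (Nat.shiftRight c (nat_lit 90)) (nat_lit 31))))
    (Nat.shiftLeft (Nat.land (Nat.shiftRight m (nat_lit 19)) (nat_lit 1)) (Nat.land (Nat.shiftRight c (nat_lit 95)) (nat_lit 31))))
    (Nat.shiftLeft (Nat.land (Nat.shiftRight m (nat_lit 20)) (nat_lit 1)) (Nat.land (Nat.shiftRight c (nat_lit 100)) (nat_lit 31))))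
    (Nat.shiftLeft (Nat.land (Nat.shiftRight m (nat_lit 21)) (nat_lit 1)) (Nat.land (Nat.shiftRight c (nat_lit 105)) (nat_lit 31))))
    (Nat.shiftLeft (Nat.land (Nat.shiftRight m (nat_lit 22)) (nat_lit 1)) (Nat.land (Nat.shiftRight c (nat_lit 110)) (nat_lit 31))))
    (Nat.shiftLeft (Nat.land (Nat.shiftRight m (nat_lit 23)) (nat_lit 1)) (Nat.land (Nat.shiftRight c (nat_lit 115)) (nat_lit 31))))

/-- number of set bits among the low 24 -/
def pcnt (m : ℕ) : ℕ :=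
  (Nat.add (Nat.add (Nat.add (Nat.add (Nat.add (Nat.add (Nat.add (Nat.add (Nat.add (Nat.add (Nat.add (Nat.add (Nat.add (Nat.add (Nat.add (Nat.add (Nat.add (Nat.add (Nat.add (Nat.add (Nat.add (Nat.add (Nat.add (Nat.land m (nat_lit 1))
    (Nat.land (Nat.shiftRight m (nat_lit 1)) (nat_lit 1)))
    (Nat.land (Nat.shiftRight m (nat_lit 2)) (nat_lit 1)))
    (Nat.land (Nat.shiftRight m (nat_lit 3)) (nat_lit 1)))
    (Nat.land (Nat.shiftRight m (nat_lit 4)) (nat_lit 1)))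
    (Nat.land (Nat.shiftRight m (nat_lit 5)) (nat_lit 1)))
    (Nat.land (Nat.shiftRight m (nat_lit 6)) (nat_lit 1)))
    (Nat.land (Nat.shiftRight m (nat_lit 7)) (nat_lit 1)))
    (Nat.land (Nat.shiftRight m (nat_lit 8)) (nat_lit 1)))
    (Nat.land (Nat.shiftRight m (nat_lit 9)) (nat_lit 1)))
    (Nat.land (Nat.shiftRight m (nat_lit 10)) (nat_lit 1)))
    (Nat.land (Nat.shiftRight m (nat_lit 11)) (nat_lit 1)))
    (Nat.land (Nat.shiftRight m (nat_lit 12)) (nat_lit 1)))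
    (Nat.land (Nat.shiftRight m (nat_lit 13)) (nat_lit 1)))
    (Nat.land (Nat.shiftRight m (nat_lit 14)) (nat_lit 1)))
    (Nat.land (Nat.shiftRight m (nat_lit 15)) (nat_lit 1)))
    (Nat.land (Nat.shiftRight m (nat_lit 16)) (nat_lit 1)))
    (Nat.land (Nat.shiftRight m (nat_lit 17)) (nat_lit 1)))
    (Nat.land (Nat.shiftRight m (nat_lit 18)) (nat_lit 1)))
    (Nat.land (Nat.shiftRight m (nat_lit 19)) (nat_lit 1)))
    (Nat.land (Nat.shiftRight m (nat_lit 20)) (nat_lit 1)))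
    (Nat.land (Nat.shiftRight m (nat_lit 21)) (nat_lit 1)))
    (Nat.land (Nat.shiftRight m (nat_lit 22)) (nat_lit 1)))
    (Nat.land (Nat.shiftRight m (nat_lit 23)) (nat_lit 1)))

/-- mask of the values of a permutation code -/
def pimg (c : ℕ) : ℕ :=
  (Nat.lor (Nat.lor (Nat.lor (Nat.lor (Nat.lor (Nat.lor (Nat.lor (Nat.lor (Nat.lor (Nat.lor (Nat.lor (Nat.lor (Nat.lor (Nat.lor (Nat.lor (Nat.lor (Nat.lor (Nat.lor (Nat.lor (Nat.lor (Nat.lor (Nat.lor (Nat.lor (Nat.shiftLeft (nat_lit 1) (Nat.land c (nat_lit 31)))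
    (Nat.shiftLeft (nat_lit 1) (Nat.land (Nat.shiftRight c (nat_lit 5)) (nat_lit 31))))
    (Nat.shiftLeft (nat_lit 1) (Nat.land (Nat.shiftRight c (nat_lit 10)) (nat_lit 31))))
    (Nat.shiftLeft (nat_lit 1) (Nat.land (Nat.shiftRight c (nat_lit 15)) (nat_lit 31))))
    (Nat.shiftLeft (nat_lit 1) (Nat.land (Nat.shiftRight c (nat_lit 20)) (nat_lit 31))))
    (Nat.shiftLeft (nat_lit 1) (Nat.land (Nat.shiftRight c (nat_lit 25)) (nat_lit 31))))
    (Nat.shiftLeft (nat_lit 1) (Nat.land (Nat.shiftRight c (nat_lit 30)) (nat_lit 31))))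
    (Nat.shiftLeft (nat_lit 1) (Nat.land (Nat.shiftRight c (nat_lit 35)) (nat_lit 31))))
    (Nat.shiftLeft (nat_lit 1) (Nat.land (Nat.shiftRight c (nat_lit 40)) (nat_lit 31))))
    (Nat.shiftLeft (nat_lit 1) (Nat.land (Nat.shiftRight c (nat_lit 45)) (nat_lit 31))))
    (Nat.shiftLeft (nat_lit 1) (Nat.land (Nat.shiftRight c (nat_lit 50)) (nat_lit 31))))
    (Nat.shiftLeft (nat_lit 1) (Nat.land (Nat.shiftRight c (nat_lit 55)) (nat_lit 31))))
    (Nat.shiftLeft (nat_lit 1) (Nat.land (Nat.shiftRight c (nat_lit 60)) (nat_lit 31))))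
    (Nat.shiftLeft (nat_lit 1) (Nat.land (Nat.shiftRight c (nat_lit 65)) (nat_lit 31))))
    (Nat.shiftLeft (nat_lit 1) (Nat.land (Nat.shiftRight c (nat_lit 70)) (nat_lit 31))))
    (Nat.shiftLeft (nat_lit 1) (Nat.land (Nat.shiftRight c (nat_lit 75)) (nat_lit 31))))
    (Nat.shiftLeft (nat_lit 1) (Nat.land (Nat.shiftRight c (nat_lit 80)) (nat_lit 31))))
    (Nat.shiftLeft (nat_lit 1) (Nat.land (Nat.shiftRight c (nat_lit 85)) (nat_lit 31))))
    (Nat.shiftLeft (nat_lit 1) (Nat.land (Nat.shiftRight c (nat_lit 90)) (nat_lit 31))))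
    (Nat.shiftLeft (nat_lit 1) (Nat.land (Nat.shiftRight c (nat_lit 95)) (nat_lit 31))))
    (Nat.shiftLeft (nat_lit 1) (Nat.land (Nat.shiftRight c (nat_lit 100)) (nat_lit 31))))
    (Nat.shiftLeft (nat_lit 1) (Nat.land (Nat.shiftRight c (nat_lit 105)) (nat_lit 31))))
    (Nat.shiftLeft (nat_lit 1) (Nat.land (Nat.shiftRight c (nat_lit 110)) (nat_lit 31))))
    (Nat.shiftLeft (nat_lit 1) (Nat.land (Nat.shiftRight c (nat_lit 115)) (nat_lit 31))))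

/-- mask of the fixed points of a permutation code -/
def pfix (c : ℕ) : ℕ :=
  (Nat.lor (Nat.lor (Nat.lor (Nat.lor (Nat.lor (Nat.lor (Nat.lor (Nat.lor (Nat.lor (Nat.lor (Nat.lor (Nat.lor (Nat.lor (Nat.lor (Nat.lor (Nat.lor (Nat.lor (Nat.lor (Nat.lor (Nat.lor (Nat.lor (Nat.lor (Nat.lor (Nat.shiftLeft (Bool.rec (motive := fun _ => ℕ) (nat_lit 0) (nat_lit 1) (Nat.beq (Nat.land c (nat_lit 31)) (nat_lit 0))) (nat_lit 0))
    (Nat.shiftLeft (Bool.rec (motive := fun _ => ℕ) (nat_lit 0) (nat_lit 1) (Nat.beq (Nat.land (Nat.shiftRight c (nat_lit 5)) (nat_lit 31)) (nat_lit 1))) (nat_lit 1)))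
    (Nat.shiftLeft (Bool.rec (motive := fun _ => ℕ) (nat_lit 0) (nat_lit 1) (Nat.beq (Nat.land (Nat.shiftRight c (nat_lit 10)) (nat_lit 31)) (nat_lit 2))) (nat_lit 2)))
    (Nat.shiftLeft (Bool.rec (motive := fun _ => ℕ) (nat_lit 0) (nat_lit 1) (Nat.beq (Nat.land (Nat.shiftRight c (nat_lit 15)) (nat_lit 31)) (nat_lit 3))) (nat_lit 3)))
    (Nat.shiftLeft (Bool.rec (motive := fun _ => ℕ) (nat_lit 0) (nat_lit 1) (Nat.beq (Nat.land (Nat.shiftRight c (nat_lit 20)) (nat_lit 31)) (nat_lit 4))) (nat_lit 4)))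
    (Nat.shiftLeft (Bool.rec (motive := fun _ => ℕ) (nat_lit 0) (nat_lit 1) (Nat.beq (Nat.land (Nat.shiftRight c (nat_lit 25)) (nat_lit 31)) (nat_lit 5))) (nat_lit 5)))
    (Nat.shiftLeft (Bool.rec (motive := fun _ => ℕ) (nat_lit 0) (nat_lit 1) (Nat.beq (Nat.land (Nat.shiftRight c (nat_lit 30)) (nat_lit 31)) (nat_lit 6))) (nat_lit 6)))
    (Nat.shiftLeft (Bool.rec (motive := fun _ => ℕ) (nat_lit 0) (nat_lit 1) (Nat.beq (Nat.land (Nat.shiftRight c (nat_lit 35)) (nat_lit 31)) (nat_lit 7))) (nat_lit 7)))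
    (Nat.shiftLeft (Bool.rec (motive := fun _ => ℕ) (nat_lit 0) (nat_lit 1) (Nat.beq (Nat.land (Nat.shiftRight c (nat_lit 40)) (nat_lit 31)) (nat_lit 8))) (nat_lit 8)))
    (Nat.shiftLeft (Bool.rec (motive := fun _ => ℕ) (nat_lit 0) (nat_lit 1) (Nat.beq (Nat.land (Nat.shiftRight c (nat_lit 45)) (nat_lit 31)) (nat_lit 9))) (nat_lit 9)))
    (Nat.shiftLeft (Bool.rec (motive := fun _ => ℕ) (nat_lit 0) (nat_lit 1) (Nat.beq (Nat.land (Nat.shiftRight c (nat_lit 50)) (nat_lit 31)) (nat_lit 10))) (nat_lit 10)))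
    (Nat.shiftLeft (Bool.rec (motive := fun _ => ℕ) (nat_lit 0) (nat_lit 1) (Nat.beq (Nat.land (Nat.shiftRight c (nat_lit 55)) (nat_lit 31)) (nat_lit 11))) (nat_lit 11)))
    (Nat.shiftLeft (Bool.rec (motive := fun _ => ℕ) (nat_lit 0) (nat_lit 1) (Nat.beq (Nat.land (Nat.shiftRight c (nat_lit 60)) (nat_lit 31)) (nat_lit 12))) (nat_lit 12)))
    (Nat.shiftLeft (Bool.rec (motive := fun _ => ℕ) (nat_lit 0) (nat_lit 1) (Nat.beq (Nat.land (Nat.shiftRight c (nat_lit 65)) (nat_lit 31)) (nat_lit 13))) (nat_lit 13)))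
    (Nat.shiftLeft (Bool.rec (motive := fun _ => ℕ) (nat_lit 0) (nat_lit 1) (Nat.beq (Nat.land (Nat.shiftRight c (nat_lit 70)) (nat_lit 31)) (nat_lit 14))) (nat_lit 14)))
    (Nat.shiftLeft (Bool.rec (motive := fun _ => ℕ) (nat_lit 0) (nat_lit 1) (Nat.beq (Nat.land (Nat.shiftRight c (nat_lit 75)) (nat_lit 31)) (nat_lit 15))) (nat_lit 15)))
    (Nat.shiftLeft (Bool.rec (motive := fun _ => ℕ) (nat_lit 0) (nat_lit 1) (Nat.beq (Nat.land (Nat.shiftRight c (nat_lit 80)) (nat_lit 31)) (nat_lit 16))) (nat_lit 16)))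
    (Nat.shiftLeft (Bool.rec (motive := fun _ => ℕ) (nat_lit 0) (nat_lit 1) (Nat.beq (Nat.land (Nat.shiftRight c (nat_lit 85)) (nat_lit 31)) (nat_lit 17))) (nat_lit 17)))
    (Nat.shiftLeft (Bool.rec (motive := fun _ => ℕ) (nat_lit 0) (nat_lit 1) (Nat.beq (Nat.land (Nat.shiftRight c (nat_lit 90)) (nat_lit 31)) (nat_lit 18))) (nat_lit 18)))
    (Nat.shiftLeft (Bool.rec (motive := fun _ => ℕ) (nat_lit 0) (nat_lit 1) (Nat.beq (Nat.land (Nat.shiftRight c (nat_lit 95)) (nat_lit 31)) (nat_lit 19))) (nat_lit 19)))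
    (Nat.shiftLeft (Bool.rec (motive := fun _ => ℕ) (nat_lit 0) (nat_lit 1) (Nat.beq (Nat.land (Nat.shiftRight c (nat_lit 100)) (nat_lit 31)) (nat_lit 20))) (nat_lit 20)))
    (Nat.shiftLeft (Bool.rec (motive := fun _ => ℕ) (nat_lit 0) (nat_lit 1) (Nat.beq (Nat.land (Nat.shiftRight c (nat_lit 105)) (nat_lit 31)) (nat_lit 21))) (nat_lit 21)))
    (Nat.shiftLeft (Bool.rec (motive := fun _ => ℕ) (nat_lit 0) (nat_lit 1) (Nat.beq (Nat.land (Nat.shiftRight c (nat_lit 110)) (nat_lit 31)) (nat_lit 22))) (nat_lit 22)))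
    (Nat.shiftLeft (Bool.rec (motive := fun _ => ℕ) (nat_lit 0) (nat_lit 1) (Nat.beq (Nat.land (Nat.shiftRight c (nat_lit 115)) (nat_lit 31)) (nat_lit 23))) (nat_lit 23)))

end CA.M24

theorem CA.M24.realizeEqnsRaw : True := by
  have := @CA.M24.pcnt.eq_1
  have := @CA.M24.pcnt.eq_def
  have := @CA.M24.pcnt.congr_simp
  have := @CA.M24.pimg.eq_1
  have := @CA.M24.pimg.eq_def
  have := @CA.M24.pimg.congr_simp
  have := @CA.M24.mapp.eq_1
  have := @CA.M24.mapp.eq_def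
  have := @CA.M24.mapp.congr_simp
  have := @CA.M24.pmul.eq_1
  have := @CA.M24.pmul.eq_def
  have := @CA.M24.pmul.congr_simp
  have := @CA.M24.pfix.eq_1
  have := @CA.M24.pfix.eq_def
  have := @CA.M24.pfix.congr_simp
  have := @CA.M24.pinv.eq_1
  have := @CA.M24.pinv.eq_def
  have := @CA.M24.pinv.congr_simp
  have := @CA.M24.dig.eq_1
  have := @CA.M24.dig.eq_def
  have := @CA.M24.dig.congr_simp
  trivial
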