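import Cfsg.Agent.M24.Cocode
import Cfsg.Agent.M24.OctPair

/-! Invariant subspaces of the permutation module. -/

set_option autoImplicit false
set_option maxRecDepth 100000

namespace CA.M24

open Cfsg Equiv
open scoped Pointwise symmDiff

noncomputable section

theorem exists_agree (σ : Perm Pt) {s : Finset Pt} (hs : s.card ≤ 5) :
    ∃ g ∈ M24, ∀ x ∈ s, g x = σ x := by
  obtain ⟨t, hst, ht⟩ := Finset.exists_superset_card_eq hs (by rw [card_Pt]; norm_num)
  obtain ⟨g, hg, h⟩ := five_transitive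
    ((Finset.equivFinOfCardEq ht).symm.toEmbedding.trans (Function.Embedding.subtype _))
    (((Finset.equivFinOfCardEq ht).symm.toEmbedding.trans (Function.Embedding.subtype _)).trans σ.toEmbedding)
  refine ⟨g, hg, fun x hx => ?_⟩
  have := h (Finset.equivFinOfCardEq ht ⟨x, hst hx⟩)
  simpa using this

theorem exists_two {a b p q : Pt} (h : a ≠ b) (h' : p ≠ q) : ∃ g ∈ M24, g a = p ∧ g b = q := by
  obtain ⟨u, hu, -, e1, e2⟩ := w2_spec h
  obtain ⟨v, hv, -, e3, e4⟩ := w2_spec h'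
  exact ⟨v⁻¹ * u, mul_mem (inv_mem hv) hu, by rw [Perm.mul_apply, Perm.inv_eq_iff_eq, e1, e3],
    by rw [Perm.mul_apply, Perm.inv_eq_iff_eq, e2, e4]⟩

theorem smul_congr_on {g h : Perm Pt} {s : Finset Pt} (e : ∀ x ∈ s, g x = h x) : g • s = h • s :=
  Finset.image_congr fun x hx => e x hx

theorem smul_symmDiff' (g : Perm Pt) (s t : Finset Pt) : g • (s ∆ t) = (g • s) ∆ (g • t) := by
  ext x
  simp only [← Finset.inv_smul_mem_iff, Finset.mem_symmDiff]

theorem smul_compl' (g : Perm Pt) (s : Finset Pt) : g • sᶜ = (g • s)ᶜ := by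
  ext x
  simp only [← Finset.inv_smul_mem_iff, Finset.mem_compl]

theorem wordOf_smul (σ : Perm Pt) (s : Finset Pt) : (fun p => wordOf s (σ.symm p)) = wordOf (σ • s) := by
  funext p
  have : p ∈ σ • s ↔ σ.symm p ∈ s := Finset.inv_smul_mem_iff.symm
  simp only [wordOf, this]

theorem wordOf_inj : Function.Injective wordOf := fun s t h => by
  rw [← support₂_wordOf s, h, support₂_wordOf]

/-- invariant families of subsets -/
structure Inv (A : Set (Finset Pt)) : Prop where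
  add : ∀ {s t}, s ∈ A → t ∈ A → s ∆ t ∈ A
  smul : ∀ {g s}, g ∈ M24 → s ∈ A → g • s ∈ A

theorem Inv.of_octad {A : Set (Finset Pt)} (h : Inv A) {o : Finset Pt} (ho : o ∈ A) (ho' : o ∈ octads) :
    Cs ⊆ A := by
  have h1 : ∀ x ∈ octads, x ∈ A := fun x hx => by
    obtain ⟨g, hg, rfl⟩ := octad_transitive ho' hx
    exact h.smul hg ho
  intro c hc
  refine Cs_induction (· ∈ A) ?_ (fun _ _ => h.add) (fun a ha => h1 _ (unmask_mem_octads ?_).1) hc
  · have := h.add ho ho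
    rwa [symmDiff_self] at this
  · exact allL_eq_true.1 (show allL isO basisL = true by decide +kernel) a ha

theorem Inv.Cs_sub {A : Set (Finset Pt)} (h : Inv A) {c : Finset Pt} (hc : c ∈ A) (hc' : c ∈ Cs)
    (h0 : c ≠ ∅) (h1 : c ≠ Finset.univ) : Cs ⊆ A := by
  rcases card_of_mem_Cs hc' with e | e | e | e | e
  · exact absurd (Finset.card_eq_zero.1 e) h0
  · exact h.of_octad hc (mem_octads.2 ⟨hc', e⟩)
  · have h2 : ∀ x ∈ dodecads, x ∈ A := fun x hx => by
      obtain ⟨g, hg, rfl⟩ := dodecad_transitive (mem_dodecads.2 ⟨hc', e⟩) hx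
      exact h.smul hg hc
    refine h.of_octad (h.add (h2 _ D0_mem) (h2 (unmask (nat_lit 28637)) (unmask_mem_dodecads (by decide +kernel)).1)) ?_
    rw [mem_octads_iff, mask_symmDiff]
    decide +kernel
  · have h2 : ∀ x ∈ octads, xᶜ ∈ A := fun x hx => by
      obtain ⟨g, hg, rfl⟩ := octad_transitive (mem_octads.2 ⟨compl_mem_Cs hc', by
        rw [Finset.card_compl, e, card_Pt]⟩) hx
      rw [← smul_compl', compl_compl]
      exact h.smul hg hc
    refine h.of_octad (h.add (h2 _ O0_mem) (h2 _ Q4_spec.1)) ?_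
    rw [mem_octads_iff, mask_symmDiff, mask_compl, mask_compl]
    decide +kernel
  · exact absurd (Finset.eq_univ_of_card c (e.trans card_Pt.symm)) h1

theorem Inv.duad_of {A : Set (Finset Pt)} (h : Inv A) {r : Finset Pt} (h0 : r.Nonempty) (h4 : r.card ≤ 4)
    (hr : ∀ g ∈ M24, r ∆ (g • r) ∈ A) (p q : Pt) : {p} ∆ {q} ∈ A := by
  by_cases hpq : p = q
  · have := hr 1 (one_mem _)
    rw [one_smul, symmDiff_self] at this
    rwa [hpq, symmDiff_self]
  obtain ⟨a, ha⟩ := h0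
  obtain ⟨b, hb⟩ := exists_notMem r (by omega)
  have hab : a ≠ b := fun e => hb (e ▸ ha)
  obtain ⟨g, hg, e⟩ := exists_agree (swap a b) (s := r) (by omega)
  have h1 := hr g hg
  have h2 : r ∆ (g • r) = {a} ∆ {b} := by
    rw [smul_congr_on e]
    ext x
    rw [Finset.mem_symmDiff, Finset.mem_symmDiff, ← Finset.inv_smul_mem_iff, swap_inv, Perm.smul_def]
    by_cases h1 : x = a
    · subst h1; simp [ha, hb, hab]
    · by_cases h2 : x = b
      · subst h2; simp [ha, hb, h1]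
      · simp [swap_apply_of_ne_of_ne h1 h2, h1, h2]
  obtain ⟨k, hk, e1, e2⟩ := exists_two hab hpq
  have := h.smul hk (h2 ▸ h1)
  rwa [smul_symmDiff', Finset.smul_finset_singleton, Finset.smul_finset_singleton, Perm.smul_def,
    Perm.smul_def, e1, e2] at this

theorem Inv.duad {A : Set (Finset Pt)} (h : Inv A) {s : Finset Pt} (hs : s ∈ A) (hs' : s ∉ Cs) (p q : Pt) :
    {p} ∆ {q} ∈ A := by
  obtain ⟨c, hc, h4⟩ := exists_small_rep s
  have h0 : (s ∆ c).Nonempty := Finset.nonempty_iff_ne_empty.2 fun e =>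
    hs' (by rw [symmDiff_eq_bot.1 e]; exact hc)
  refine h.duad_of h0 h4 (fun g hg => ?_) p q
  have key : ∀ g : Perm Pt, s ∆ c ∆ (g • (s ∆ c)) = (s ∆ (g • s)) ∆ (c ∆ (g • c)) := fun g => by
    rw [smul_symmDiff', symmDiff_symmDiff_symmDiff_comm]
  by_cases hc0 : c = ∅
  · rw [key, hc0, Finset.smul_finset_empty, symmDiff_self, symmDiff_bot]
    exact h.add hs (h.smul hg hs)
  by_cases hc1 : c = Finset.univ
  · rw [key, hc1, Finset.smul_finset_univ, symmDiff_self, symmDiff_bot]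
    exact h.add hs (h.smul hg hs)
  suffices H : Cs ⊆ A from h.add (h.add hs (H hc)) (h.smul hg (h.add hs (H hc)))
  set r := s ∆ c with hr
  have hcard : 8 ≤ c.card ∧ c.card ≤ 16 := by
    rcases card_of_mem_Cs hc with e | e | e | e | e
    · exact absurd (Finset.card_eq_zero.1 e) hc0
    · omega
    · omega
    · omega
    · exact absurd (Finset.eq_univ_of_card c (e.trans card_Pt.symm)) hc1
  obtain ⟨a, ha, har⟩ := Finset.exists_mem_notMem_of_card_lt_card (show r.card < c.card by omega)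
  obtain ⟨b, hb⟩ := exists_notMem (r ∪ c) (lt_of_le_of_lt (Finset.card_union_le _ _) (by omega))
  rw [Finset.notMem_union] at hb
  obtain ⟨k, hk, e⟩ := exists_agree (swap a b) (s := insert a r)
    ((Finset.card_insert_le _ _).trans (by omega))
  have e1 : ∀ x ∈ r, k x = x := fun x hx => by
    rw [e x (Finset.mem_insert_of_mem hx), swap_apply_of_ne_of_ne (fun e : x = a => har (e ▸ hx))
      fun e : x = b => hb.1 (e ▸ hx)]
  have e2 : k • r = r := (smul_congr_on (h := 1) e1).trans (one_smul _ _)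
  have e3 : s ∆ (k • s) = c ∆ (k • c) := by
    have := key k
    rw [e2, symmDiff_self] at this
    exact symmDiff_eq_bot.1 this.symm
  refine h.Cs_sub (e3 ▸ h.add hs (h.smul hk hs)) (symmDiff_mem_Cs hc (smul_mem_Cs hk hc)) (fun e4 => ?_)
    fun e4 => ?_
  · have : b ∈ k • c := Finset.mem_smul_finset.2
      ⟨a, ha, by rw [Perm.smul_def, e a (Finset.mem_insert_self _ _), swap_apply_left]⟩
    exact hb.2 (by rwa [symmDiff_eq_bot.1 e4])
  · obtain ⟨x, hx⟩ := h0
    have h1 : x ∈ c ∆ (k • c) := e4 ▸ Finset.mem_univ x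
    have h2 : x ∈ k • c ↔ x ∈ c := by
      conv_lhs => rw [← e1 x hx]
      exact Finset.smul_mem_smul_finset_iff k
    rw [Finset.mem_symmDiff, h2] at h1
    tauto

theorem inv_of_submodule {W : Submodule (ZMod 2) (Pt → ZMod 2)}
    (hW : ∀ σ ∈ M24, ∀ w ∈ W, (fun p => w (σ.symm p)) ∈ W) : Inv {s | wordOf s ∈ W} :=
  ⟨fun hs ht => by rw [Set.mem_setOf_eq, wordOf_symmDiff]; exact W.add_mem hs ht,
    fun hg hs => by rw [Set.mem_setOf_eq, ← wordOf_smul]; exact hW _ hg _ hs⟩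

theorem zmod2_cases (a : ZMod 2) : a = 0 ∨ a = 1 := by revert a; decide

theorem sum_wordOf (s : Finset Pt) : ∑ p, wordOf s p = s.card := by simp [wordOf]

theorem mem_of_duads {W : Submodule (ZMod 2) (Pt → ZMod 2)} (h : ∀ p q, wordOf ({p} ∆ {q}) ∈ W)
    {w : Pt → ZMod 2} (hw : ∑ p, w p = 0) : w ∈ W := by
  have : w = ∑ p, w p • wordOf ({p} ∆ {none}) := by
    simp only [wordOf_symmDiff, smul_add, Finset.sum_add_distrib, ← Finset.sum_smul, hw, zero_smul, add_zero]
    funext q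
    simp [wordOf]
  rw [this]
  exact W.sum_mem fun p _ => W.smul_mem _ (h p none)

theorem code_cases {W : Submodule (ZMod 2) (Pt → ZMod 2)}
    (hW : ∀ σ ∈ M24, ∀ w ∈ W, (fun p => w (σ.symm p)) ∈ W) (h : W ≤ golayCode) :
    W ≤ Submodule.span (ZMod 2) {fun _ => (1 : ZMod 2)} ∨ W = golayCode := by
  by_cases h1 : ∃ w ∈ W, support₂ w ≠ ∅ ∧ support₂ w ≠ Finset.univ
  · obtain ⟨w, hw, h2, h3⟩ := h1
    refine Or.inr (le_antisymm h fun c hc => ?_)
    have := (inv_of_submodule hW).Cs_sub (c := support₂ w) (by rwa [Set.mem_setOf_eq, wordOf_support₂])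
      (support₂_mem_Cs.2 (h hw)) h2 h3 (support₂_mem_Cs.2 hc)
    rwa [Set.mem_setOf_eq, wordOf_support₂] at this
  · push Not at h1
    refine Or.inl fun w hw => ?_
    rw [← wordOf_support₂ w]
    by_cases h2 : support₂ w = ∅
    · rw [h2, wordOf_empty]; exact zero_mem _
    · rw [h1 w hw (Finset.nonempty_iff_ne_empty.2 h2), wordOf_univ]; exact Submodule.subset_span rfl

theorem one_mem_code : (fun _ : Pt => (1 : ZMod 2)) ∈ golayCode := wordOf_univ ▸ mem_Cs.1 univ_mem_Cs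

/-! ### No fixed coset -/

theorem moves_of_chk {gens : List ℕ} {H : Subgroup (Perm Pt)} (hv : ∀ c ∈ gens, InH H c) (hH : H ≤ M24)
    (h : allP (fun k => force (Nat.mul 4096 k) fun m =>
      bor (Nat.beq k 0) (anyL (fun c => bnot (force (Nat.xor (mapp c m) m) isC)) gens)) 12 0 = true)
    {s : Finset Pt} (hs : s ∉ Cs) : ∃ g ∈ H, (g • s) ∆ s ∉ Cs := by
  obtain ⟨d, hd, k, hk, e⟩ := exists_coset_rep s
  have := allP_zero h k hk
  simp only [force_eq, bor_eq_true, beq_iff, anyL_eq_true, bnot_eq_true] at this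
  rcases this with rfl | ⟨c, hc, h1⟩
  · exact absurd (by rw [symmDiff_eq_bot.1 (mask_inj (e.trans mask_empty.symm))]; exact hd) hs
  · obtain ⟨g, hg, rfl⟩ := hv c hc
    refine ⟨g, hg, fun h2 => h1 ?_⟩
    rw [Nat.mul_eq, ← e, mapp_code, ← mask_symmDiff, ← mem_Cs_iff, smul_symmDiff',
      symmDiff_symmDiff_symmDiff_comm]
    exact symmDiff_mem_Cs h2 (symmDiff_mem_Cs (smul_mem_Cs (hH hg) hd) hd)

theorem moves_conj {x : Finset Pt} (h : ∀ s ∉ Cs, ∃ g ∈ St x, (g • s) ∆ s ∉ Cs) {k : Perm Pt} (hk : k ∈ M24)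
    {s : Finset Pt} (hs : s ∉ Cs) : ∃ g ∈ St (k • x), (g • s) ∆ s ∉ Cs := by
  obtain ⟨g, hg, h1⟩ := h (k⁻¹ • s) (by rwa [smul_mem_Cs_iff (inv_mem hk)])
  refine ⟨_, conj_mem_St hk hg, fun h2 => h1 ?_⟩
  rw [← smul_mem_Cs_iff hk, smul_symmDiff', smul_inv_smul, ← mul_smul, ← mul_smul]
  exact h2

theorem moves_octad {o : Finset Pt} (ho : o ∈ octads) {s : Finset Pt} (hs : s ∉ Cs) :
    ∃ g ∈ St o, (g • s) ∆ s ∉ Cs := by
  obtain ⟨k, hk, rfl⟩ := octad_transitive O0_mem ho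
  exact moves_conj (fun s hs => moves_of_chk gensO_in inf_le_left (by decide +kernel) hs) hk hs

theorem moves_dodecad {o : Finset Pt} (ho : o ∈ dodecads) {s : Finset Pt} (hs : s ∉ Cs) :
    ∃ g ∈ St o, (g • s) ∆ s ∉ Cs := by
  obtain ⟨k, hk, rfl⟩ := dodecad_transitive D0_mem ho
  exact moves_conj (fun s hs => moves_of_chk gensD_in inf_le_left (by decide +kernel) hs) hk hs

theorem moves_code {c : Finset Pt} (hc : c ∈ Cs) {s : Finset Pt} (hs : s ∉ Cs) :
    ∃ g ∈ St c, (g • s) ∆ s ∉ Cs := by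
  rcases card_of_mem_Cs hc with e | e | e | e | e
  · obtain ⟨g, hg, h⟩ := moves_octad O0_mem hs
    exact ⟨g, ⟨hg.1, by rw [Finset.card_eq_zero.1 e]; exact Finset.smul_finset_empty g⟩, h⟩
  · exact moves_octad (mem_octads.2 ⟨hc, e⟩) hs
  · exact moves_dodecad (mem_dodecads.2 ⟨hc, e⟩) hs
  · obtain ⟨g, hg, h⟩ := moves_octad (mem_octads.2 ⟨compl_mem_Cs hc, by
      rw [Finset.card_compl, e, card_Pt]⟩) hs
    exact ⟨g, ⟨hg.1, compl_injective ((smul_compl' g c).symm.trans hg.2)⟩, h⟩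
  · obtain ⟨g, hg, h⟩ := moves_octad O0_mem hs
    exact ⟨g, ⟨hg.1, by rw [Finset.eq_univ_of_card c (e.trans card_Pt.symm)]; exact Finset.smul_finset_univ⟩, h⟩

end

end CA.M24
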